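import Groth.Agent.Amp73.Local
import Groth.Agent.Mero90.Triv

/-!
Modules determined by their sections outside a closed subset.
-/

set_option autoImplicit false
set_option linter.style.haveILetI false

universe u

open CategoryTheory AlgebraicGeometry Opposite TopologicalSpace

noncomputable section

namespace Groth.Agent.ParaF26

open Var76.LineBundle Var76.ZeroScheme

variable {X Y : Scheme.{u}}

/-- Restriction of functions from `V` to `V ⊓ U` is bijective for every `V`. -/
def ResBij (X : Scheme.{u}) (U : X.Opens) : Prop :=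
  ∀ V : X.Opens, Function.Bijective (X.presheaf.map (homOfLE (inf_le_left : V ⊓ U ≤ V)).op)

/-- Below `V` the module is determined by its sections on `U`. -/
def Closed (M : X.Modules) (U V : X.Opens) : Prop :=
  ∀ W : X.Opens, W ≤ V → Function.Bijective (res M (inf_le_left : W ⊓ U ≤ W))

/-- `M` has a frame around every point of `V`. -/
def FramedOn (M : X.Modules) (V : X.Opens) : Prop :=
  ∀ x ∈ V, ∃ (W : X.Opens) (e : Γ(M, W)), x ∈ W ∧ W ≤ V ∧ IsFrame M W e

/-- Modules determined outside the complement of `U` and invertible on `U` are invertible. -/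
def ExtFr (X : Scheme.{u}) (U : X.Opens) : Prop :=
  ∀ (V : X.Opens) (M : X.Modules), FramedOn M (V ⊓ U) → Closed M U V → FramedOn M V

theorem bijective_res_of_eq (M : X.Modules) {U V : X.Opens} (h : V ≤ U) (h' : U ≤ V) :
    Function.Bijective (res M h) := by
  obtain rfl := le_antisymm h h'
  exact ⟨fun a b hab => by rwa [Amp73.res_self, Amp73.res_self] at hab,
    fun b => ⟨b, Amp73.res_self _ b⟩⟩

theorem bijective_map_of_eq {U V : X.Opens} (h : V ≤ U) (h' : U ≤ V) :
    Function.Bijective (X.presheaf.map (homOfLE h).op) := by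
  haveI : IsIso (homOfLE h) := ⟨homOfLE h', Subsingleton.elim _ _, Subsingleton.elim _ _⟩
  exact ConcreteCategory.bijective_of_isIso _

theorem closed_structureModule {U : X.Opens} (h : ResBij X U) (V : X.Opens) :
    Closed (Coh.structureModule X) U V := fun W _ => h W

theorem closed_of_iso {M N : X.Modules} (φ : M ≅ N) {U V : X.Opens} (h : Closed M U V) : Closed N U V :=
  fun W hW => by
    have e : res N (inf_le_left : W ⊓ U ≤ W) ∘ φ.hom.app W =
        φ.hom.app (W ⊓ U) ∘ res M (inf_le_left : W ⊓ U ≤ W) :=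
      funext fun m => (Mero90.app_res φ.hom inf_le_left m).symm
    refine (Function.Bijective.of_comp_iff _ (ConcreteCategory.bijective_of_isIso (φ.hom.app W))).1 ?_
    rw [e]
    exact (ConcreteCategory.bijective_of_isIso (φ.hom.app (W ⊓ U))).comp (h W hW)

theorem closed_of_frame {U : X.Opens} (hU : ResBij X U) {M : X.Modules} {W : X.Opens} {e : Γ(M, W)}
    (he : IsFrame M W e) : Closed M U W := fun W' hW' => by
  refine (Function.Bijective.of_comp_iff _ (he W' hW')).1 ?_
  have key : res M (inf_le_left : W' ⊓ U ≤ W') ∘ (fun a : Γ(X, W') => a • res M hW' e) =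
      (fun a : Γ(X, W' ⊓ U) => a • res M (inf_le_left.trans hW') e) ∘
        X.presheaf.map (homOfLE (inf_le_left : W' ⊓ U ≤ W')).op := by
    funext a
    simp only [Function.comp_apply, res_smul, res_res]
  rw [key]
  exact (he _ _).comp (hU W')

theorem closed_of_locally {U V : X.Opens} {M : X.Modules}
    (h : ∀ x ∈ V, ∃ W : X.Opens, x ∈ W ∧ Closed M U W) : Closed M U V := by
  intro W hW
  choose N hx hN using fun x : W => h x.1 (hW x.2)
  refine ⟨fun a b hab => eq_of_locally M _ _ fun x hxW => ⟨W ⊓ N ⟨x, hxW⟩, inf_le_left,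
    ⟨hxW, hx _⟩, (hN ⟨x, hxW⟩ _ inf_le_right).1 ?_⟩, fun t => ?_⟩
  · rw [res_res, res_res, ← res_res M inf_le_left (inf_le_inf_right U inf_le_left), hab, res_res]
  · choose s hs using fun x : W => (hN x (W ⊓ N x) inf_le_right).2
      (res M (inf_le_inf_right U (inf_le_left : W ⊓ N x ≤ W)) t)
    have compat : ∀ x y : W, res M (inf_le_left : (W ⊓ N x) ⊓ (W ⊓ N y) ≤ W ⊓ N x) (s x) =
        res M (inf_le_right : (W ⊓ N x) ⊓ (W ⊓ N y) ≤ W ⊓ N y) (s y) := fun x y => by
      refine (hN x _ (inf_le_left.trans inf_le_right)).1 ?_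
      rw [res_res, res_res,
        ← res_res M (inf_le_left : (W ⊓ N x) ⊓ U ≤ W ⊓ N x) (inf_le_inf_right U inf_le_left) (s x), hs,
        res_res,
        ← res_res M (inf_le_left : (W ⊓ N y) ⊓ U ≤ W ⊓ N y) (inf_le_inf_right U inf_le_right) (s y), hs,
        res_res]
    obtain ⟨r, hr, -⟩ := TopCat.Sheaf.existsUnique_gluing' ⟨M.presheaf, M.isSheaf⟩
      (fun x : W => W ⊓ N x) W (fun x => homOfLE inf_le_left)
      (fun y hy => Opens.mem_iSup.2 ⟨⟨y, hy⟩, hy, hx _⟩) s compat
    refine ⟨r, eq_of_locally M _ _ fun y hy => ⟨(W ⊓ N ⟨y, hy.1⟩) ⊓ U, inf_le_inf_right U inf_le_left,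
      ⟨⟨hy.1, hx _⟩, hy.2⟩, ?_⟩⟩
    rw [res_res, ← hs ⟨y, hy.1⟩,
      ← res_res M (inf_le_left : W ⊓ N ⟨y, hy.1⟩ ≤ W) (inf_le_left : (W ⊓ N ⟨y, hy.1⟩) ⊓ U ≤ _) r]
    exact congrArg _ (hr ⟨y, hy.1⟩)

theorem closed_of_framedOn {U V : X.Opens} (hU : ResBij X U) {M : X.Modules} (h : FramedOn M V) :
    Closed M U V :=
  closed_of_locally fun x hx => by
    obtain ⟨W, e, hxW, -, he⟩ := h x hx
    exact ⟨W, hxW, closed_of_frame hU he⟩

theorem framedOn_of_invertible {M : X.Modules} (h : PicF.IsInvertible M) (V : X.Opens) : FramedOn M V :=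
  fun x hx => by
    obtain ⟨W, hxW, e, he⟩ := Mero90.exists_frame' h x
    exact ⟨V ⊓ W, _, ⟨hx, hxW⟩, inf_le_left, he.res inf_le_right⟩

theorem isInvertible_of_framedOn {M : X.Modules} (h : FramedOn M ⊤) : PicF.IsInvertible M :=
  Mero90.isInvertible_of_frames fun x => by
    obtain ⟨W, e, hx, -, he⟩ := h x trivial
    exact ⟨W, hx, e, he⟩

theorem framedOn_mono {M : X.Modules} {V V' : X.Opens} (hle : V' ≤ V) (h : FramedOn M V) : FramedOn M V' :=
  fun x hx => by
    obtain ⟨W, e, hxW, -, he⟩ := h x (hle hx)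
    exact ⟨V' ⊓ W, _, ⟨hx, hxW⟩, inf_le_left, he.res inf_le_right⟩

theorem framedOn_of_iso {M N : X.Modules} (φ : M ≅ N) {V : X.Opens} (h : FramedOn M V) : FramedOn N V :=
  fun x hx => by
    obtain ⟨W, e, hxW, hW, he⟩ := h x hx
    exact ⟨W, φ.hom.app W e, hxW, hW, (Amp73.isFrame_app_iff φ.hom e).2 he⟩

section Push

variable (g : Y ⟶ X) [IsOpenImmersion g]

/-- Functions on `g ⁻¹ᵁ W` are those on `W ⊓ g.opensRange`. -/
theorem bijective_app {W : X.Opens}
    (h : Function.Bijective (X.presheaf.map (homOfLE (inf_le_left : W ⊓ g.opensRange ≤ W)).op)) :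
    Function.Bijective (g.app W) := by
  have e : ((g.appIso (g ⁻¹ᵁ W)).inv : _ → _) ∘ g.app W =
      X.presheaf.map (homOfLE (g.image_preimage_le W)).op :=
    funext fun a => ConcreteCategory.congr_hom (g.app_appIso_inv W) a
  refine (Function.Bijective.of_comp_iff' (ConcreteCategory.bijective_of_isIso (g.appIso (g ⁻¹ᵁ W)).inv) (g.app W)).1 ?_
  rw [e]
  have hW : g ''ᵁ (g ⁻¹ᵁ W) = W ⊓ g.opensRange := by
    rw [Scheme.Hom.image_preimage_eq_opensRange_inf, inf_comm]
  have e2 : (X.presheaf.map (homOfLE (g.image_preimage_le W)).op : _ → _) =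
      X.presheaf.map (homOfLE hW.le).op ∘ X.presheaf.map (homOfLE (inf_le_left : W ⊓ g.opensRange ≤ W)).op := by
    funext a
    simp only [Function.comp_apply, ← ConcreteCategory.comp_apply, ← Functor.map_comp, ← op_comp,
      homOfLE_comp]
  rw [e2]
  exact (bijective_map_of_eq _ hW.ge).comp h

theorem bijective_app_of_le {W : X.Opens} (h : W ≤ g.opensRange) : Function.Bijective (g.app W) :=
  bijective_app g (bijective_map_of_eq _ (le_inf le_rfl h))

theorem preimage_inf_opensRange (W : X.Opens) : g ⁻¹ᵁ (W ⊓ g.opensRange) = g ⁻¹ᵁ W := by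
  exact le_antisymm (g.preimage_mono inf_le_left) fun y hy => ⟨hy, y, rfl⟩

theorem closed_pushforward (L : Y.Modules) {U : X.Opens} (V : X.Opens)
    (h : V ⊓ g.opensRange ≤ U) : Closed ((Scheme.Modules.pushforward g).obj L) U V := fun W hW => by
  refine bijective_res_of_eq L (g.preimage_mono inf_le_left) fun y hy => ⟨hy, h ⟨hW hy, y, rfl⟩⟩

theorem isFrame_push {L : Y.Modules} {W : X.Opens} {e : Γ(L, g ⁻¹ᵁ W)}
    (hres : ∀ W' : X.Opens, W' ≤ W → Function.Bijective (g.app W'))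
    (he : IsFrame L (g ⁻¹ᵁ W) e) : IsFrame ((Scheme.Modules.pushforward g).obj L) W e := fun W' hW' =>
  (he (g ⁻¹ᵁ W') (g.preimage_mono hW')).comp (hres W' hW')

theorem isFrame_of_push {L : Y.Modules} {W : X.Opens} {e : Γ(L, g ⁻¹ᵁ W)} (hW : W ≤ g.opensRange)
    (he : IsFrame ((Scheme.Modules.pushforward g).obj L) W e) : IsFrame L (g ⁻¹ᵁ W) e := by
  intro V hV
  obtain ⟨W', hW', rfl⟩ : ∃ W', W' ≤ W ∧ g ⁻¹ᵁ W' = V :=
    ⟨g ''ᵁ V, (g.image_mono hV).trans (g.image_preimage_le W), g.preimage_image_eq V⟩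
  exact (Function.Bijective.of_comp_iff _ (bijective_app_of_le g (hW'.trans hW))).1 (he W' hW')

theorem framedOn_push {L : Y.Modules} (hL : PicF.IsInvertible L) {V : X.Opens} (hV : V ≤ g.opensRange) :
    FramedOn ((Scheme.Modules.pushforward g).obj L) V := by
  intro x hx
  obtain ⟨y, rfl⟩ := hV hx
  obtain ⟨W, hyW, e, he⟩ := Mero90.exists_frame' hL y
  have hle : g ⁻¹ᵁ (g ''ᵁ W ⊓ V) ≤ W := fun z hz => (g.preimage_image_eq W).le hz.1
  exact ⟨g ''ᵁ W ⊓ V, _, ⟨⟨y, hyW, rfl⟩, hx⟩, inf_le_right,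
    isFrame_push g (fun W' hW' => bijective_app_of_le g ((hW'.trans inf_le_right).trans hV)) (he.res hle)⟩

theorem isInvertible_of_framedOn_push {L : Y.Modules}
    (h : FramedOn ((Scheme.Modules.pushforward g).obj L) g.opensRange) : PicF.IsInvertible L := by
  refine Mero90.isInvertible_of_frames fun y => ?_
  obtain ⟨W, e, hyW, hW, he⟩ := h (g y) ⟨y, rfl⟩
  exact ⟨g ⁻¹ᵁ W, hyW, e, isFrame_of_push g hW he⟩

theorem framedOn_restrict {M : X.Modules} {V : X.Opens} (h : FramedOn M V) :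
    FramedOn (M.restrict g) (g ⁻¹ᵁ V) := by
  intro y hy
  obtain ⟨W, e, hyW, hW, he⟩ := h (g y) hy
  exact ⟨g ⁻¹ᵁ W, _, hyW, g.preimage_mono hW,
    (Amp73.isFrame_restrict_iff g M _ _).2 (he.res (g.image_preimage_le W))⟩

theorem framedOn_of_restrict {M : X.Modules} {W : Y.Opens} (h : FramedOn (M.restrict g) W) :
    FramedOn M (g ''ᵁ W) := by
  rintro _ ⟨y, hy, rfl⟩
  obtain ⟨W', e, hyW, hW, he⟩ := h y hy
  exact ⟨g ''ᵁ W', e, ⟨y, hyW, rfl⟩, g.image_mono hW, (Amp73.isFrame_restrict_iff g M _ _).1 he⟩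

theorem isInvertible_restrict_of_framedOn {M : X.Modules} (h : FramedOn M g.opensRange) :
    PicF.IsInvertible (M.restrict g) := by
  refine isInvertible_of_framedOn ?_
  rw [show (⊤ : Y.Opens) = g ⁻¹ᵁ g.opensRange from g.preimage_opensRange.symm]
  exact framedOn_restrict g h

end Push

end Groth.Agent.ParaF26
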