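import Groth.Agent.ParaF26.Pair

/-!
Parafactoriality: passing to opens, covers, smaller closed subsets.
-/

set_option autoImplicit false
set_option linter.style.haveILetI false

universe u

open CategoryTheory AlgebraicGeometry Opposite TopologicalSpace

noncomputable section

namespace Groth.Agent.ParaF26

open Var76.LineBundle Var76.ZeroScheme

variable {X : Scheme.{u}}

theorem image_ι_le (W : X.Opens) (T : (W : Scheme.{u}).Opens) : W.ι ''ᵁ T ≤ W :=
  (W.ι.image_le_opensRange T).trans W.opensRange_ι.le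

theorem image_inf_preimage (W U : X.Opens) (T : (W : Scheme.{u}).Opens) :
    W.ι ''ᵁ (T ⊓ W.ι ⁻¹ᵁ U) = W.ι ''ᵁ T ⊓ U := by
  rw [image_inf, Scheme.Hom.image_preimage_eq_opensRange_inf, Scheme.Opens.opensRange_ι, ← inf_assoc,
    inf_eq_left.2 (image_ι_le W T)]

theorem image_preimage_of_le (W T : X.Opens) (h : T ≤ W) : W.ι ''ᵁ (W.ι ⁻¹ᵁ T) = T := by
  rw [Scheme.Hom.image_preimage_eq_opensRange_inf, Scheme.Opens.opensRange_ι, inf_eq_right.2 h]

/-- Restriction of sections to `W.ι ⁻¹ᵁ U` inside `W`, seen in `X`. -/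
theorem restrict_res_bijective_iff (M : X.Modules) (W U : X.Opens) (T : (W : Scheme.{u}).Opens) :
    Function.Bijective (res (M.restrict W.ι) (inf_le_left : T ⊓ W.ι ⁻¹ᵁ U ≤ T)) ↔
      Function.Bijective (res M (inf_le_left : W.ι ''ᵁ T ⊓ U ≤ W.ι ''ᵁ T)) := by
  have hW := image_inf_preimage W U T
  have e : (res (M.restrict W.ι) (inf_le_left : T ⊓ W.ι ⁻¹ᵁ U ≤ T) : _ → _) =
      res M hW.le ∘ res M (inf_le_left : W.ι ''ᵁ T ⊓ U ≤ W.ι ''ᵁ T) := by
    funext a
    rw [Function.comp_apply, res_res]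
    rfl
  rw [e]
  exact Function.Bijective.of_comp_iff' (bijective_res_of_eq M _ hW.ge) _

theorem structure_res_bijective_iff (W U : X.Opens) (T : (W : Scheme.{u}).Opens) :
    Function.Bijective ((W : Scheme.{u}).presheaf.map (homOfLE (inf_le_left : T ⊓ W.ι ⁻¹ᵁ U ≤ T)).op) ↔
      Function.Bijective (X.presheaf.map (homOfLE (inf_le_left : W.ι ''ᵁ T ⊓ U ≤ W.ι ''ᵁ T)).op) :=
  restrict_res_bijective_iff (Coh.structureModule X) W U T

theorem closed_restrict {M : X.Modules} {U V : X.Opens} (h : Closed M U V) (W : X.Opens) :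
    Closed (M.restrict W.ι) (W.ι ⁻¹ᵁ U) (W.ι ⁻¹ᵁ V) := fun T hT =>
  (restrict_res_bijective_iff M W U T).2 (h _ ((W.ι.image_mono hT).trans (W.ι.image_preimage_le V)))

theorem resBij_open {U : X.Opens} (h : ResBij X U) (W : X.Opens) :
    ResBij (W : Scheme.{u}) (W.ι ⁻¹ᵁ U) := fun T => (structure_res_bijective_iff W U T).2 (h _)

theorem extFr_open {U : X.Opens} (h : ExtFr X U) (W : X.Opens) :
    ExtFr (W : Scheme.{u}) (W.ι ⁻¹ᵁ U) := by
  intro V M hM hc
  let V' : X.Opens := W.ι ''ᵁ V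
  let M' := (Scheme.Modules.pushforward W.ι).obj M
  have hV' : V' ≤ W := image_ι_le W V
  have hpre : W.ι ⁻¹ᵁ V' = V := W.ι.preimage_image_eq V
  have hfr : FramedOn M' (V' ⊓ U) := by
    rintro x hx
    obtain ⟨T, e, hxT, hT, he⟩ := hM ⟨x, hV' hx.1⟩ ⟨hpre.le hx.1, hx.2⟩
    have hle : W.ι ''ᵁ T ≤ V' ⊓ U := le_inf (W.ι.image_mono (hT.trans inf_le_left))
      ((W.ι.image_mono (hT.trans inf_le_right)).trans (W.ι.image_preimage_le U))
    exact ⟨W.ι ''ᵁ T, _, ⟨⟨x, hV' hx.1⟩, hxT, rfl⟩, hle,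
      isFrame_push W.ι (fun S hS => bijective_app_of_le W.ι
        ((hS.trans (image_ι_le W T)).trans W.opensRange_ι.ge))
        (he.res (W.ι.preimage_image_eq T).le)⟩
  have hcl : Closed M' U V' := fun T hT => hc (W.ι ⁻¹ᵁ T) (hpre ▸ W.ι.preimage_mono hT)
  intro v hv
  obtain ⟨T, e, hxT, hT, he⟩ := h V' M' hfr hcl v.1 ⟨v, hv, rfl⟩
  exact ⟨W.ι ⁻¹ᵁ T, e, hxT, (W.ι.preimage_mono hT).trans hpre.le,
    isFrame_of_push W.ι ((hT.trans hV').trans W.opensRange_ι.ge) he⟩

theorem resBij_of_cover {ι : Type u} (W : ι → X.Opens) (hW : ⨆ i, W i = ⊤) {U : X.Opens}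
    (h : ∀ i, ResBij (W i : Scheme.{u}) ((W i).ι ⁻¹ᵁ U)) : ResBij X U := by
  have key : Closed (Coh.structureModule X) U ⊤ := closed_of_locally fun x _ => by
    obtain ⟨i, hi⟩ := Opens.mem_iSup.1 (hW.ge (show x ∈ (⊤ : X.Opens) from trivial))
    refine ⟨W i, hi, fun T hT => ?_⟩
    have h1 := (structure_res_bijective_iff (W i) U ((W i).ι ⁻¹ᵁ T)).1 (h i _)
    revert h1
    generalize hT' : (W i).ι ''ᵁ ((W i).ι ⁻¹ᵁ T) = T'
    obtain rfl : T' = T := hT'.symm.trans (image_preimage_of_le _ _ hT)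
    exact id
  exact fun V => key V le_top

theorem extFr_of_cover {ι : Type u} (W : ι → X.Opens) (hW : ⨆ i, W i = ⊤) {U : X.Opens}
    (h : ∀ i, ExtFr (W i : Scheme.{u}) ((W i).ι ⁻¹ᵁ U)) : ExtFr X U := by
  intro V M hM hc x hx
  obtain ⟨i, hi⟩ := Opens.mem_iSup.1 (hW.ge (show x ∈ (⊤ : X.Opens) from trivial))
  have hfr := framedOn_restrict (W i).ι hM
  obtain ⟨T, e, hxT, hT, he⟩ := framedOn_of_restrict (W i).ι (h i _ _ hfr (closed_restrict hc (W i))) x
    ⟨⟨x, hi⟩, hx, rfl⟩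
  exact ⟨T, e, hxT, hT.trans ((W i).ι.image_preimage_le V), he⟩

theorem resBij_mono {U U' : X.Opens} (hle : U ≤ U') (h : ResBij X U) : ResBij X U' := by
  intro V
  have h2 : Function.Bijective (X.presheaf.map (homOfLE (inf_le_inf_left V hle)).op) := by
    have h1 := h (V ⊓ U')
    have e : ∀ (T : X.Opens) (hT : T ≤ V ⊓ U'), (V ⊓ U' ⊓ U = T) →
        Function.Bijective (X.presheaf.map (homOfLE hT).op) := by
      rintro T hT rfl
      exact h1
    exact e _ _ (by rw [inf_assoc, inf_eq_right.2 hle])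
  refine (Function.Bijective.of_comp_iff' h2 _).1 ?_
  convert h V using 1
  funext a
  simp only [Function.comp_apply, ← ConcreteCategory.comp_apply, ← Functor.map_comp, ← op_comp, homOfLE_comp]

theorem closed_mono {M : X.Modules} {U U' V : X.Opens} (hle : U ≤ U') (hres : ResBij X U)
    (hM : FramedOn M (V ⊓ U')) (hc : Closed M U' V) : Closed M U V := by
  intro T hT
  have h2 : Function.Bijective (res M (inf_le_inf_left T hle)) := by
    have h1 := closed_of_framedOn hres hM (T ⊓ U') (inf_le_inf_right U' hT)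
    have e : ∀ (S : X.Opens) (hS : S ≤ T ⊓ U'), (T ⊓ U' ⊓ U = S) → Function.Bijective (res M hS) := by
      rintro S hS rfl
      exact h1
    exact e _ _ (by rw [inf_assoc, inf_eq_right.2 hle])
  convert h2.comp (hc T hT) using 1
  funext a
  rw [Function.comp_apply, res_res]

theorem extFr_mono {U U' : X.Opens} (hle : U ≤ U') (hres : ResBij X U) (h : ExtFr X U) : ExtFr X U' :=
  fun V M hM hc => h V M (framedOn_mono (inf_le_inf_left V hle) hM) (closed_mono hle hres hM hc)

/-- A section generating on the complement generates, for a module determined there. -/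
theorem isFrame_of_closed {M : X.Modules} {U W : X.Opens} {e : Γ(M, W)} (hres : ResBij X U)
    (hc : Closed M U W) (he : IsFrame M (W ⊓ U) (res M inf_le_left e)) : IsFrame M W e := by
  intro T hT
  refine (Function.Bijective.of_comp_iff' (hc T hT) _).1 ?_
  have key : res M (inf_le_left : T ⊓ U ≤ T) ∘ (fun a : Γ(X, T) => a • res M hT e) =
      (fun a : Γ(X, T ⊓ U) => a • res M (inf_le_inf_right U hT) (res M inf_le_left e)) ∘
        X.presheaf.map (homOfLE (inf_le_left : T ⊓ U ≤ T)).op := by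
    funext a
    simp only [Function.comp_apply, res_smul, res_res]
  rw [key]
  exact (he _ _).comp (hres T)

/-- A global frame trivialises the module. -/
theorem nonempty_iso_unit {M : X.Modules} {e : Γ(M, ⊤)} (he : IsFrame M ⊤ e) :
    Nonempty (M ≅ Coh.structureModule X) := by
  haveI : IsIso (EGA73.unitHom M e) := by
    rw [Scheme.Modules.Hom.isIso_iff_isIso_app]
    exact fun V => (ConcreteCategory.isIso_iff_bijective _).2 (he V le_top)
  exact ⟨(asIso (EGA73.unitHom M e)).symm⟩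

theorem isFrame_one : IsFrame (Coh.structureModule X) ⊤ (1 : Γ(X, ⊤)) := fun V hV => by
  have e : (fun a : Γ(X, V) => a • res (Coh.structureModule X) hV (1 : Γ(X, ⊤))) = id := by
    funext a
    show a * (X.presheaf.map (homOfLE hV).op) 1 = a
    rw [map_one, mul_one]
  rw [e]
  exact Function.bijective_id

theorem exists_frame_of_iso_unit {M : X.Modules} (φ : M ≅ Coh.structureModule X) :
    ∃ e : Γ(M, ⊤), IsFrame M ⊤ e :=
  ⟨φ.inv.app ⊤ (1 : Γ(X, ⊤)), (Amp73.isFrame_app_iff φ.inv _).2 isFrame_one⟩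

end Groth.Agent.ParaF26
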