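import Groth.Agent.ParaF26.UFD
import Groth.Agent.S2824

/-!
Parafactoriality of Noetherian local rings.
-/

set_option autoImplicit false
set_option linter.style.haveILetI false

universe u

open CategoryTheory AlgebraicGeometry Opposite TopologicalSpace

noncomputable section

namespace Groth.Agent.ParaF26

open Var76.LineBundle Var76.ZeroScheme

variable {A : Type u} [CommRing A] [IsNoetherianRing A] [IsLocalRing A]

theorem depth_stalk_eq (x : ↥(Spec (CommRingCat.of A))) (p : Ideal A) [p.IsPrime]
    (hp : (x : PrimeSpectrum A).asIdeal = p) :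
    LocCoh.depth ((Spec (CommRingCat.of A)).presheaf.stalk x) ((Spec (CommRingCat.of A)).presheaf.stalk x) =
      LocCoh.depth (Localization.AtPrime p) (Localization.AtPrime p) :=
  depth_stalk_spec (A := CommRingCat.of A) x p hp

theorem depth_atMaximal :
    LocCoh.depth (Localization.AtPrime (IsLocalRing.maximalIdeal A))
      (Localization.AtPrime (IsLocalRing.maximalIdeal A)) = LocCoh.depth A A := by
  haveI : IsNoetherianRing (Localization.AtPrime (IsLocalRing.maximalIdeal A)) :=
    IsLocalization.isNoetherianRing (IsLocalRing.maximalIdeal A).primeCompl _ inferInstance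
  refine (CAlg1.depth_eq_of_ringEquiv (IsLocalization.atUnits A (IsLocalRing.maximalIdeal A).primeCompl
    (S := Localization.AtPrime (IsLocalRing.maximalIdeal A)) fun x hx => ?_).toRingEquiv).symm
  by_contra h
  exact hx ((IsLocalRing.mem_maximalIdeal x).2 h)

theorem not_mem_punctured_iff (x : ↥(Spec (CommRingCat.of A))) :
    x ∉ FEt.puncturedSpec A ↔ (x : PrimeSpectrum A).asIdeal = IsLocalRing.maximalIdeal A := by
  refine ⟨fun h => ?_, fun h hx => hx (PrimeSpectrum.ext h)⟩
  have h' : (x : PrimeSpectrum A) = IsLocalRing.closedPoint A := not_not.1 h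
  rw [h']; rfl

/-- Restriction to the punctured spectrum is bijective exactly in depth two. -/
theorem resBij_punctured_iff :
    ResBij (Spec (CommRingCat.of A)) (FEt.puncturedSpec A) ↔ (2 : ℕ∞) ≤ LocCoh.depth A A := by
  constructor
  · intro h
    refine (two_le_depth_of_resBij h (IsLocalRing.closedPoint A) (fun hx => hx rfl)).trans ?_
    rw [depth_stalk_eq _ (IsLocalRing.maximalIdeal A) rfl, depth_atMaximal]
  · intro h
    refine resBij_of_depth fun x hx => ?_
    rw [depth_stalk_eq x (IsLocalRing.maximalIdeal A) ((not_mem_punctured_iff x).1 hx), depth_atMaximal]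
    exact h

/-- Parafactorial means depth two and trivial Picard group of the punctured spectrum. -/
theorem parafactorial_iff :
    ParaF.IsParafactorialLocalRing A ↔
      ((2 : ℕ∞) ≤ LocCoh.depth A A ∧ ParaF.PicTrivial (FEt.puncturedSpec A : Scheme.{u})) := by
  constructor
  · intro h
    exact ⟨resBij_punctured_iff.1 ((isParafactorialPair_iff _).1 h).1,
      ((S2824.result A).1 h).2⟩
  · rintro ⟨hd, hp⟩
    refine (S2824.result A).2 ⟨?_, hp⟩
    have h1 : ∀ (T : (Spec (CommRingCat.of A)).Opens) (hT : T ≤ ⊤), (⊤ ⊓ FEt.puncturedSpec A = T) →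
        Function.Bijective ((Spec (CommRingCat.of A)).presheaf.map (homOfLE hT).op) := by
      rintro T hT rfl
      exact resBij_punctured_iff.2 hd ⊤
    exact h1 _ _ (top_inf_eq _)

end Groth.Agent.ParaF26
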