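import Groth.Agent.ParaF26.TildeBridge
import Groth.Agent.ParaF26.Local
import Groth.Agent.QCRes72.Basic
import Groth.Agent.TildePull72.Basic
import Groth.Agent.Amp73.PullTensor
import Groth.Agent.Mero90.Triv

/-!
Spreading out invertible modules from the punctured spectrum of a local ring.
-/

set_option autoImplicit false
set_option linter.style.haveILetI false
set_option backward.isDefEq.respectTransparency.types false

universe u

open CategoryTheory AlgebraicGeometry Opposite TopologicalSpace TensorProduct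

noncomputable section

namespace Groth.Agent.ParaF26

open Var76.LineBundle Var76.ZeroScheme

section General

variable {X Y : Scheme.{u}}

/-- Pullback of a restriction. -/
theorem nonempty_pull_restrict (f : X ⟶ Y) (M : Y.Modules) (O : Y.Opens) {U : X.Opens} (h : f ⁻¹ᵁ O = U) :
    ∃ g : (U : Scheme.{u}) ⟶ (O : Scheme.{u}),
      Nonempty (((Scheme.Modules.pullback f).obj M).restrict U.ι ≅
        (Scheme.Modules.pullback g).obj (M.restrict O.ι)) := by
  subst h
  exact ⟨f ∣_ O, ⟨((Amp73.pullRestrictIso f O).app M).symm ≪≫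
    (Scheme.Modules.pullback (f ∣_ O)).mapIso ((Scheme.Modules.restrictFunctorIsoPullback O.ι).app M).symm⟩⟩

theorem isInvertible_pull_restrict (f : X ⟶ Y) (M : Y.Modules) (O : Y.Opens) {U : X.Opens}
    (h : f ⁻¹ᵁ O = U) (hM : PicF.IsInvertible (M.restrict O.ι)) :
    PicF.IsInvertible (((Scheme.Modules.pullback f).obj M).restrict U.ι) := by
  obtain ⟨g, ⟨i⟩⟩ := nonempty_pull_restrict f M O h
  exact EGA73.isInvertible_of_iso i.symm (Amp73.isInvertible_pullback g hM)

theorem trivial_pull_restrict (f : X ⟶ Y) (M : Y.Modules) (O : Y.Opens) {U : X.Opens}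
    (h : f ⁻¹ᵁ O = U) (hM : Nonempty (M.restrict O.ι ≅ Coh.structureModule (O : Scheme.{u}))) :
    Nonempty (((Scheme.Modules.pullback f).obj M).restrict U.ι ≅ Coh.structureModule (U : Scheme.{u})) := by
  obtain ⟨g, ⟨i⟩⟩ := nonempty_pull_restrict f M O h
  exact ⟨i ≪≫ (Scheme.Modules.pullback g).mapIso hM.some ≪≫ PicLoc.pullbackStructureIso g⟩

theorem exists_frame_of_restrict_iso {M : X.Modules} {O : X.Opens}
    (φ : M.restrict O.ι ≅ Coh.structureModule (O : Scheme.{u})) : ∃ e : Γ(M, O), IsFrame M O e := by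
  obtain ⟨e, he⟩ := exists_frame_of_iso_unit φ
  exact ⟨_, ((Amp73.isFrame_restrict_iff O.ι M _ _).1 he).res O.ι_image_top.ge⟩

theorem frame_transfer {M N : X.Modules} {O W : X.Opens} (i : N.restrict O.ι ≅ M.restrict O.ι)
    (hW : W ≤ O) {e : Γ(N, W)} (he : IsFrame N W e) : ∃ e' : Γ(M, W), IsFrame M W e' := by
  have h1 : IsFrame (N.restrict O.ι) (O.ι ⁻¹ᵁ W) (res N (O.ι.image_preimage_le W) e) :=
    (Amp73.isFrame_restrict_iff O.ι N _ _).2 (he.res _)
  have h2 := (Amp73.isFrame_restrict_iff O.ι M _ _).1 ((Amp73.isFrame_app_iff i.hom _).2 h1)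
  exact ⟨_, h2.res (image_preimage_of_le O W hW).ge⟩

theorem framedOn_of_isInvertible_restrict {M : X.Modules} {O : X.Opens}
    (h : PicF.IsInvertible (M.restrict O.ι)) : FramedOn M O := by
  have := framedOn_of_restrict O.ι (framedOn_of_invertible h ⊤)
  rwa [O.ι_image_top] at this

theorem isInvertible_restrict_of_framedOn' {M : X.Modules} {O : X.Opens} (h : FramedOn M O) :
    PicF.IsInvertible (M.restrict O.ι) :=
  isInvertible_restrict_of_framedOn O.ι (framedOn_mono O.opensRange_ι.le h)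

end General

section Affine

variable {R : CommRingCat.{u}} [IsNoetherianRing R]

/-- An invertible module on an open of `Spec R` comes from a finite module. -/
theorem exists_finite_model (O : (Spec R).Opens) (L : (O : Scheme.{u}).Modules) (hL : PicF.IsInvertible L) :
    ∃ (T : ModuleCat.{u} R), Nonempty (L ≅ (tilde T).restrict O.ι) ∧ ∃ s : Finset (R × T),
      (∀ p ∈ s, (PrimeSpectrum.basicOpen p.1 : (Spec R).Opens) ≤ O ∧
          BijAway (LinearMap.toSpanSingleton R T p.2) p.1) ∧
        ∀ q : PrimeSpectrum R, q ∈ O → ∃ p ∈ s, p.1 ∉ q.asIdeal := by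
  haveI : L.IsQuasicoherent := Mero90.isQCoh_of_isInvertible hL
  obtain ⟨T, ⟨i⟩⟩ := QCRes72.exists_iso_restrict_tilde
    (TopologicalSpace.NoetherianSpace.isCompact (O : Set (Spec R))) L
  exact ⟨T, ⟨i⟩, exists_generators
    (framedOn_of_isInvertible_restrict (EGA73.isInvertible_of_iso i hL))⟩

omit [IsNoetherianRing R] in
theorem span_bijAway {B : Type*} [CommRing B] {T : Type*} [AddCommGroup T] [Module B T] {s : Submodule B T}
    {t : T} (ht : t ∈ s) {g : B} (h : BijAway (LinearMap.toSpanSingleton B T t) g) :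
    BijAway (LinearMap.toSpanSingleton B s ⟨t, ht⟩) g ∧ BijAway s.subtype g := by
  refine ⟨⟨fun a ha => h.inj a (congrArg Subtype.val ha), fun y => ?_⟩,
    ⟨fun x hx => ⟨0, by rw [pow_zero, one_smul]; exact Subtype.ext hx⟩, fun y => ?_⟩⟩
  · obtain ⟨k, a, ha⟩ := h.surj y.1
    exact ⟨k, a, Subtype.ext ha⟩
  · obtain ⟨k, a, ha⟩ := h.surj y
    exact ⟨k, ⟨a • t, s.smul_mem a ht⟩, ha⟩

omit [IsNoetherianRing R] in
theorem nonempty_span_restrict_iso {T : ModuleCat.{u} R} {O : (Spec R).Opens} (N : Submodule R T)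
    (h : ∀ q : PrimeSpectrum R, q ∈ O → ∃ g : R, g ∉ q.asIdeal ∧ BijAway N.subtype g) :
    Nonempty ((tilde (ModuleCat.of R N)).restrict O.ι ≅ (tilde T).restrict O.ι) := by
  let f : ModuleCat.of R N ⟶ T := ModuleCat.ofHom N.subtype
  haveI := LC15.PU.isIso_restrict_tilde_map f O fun q hq => by
    obtain ⟨g, hg, hb⟩ := h q hq
    exact ⟨g, hg, hb.localized⟩
  exact ⟨asIso ((Scheme.Modules.restrictFunctor O.ι).map (tilde.map f))⟩

/-- The complement of the closure of a point. -/
def away (p : PrimeSpectrum R) : (Spec R).Opens :=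
  ⟨(PrimeSpectrum.zeroLocus (p.asIdeal : Set R))ᶜ, (PrimeSpectrum.isClosed_zeroLocus _).isOpen_compl⟩

omit [IsNoetherianRing R] in
theorem mem_away (p q : PrimeSpectrum R) : q ∈ away p ↔ ¬ p.asIdeal ≤ q.asIdeal := Iff.rfl

variable (p : PrimeSpectrum R) (A : Type u) [CommRing A] [IsLocalRing A] [Algebra R A]
  [IsLocalization.AtPrime A p.asIdeal]

/-- The map `Spec A ⟶ Spec R`. -/
def loc : Spec (CommRingCat.of A) ⟶ Spec R := Spec.map (CommRingCat.ofHom (algebraMap R A))

omit [IsNoetherianRing R] in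
theorem preimage_eq_punctured (O : (Spec R).Opens) (hO : O ≤ away p)
    (h : ∀ q : PrimeSpectrum R, q.asIdeal ≤ p.asIdeal → q ≠ p → q ∈ O) :
    (loc A) ⁻¹ᵁ O = FEt.puncturedSpec A := by
  have hle : ∀ x : PrimeSpectrum A, x.asIdeal.comap (algebraMap R A) ≤ p.asIdeal := fun x r hr => by
    by_contra h
    exact x.2.ne_top (Ideal.eq_top_of_isUnit_mem _ hr
      (IsLocalization.map_units A (⟨r, h⟩ : p.asIdeal.primeCompl)))
  have hinj : ∀ x : PrimeSpectrum A, x.asIdeal.comap (algebraMap R A) = p.asIdeal →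
      x = IsLocalRing.closedPoint A := fun x hx => by
    refine PrimeSpectrum.ext (le_antisymm (IsLocalRing.le_maximalIdeal x.2.ne_top) fun a ha => ?_)
    obtain ⟨r, s, rfl⟩ := IsLocalization.exists_mk'_eq p.asIdeal.primeCompl a
    have hr : r ∈ p.asIdeal := by
      by_contra h
      exact (IsLocalRing.mem_maximalIdeal _).1 ha
        ((IsLocalization.AtPrime.isUnit_mk'_iff A p.asIdeal r s).2 h)
    rw [← hx] at hr
    rw [IsLocalization.mk'_eq_mul_mk'_one]
    exact Ideal.mul_mem_right _ _ hr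
  refine le_antisymm (fun x hx (hx' : x = IsLocalRing.closedPoint A) => ?_) fun x hx => ?_
  · refine hO (show PrimeSpectrum.comap (algebraMap R A) x ∈ O from hx) ?_
    show p.asIdeal ≤ (PrimeSpectrum.comap (algebraMap R A) x).asIdeal
    subst hx'
    exact (IsLocalization.AtPrime.under_maximalIdeal A p.asIdeal).ge
  · refine h (PrimeSpectrum.comap (algebraMap R A) x) (hle x) fun he => hx ?_
    exact hinj x (congrArg PrimeSpectrum.asIdeal he)

omit [IsNoetherianRing R] in
theorem basicOpen_le_punctured {r : R} (hr : r ∈ p.asIdeal) :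
    (PrimeSpectrum.basicOpen (algebraMap R A r) : (Spec (CommRingCat.of A)).Opens) ≤ FEt.puncturedSpec A := by
  intro x hx (hx' : x = IsLocalRing.closedPoint A)
  subst hx'
  exact hx ((IsLocalization.AtPrime.under_maximalIdeal A p.asIdeal).ge hr)

/-- `A` parafactorial extends frames across the point `p`. -/
theorem exists_frame_at_point [IsNoetherianRing A] (hA : ParaF.IsParafactorialLocalRing A)
    {M : (Spec R).Modules} {b : R} (hb : b ∉ p.asIdeal)
    (hres : Closed (Coh.structureModule (Spec R)) (away p) (PrimeSpectrum.basicOpen b))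
    (hc : Closed M (away p) (PrimeSpectrum.basicOpen b))
    (hM : FramedOn M (PrimeSpectrum.basicOpen b ⊓ away p)) :
    ∃ (W : (Spec R).Opens) (e : Γ(M, W)), p ∈ W ∧ W ≤ PrimeSpectrum.basicOpen b ∧ IsFrame M W e := by
  classical
  obtain ⟨hbij, hpic⟩ := (S2824.result A).1 hA
  let O : (Spec R).Opens := PrimeSpectrum.basicOpen b ⊓ away p
  obtain ⟨T, ⟨i⟩, s, hs, hcov⟩ := exists_finite_model O _ (isInvertible_restrict_of_framedOn' hM)
  let N : Submodule R T := Submodule.span R ↑(s.image Prod.snd)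
  have hmem : ∀ x ∈ s, x.2 ∈ N := fun x hx => Submodule.subset_span (Finset.mem_image_of_mem _ hx)
  obtain ⟨j⟩ := nonempty_span_restrict_iso (O := O) N fun q hq => by
    obtain ⟨x, hxs, hx⟩ := hcov q hq
    exact ⟨x.1, hx, (span_bijAway (hmem x hxs) (hs x hxs).2).2⟩
  let iN : (tilde (ModuleCat.of R N)).restrict O.ι ≅ M.restrict O.ι := j ≪≫ i.symm
  have hpre : (loc A) ⁻¹ᵁ O = FEt.puncturedSpec A :=
    preimage_eq_punctured p A O inf_le_right fun q hq hne =>
      ⟨fun hbq => hb (hq hbq), fun hpq => hne (PrimeSpectrum.ext (le_antisymm hq hpq))⟩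
  have hinv := isInvertible_pull_restrict (loc A) _ O hpre
    (EGA73.isInvertible_of_iso iN.symm (isInvertible_restrict_of_framedOn' hM))
  obtain ⟨k⟩ := TildePull72.nonempty_pullback_tilde_iso R A N
  let k' := (Scheme.Modules.restrictFunctor (FEt.puncturedSpec A).ι).mapIso k
  obtain ⟨triv⟩ := hpic _ (EGA73.isInvertible_of_iso k' hinv)
  obtain ⟨ε, hε⟩ := exists_frame_of_restrict_iso triv
  obtain ⟨φA, hφA⟩ := exists_form (R := CommRingCat.of A) hbij hε
  let f : N →ₗ[R] A ⊗[R] N := TensorProduct.mk R A N 1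
  haveI : IsLocalizedModule p.asIdeal.primeCompl f :=
    (isLocalizedModule_iff_isBaseChange p.asIdeal.primeCompl A f).2 (TensorProduct.isBaseChange R N A)
  haveI : IsLocalizedModule p.asIdeal.primeCompl (Algebra.linearMap R A) :=
    (isLocalizedModule_iff_isLocalization' p.asIdeal.primeCompl A).2 inferInstance
  haveI : Module.Finite R N := Module.Finite.span_of_finite R (Finset.finite_toSet _)
  haveI : Module.FinitePresentation R N := Module.finitePresentation_of_finite R N
  obtain ⟨φ₀, t, hφ₀⟩ := Module.FinitePresentation.exists_lift_of_isLocalizedModule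
    p.asIdeal.primeCompl (Algebra.linearMap R A) ((φA.restrictScalars R).comp f)
  let φ' : A ⊗[R] N →ₗ[A] A := algebraMap R A (t : R) • φA
  have hcomm : ∀ x, φ' (f x) = Algebra.linearMap R A (φ₀ x) := fun x => by
    have := LinearMap.congr_fun hφ₀ x
    rw [LinearMap.comp_apply] at this
    rw [this]
    show algebraMap R A (t : R) • φA (f x) = (t : R) • φA (f x)
    exact algebraMap_smul A (t : R) _
  have hu : IsUnit (algebraMap R A (t : R)) := IsLocalization.map_units A t
  have hφ' : ∀ g ∈ s.image Prod.fst, BijAway φ' (algebraMap R A g) := by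
    intro g hg
    obtain ⟨x, hxs, rfl⟩ := Finset.mem_image.1 hg
    have h := hφA (algebraMap R A x.1) (basicOpen_le_punctured p A
      (not_not.1 fun h => (mem_away p p).1 ((hs x hxs).1 (show x.1 ∉ p.asIdeal from h)).2 le_rfl))
    refine ⟨fun z hz => h.inj z (hu.smul_eq_zero.1 hz), fun y => ?_⟩
    obtain ⟨k, z, hz⟩ := h.surj y
    exact ⟨k, (hu.unit⁻¹ : Aˣ).1 • z, by
      show algebraMap R A (t : R) • φA _ = _
      rw [map_smul, hz, smul_smul, IsUnit.mul_val_inv, one_smul]⟩
  obtain ⟨a, ha, hbs⟩ := BijAway.spread_finset p.asIdeal.primeCompl f (Algebra.linearMap R A) φ₀ φ' hcomm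
    (s.image Prod.fst) hφ'
  let V : (Spec R).Opens := PrimeSpectrum.basicOpen (b * a)
  have hVb : V ≤ PrimeSpectrum.basicOpen b := PrimeSpectrum.basicOpen_mul_le_left b a
  have hO' : V ⊓ away p ≤ O := inf_le_inf_right _ hVb
  obtain ⟨trivN⟩ := nonempty_restrict_iso_unit (T := ModuleCat.of R N) (U := V ⊓ away p) φ₀ fun q hq => by
    obtain ⟨x, hxs, hx⟩ := hcov q (hO' hq)
    exact ⟨x.1 * a, fun h => (q.2.mem_or_mem h).elim hx fun h' => hq.1 (q.asIdeal.mul_mem_left b h'),
      hbs _ (Finset.mem_image_of_mem _ hxs)⟩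
  obtain ⟨eN, heN⟩ := exists_frame_of_restrict_iso trivN
  obtain ⟨eM, heM⟩ := frame_transfer iN hO' heN
  have hc' : Closed M (away p) V := fun W hW => hc W (hW.trans hVb)
  obtain ⟨e', he'⟩ := (hc' V le_rfl).2 eM
  exact ⟨V, e', fun h => (p.2.mem_or_mem h).elim hb ha, hVb,
    isFrame_of_closed' (fun W hW => hres W (hW.trans hVb)) hc' (by rw [he']; exact heM)⟩

/-- Extending line bundles across the closure of `p` trivialises the punctured Picard group at `p`. -/
theorem picTrivial_of_extFr [IsNoetherianRing A] (hext : ExtFr (Spec R) (away p)) :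
    ParaF.PicTrivial (FEt.puncturedSpec A : Scheme.{u}) := by
  classical
  intro L hL
  obtain ⟨T, ⟨i⟩, s, hs, hcov⟩ := exists_finite_model (R := CommRingCat.of A) (FEt.puncturedSpec A) L hL
  letI : Module R T := Module.compHom T (algebraMap R A)
  haveI : IsScalarTower R A T := IsScalarTower.of_algebraMap_smul fun _ _ => rfl
  -- denominators
  choose num den hden using fun g : A => IsLocalization.surj p.asIdeal.primeCompl g |> fun ⟨x, hx⟩ =>
    (⟨x.1, x.2, hx⟩ : ∃ n, ∃ d : p.asIdeal.primeCompl, g * algebraMap R A d = algebraMap R A n)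
  let t : Finset T := s.image Prod.snd
  let F₀ : Submodule R T := Submodule.span R ↑t
  let N : Submodule A T := Submodule.span A ↑t
  have hF₀N : ∀ x ∈ F₀, x ∈ N := fun x hx => Submodule.span_le_restrictScalars R A _ hx
  let f : F₀ →ₗ[R] N :=
    { toFun := fun x => ⟨x.1, hF₀N x.1 x.2⟩
      map_add' := fun _ _ => rfl
      map_smul' := fun _ _ => rfl }
  haveI : IsLocalizedModule p.asIdeal.primeCompl f := by
    refine ⟨fun u => ?_, fun y => ?_, fun {x₁ x₂} h => ⟨1, by rw [one_smul, one_smul]; exact Subtype.ext (congrArg (fun z : N => z.1) h)⟩⟩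
    · refine (Module.End.isUnit_iff _).2 ?_
      have hu : IsUnit (algebraMap R A u.1) := IsLocalization.map_units A u
      have e : (⇑(algebraMap R (Module.End R N) u.1) : N → N) = fun x => algebraMap R A u.1 • x :=
        funext fun x => Subtype.ext (algebraMap_smul A u.1 x.1).symm
      rw [e]
      exact hu.smul_bijective
    · obtain ⟨y, hy⟩ := y
      induction hy using Submodule.span_induction with
      | mem y hy => exact ⟨⟨⟨y, Submodule.subset_span hy⟩, 1⟩, Subtype.ext (one_smul _ y)⟩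
      | zero => exact ⟨⟨0, 1⟩, Subtype.ext (by simp)⟩
      | add y z hy hz ihy ihz =>
        obtain ⟨⟨x₁, u₁⟩, h₁⟩ := ihy
        obtain ⟨⟨x₂, u₂⟩, h₂⟩ := ihz
        refine ⟨⟨(u₂ : R) • x₁ + (u₁ : R) • x₂, u₁ * u₂⟩, Subtype.ext ?_⟩
        have e₁ : (u₁ : R) • y = (x₁ : T) := congrArg Subtype.val h₁
        have e₂ : (u₂ : R) • z = (x₂ : T) := congrArg Subtype.val h₂
        show ((u₁ : R) * u₂) • (y + z) = (u₂ : R) • (x₁ : T) + (u₁ : R) • (x₂ : T)
        rw [← e₁, ← e₂, smul_add, mul_smul, mul_smul, smul_comm (u₁ : R) (u₂ : R) y]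
      | smul a y hy ih =>
        obtain ⟨⟨x, u⟩, h⟩ := ih
        refine ⟨⟨num a • x, den a * u⟩, Subtype.ext ?_⟩
        have e : (u : R) • y = (x : T) := congrArg Subtype.val h
        show ((den a : R) * u) • (a • y) = num a • (x : T)
        rw [← e, ← algebraMap_smul A (num a), ← hden, mul_smul, mul_smul, algebraMap_smul,
          smul_comm (u : R) a y, smul_comm (den a : R) a]
  have hmemF : ∀ x ∈ s, x.2 ∈ F₀ := fun x hx => Submodule.subset_span (Finset.mem_image_of_mem _ hx)
  have hr : ∀ x ∈ s, BijAway (LinearMap.toSpanSingleton A T x.2) (algebraMap R A (num x.1)) := fun x hx => by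
    rw [← hden]
    exact (hs x hx).2.mul_right _
  have key : ∀ x ∈ s, ∃ a ∈ p.asIdeal.primeCompl, ∀ hx2 : x.2 ∈ F₀,
      BijAway (LinearMap.toSpanSingleton R F₀ ⟨x.2, hx2⟩) (num x.1 * a) := by
    intro x hx
    haveI : IsLocalizedModule p.asIdeal.primeCompl (Algebra.linearMap R A) :=
      (isLocalizedModule_iff_isLocalization' p.asIdeal.primeCompl A).2 inferInstance
    haveI : Module.Finite R F₀ := Module.Finite.span_of_finite R t.finite_toSet
    obtain ⟨a, ha, hb⟩ := BijAway.spread p.asIdeal.primeCompl (Algebra.linearMap R A) f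
      (LinearMap.toSpanSingleton R F₀ ⟨x.2, hmemF x hx⟩)
      (LinearMap.toSpanSingleton A N ⟨x.2, hF₀N _ (hmemF x hx)⟩)
      (fun r => Subtype.ext (algebraMap_smul A r x.2))
      (span_bijAway (hF₀N _ (hmemF x hx)) (hr x hx)).1
    exact ⟨a, ha, fun _ => hb⟩
  choose! a ha hab using key
  let I : Ideal R := Ideal.span ↑(s.image fun x => num x.1)
  have hnum : ∀ x : PrimeSpectrum A, x ≠ IsLocalRing.closedPoint A →
      ∃ z ∈ s, num z.1 ∉ x.asIdeal.comap (algebraMap R A) := fun x hx => by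
    obtain ⟨z, hzs, hz⟩ := hcov x hx
    refine ⟨z, hzs, fun h => hz ?_⟩
    rw [Ideal.mem_comap, ← hden] at h
    exact (x.2.mem_or_mem h).resolve_right fun h' =>
      x.2.ne_top (Ideal.eq_top_of_isUnit_mem _ h' (IsLocalization.map_units A (den z.1)))
  obtain ⟨b, hb, hbshrink⟩ := exists_shrink I p.asIdeal fun q hq hIq hqp => by
    by_contra hne
    have hd : Disjoint (p.asIdeal.primeCompl : Set R) (q : Set R) :=
      Set.disjoint_left.2 fun r hr hrq => hr (hqp hrq)
    let x : PrimeSpectrum A := ⟨q.map (algebraMap R A),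
      IsLocalization.isPrime_of_isPrime_disjoint p.asIdeal.primeCompl A q hq hd⟩
    have hx : x.asIdeal.comap (algebraMap R A) = q :=
      IsLocalization.under_map_of_isPrime_disjoint p.asIdeal.primeCompl A hq hd
    obtain ⟨z, hzs, hz⟩ := hnum x fun h => hne (by
      rw [← hx, h]; exact IsLocalization.AtPrime.under_maximalIdeal A p.asIdeal)
    exact hz (hx ▸ hIq (Ideal.subset_span (Finset.mem_image_of_mem _ hzs)))
  let c := b * ∏ x ∈ s, a x
  have hc : c ∉ p.asIdeal := fun h => (p.2.mem_or_mem h).elim hb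
    (fun h' => by obtain ⟨x, hx, hx'⟩ := p.2.prod_mem_iff.1 h'; exact ha x hx hx')
  let V : (Spec R).Opens := PrimeSpectrum.basicOpen c
  have hcov0 : ∀ q : PrimeSpectrum R, q ∈ V ⊓ away p → ∃ z ∈ s, num z.1 * a z ∉ q.asIdeal := by
    intro q hq
    have hbq : b ∉ q.asIdeal := fun h => hq.1 (q.asIdeal.mul_mem_right _ h)
    have hI : ¬ I ≤ q.asIdeal := fun h => hq.2 (hbshrink _ q.2 h hbq)
    by_contra hnot
    refine hI (Ideal.span_le.2 fun r hr => ?_)
    obtain ⟨z, hzs, rfl⟩ := Finset.mem_image.1 hr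
    refine (q.2.mem_or_mem (not_not.1 fun h => hnot ⟨z, hzs, h⟩)).resolve_right fun h => hq.1 ?_
    exact q.asIdeal.mul_mem_left b (Ideal.mem_of_dvd _ (Finset.dvd_prod_of_mem a hzs) h)
  let O : (Spec R).Opens := V ⊓ away p
  have hfr : FramedOn (tilde (ModuleCat.of R F₀)) O := framedOn_tilde fun q hq => by
    obtain ⟨z, hzs, hz⟩ := hcov0 q hq
    refine ⟨num z.1 * a z * c, ⟨z.2, hmemF z hzs⟩, fun h => (q.2.mem_or_mem h).elim hz hq.1,
      fun x hx => ⟨fun h => hx (x.asIdeal.mul_mem_left _ h), fun h => hx ?_⟩,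
      (hab z hzs (hmemF z hzs)).mul_right c⟩
    have hzp : num z.1 ∈ p.asIdeal := by
      rw [← IsLocalization.AtPrime.under_maximalIdeal A p.asIdeal, Ideal.mem_comap, ← hden]
      refine Ideal.mul_mem_right _ _ ?_
      by_contra hcon
      exact (hs z hzs).1 (show z.1 ∉ (IsLocalRing.closedPoint A).asIdeal from hcon) rfl
    exact x.asIdeal.mul_mem_right _ (x.asIdeal.mul_mem_right _ (h hzp))
  have hinv := isInvertible_restrict_of_framedOn' hfr
  let M := (Scheme.Modules.pushforward O.ι).obj ((tilde (ModuleCat.of R F₀)).restrict O.ι)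
  obtain ⟨W, e, hpW, hWV, he⟩ := hext V M (framedOn_push O.ι hinv O.opensRange_ι.ge)
    (closed_pushforward O.ι _ V (inf_le_right.trans (O.opensRange_ι.le.trans inf_le_right))) p hc
  let W' : (Spec R).Opens := W ⊓ away p
  have hW' : W' ≤ O := le_inf (inf_le_left.trans hWV) inf_le_right
  have h1 := isFrame_of_push O.ι (hW'.trans O.opensRange_ι.ge) (he.res (inf_le_left : W' ≤ W))
  have h2 := (Amp73.isFrame_restrict_iff O.ι (tilde (ModuleCat.of R F₀)) _ _).1 h1
  have htriv := EGA73.nonempty_restrict_iso_unit _ W' _ (h2.res (image_preimage_of_le O W' hW').ge)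
  have hpre : (loc A) ⁻¹ᵁ W' = FEt.puncturedSpec A :=
    preimage_eq_punctured p A W' inf_le_right fun q hq hne =>
      ⟨((PrimeSpectrum.le_iff_specializes q p).1 hq).mem_open W.2 hpW,
        fun hpq => hne (PrimeSpectrum.ext (le_antisymm hq hpq))⟩
  obtain ⟨k⟩ := trivial_pull_restrict (loc A) _ W' hpre htriv
  obtain ⟨j⟩ := TildePull72.nonempty_pullback_tilde_iso R A F₀
  let e₀ : A ⊗[R] F₀ ≃ₗ[A] N := ((IsLocalizedModule.isBaseChange p.asIdeal.primeCompl A f).equiv)
  let j' : (Scheme.Modules.pullback (loc A)).obj (tilde (ModuleCat.of R F₀)) ≅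
      tilde (ModuleCat.of A N) :=
    j ≪≫ (tilde.functor (CommRingCat.of A)).mapIso e₀.toModuleIso
  obtain ⟨l⟩ := nonempty_span_restrict_iso (R := CommRingCat.of A) (O := FEt.puncturedSpec A) N fun q hq => by
    obtain ⟨z, hzs, hz⟩ := hcov q hq
    exact ⟨z.1, hz, (span_bijAway (hF₀N _ (hmemF z hzs)) (hs z hzs).2).2⟩
  exact ⟨i ≪≫ l.symm ≪≫ ((Scheme.Modules.restrictFunctor (FEt.puncturedSpec A).ι).mapIso j').symm ≪≫ k⟩

end Affine

end Groth.Agent.ParaF26
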