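import Groth.Agent.ParaF26.DescPushCor
import Groth.Agent.ParaF26.Open
import Groth.Agent.FF71.Main
import Groth.Agent.Crv77.DegreeInt

/-!
Invertible modules trivial on the thickenings of a proper scheme over a local ring.
-/

set_option autoImplicit false
set_option maxSynthPendingDepth 6
set_option linter.style.haveILetI false
set_option linter.unusedSectionVars false
set_option backward.isDefEq.respectTransparency.types false
set_option maxHeartbeats 1000000

universe u

noncomputable section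

open CategoryTheory Limits AlgebraicGeometry TopologicalSpace Opposite TensorProduct

namespace Groth.Agent.ParaF26

open Var76.LineBundle Var76.ZeroScheme

/-- A kernel element of `x ↦ 1 ⊗ x` over a quotient ring is in the kernel times the module. -/
theorem mem_ker_smul_of_tmul_eq_zero {A A' : Type u} [CommRing A] [CommRing A'] [Algebra A A']
    (h : Function.Surjective (algebraMap A A')) {M : Type u} [AddCommGroup M] [Module A M] {x : M}
    (hx : (1 : A') ⊗ₜ[A] x = 0) : x ∈ RingHom.ker (algebraMap A A') • (⊤ : Submodule A M) := by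
  let K := RingHom.ker (algebraMap A A')
  let e : (A ⧸ K) ≃ₐ[A] A' := Ideal.quotientKerAlgEquivOfSurjective (f := Algebra.ofId A A') h
  have h1 : e.symm.toLinearMap.rTensor M ((1 : A') ⊗ₜ[A] x) = 0 := by rw [hx, map_zero]
  rw [LinearMap.rTensor_tmul, AlgEquiv.toLinearMap_apply, map_one] at h1
  have h2 := congrArg (TensorProduct.quotTensorEquivQuotSMul M K) h1
  rw [map_zero] at h2
  have h3 : TensorProduct.quotTensorEquivQuotSMul M K ((Ideal.Quotient.mk K 1) ⊗ₜ[A] x) =
      Submodule.Quotient.mk ((1 : A) • x) := TensorProduct.quotTensorEquivQuotSMul_mk_tmul (M := M) K 1 x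
  rw [map_one] at h3
  rw [h3, one_smul, Submodule.Quotient.mk_eq_zero] at h2
  exact h2

variable {B : Type u} [CommRing B]

theorem exists_point_thick (J : Ideal B) {Y : Scheme.{u}} (f : Y ⟶ Spec (CommRingCat.of B)) (y : Y)
    (hy : f y ∈ PrimeSpectrum.zeroLocus (J : Set B)) :
    ∃ z : (pullback f (Spec.map (CommRingCat.ofHom (Ideal.Quotient.mk J))) : Scheme.{u}),
      pullback.fst f (Spec.map (CommRingCat.ofHom (Ideal.Quotient.mk J))) z = y := by
  obtain ⟨p, hp⟩ : f y ∈ Set.range (PrimeSpectrum.comap (Ideal.Quotient.mk J)) := by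
    rw [range_comap_of_surjective (B ⧸ J) _ Ideal.Quotient.mk_surjective, Ideal.mk_ker]
    exact hy
  obtain ⟨z, h1, -⟩ := Scheme.Pullback.exists_preimage_pullback
    (f := f) (g := Spec.map (CommRingCat.ofHom (Ideal.Quotient.mk J))) y p hp.symm
  exact ⟨z, h1⟩

open FF71 in
open Coh69 (Cochain cd cd_apply cOpen cOpen_le cOpen_comp_le le_cOpen) in
set_option backward.isDefEq.respectTransparency false in
/-- A frame on a thickening lifts to sections with differences in the ideal. -/
theorem exists_lifts (J : Ideal B) {Y : Scheme.{u}} [Y.Over (Spec (CommRingCat.of B))] (L : Y.Modules)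
    [L.IsQuasicoherent] {ι : Type u} (U : ι → Y.Opens)
    (hUa : ∀ (n : ℕ) (i : Fin (n + 1) → ι), IsAffineOpen (cOpen U i))
    (t : Γ((Scheme.Modules.pullback (pullback.fst (Y ↘ Spec (CommRingCat.of B))
      (Spec.map (CommRingCat.ofHom (Ideal.Quotient.mk J))))).obj L, ⊤)) :
    ∃ c : Cochain U L.presheaf 0, cd U L.presheaf 0 c ∈ CJ B U L J 1 ∧
      ∀ i, Amp73.pullS (pullback.fst (Y ↘ Spec (CommRingCat.of B))
          (Spec.map (CommRingCat.ofHom (Ideal.Quotient.mk J)))) L (cOpen U i) (c i) = res _ le_top t := by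
  let f := Y ↘ Spec (CommRingCat.of B)
  let g := Spec.map (CommRingCat.ofHom (Ideal.Quotient.mk J))
  let p := pullback.fst f g
  let G := (Scheme.Modules.pullback p).obj L
  have H := IsPullback.of_hasPullback f g
  have hg : (⊤ : (Spec (CommRingCat.of (B ⧸ J))).Opens) ≤ g ⁻¹ᵁ ⊤ := le_top
  letI : ∀ W : Y.Opens, Module Γ(Spec (CommRingCat.of B), ⊤) Γ(L, W) := fun W => FlatSec.mdl f L (V := ⊤) le_top
  letI := (g.appLE ⊤ ⊤ hg).hom.toAlgebra
  have hsurj : Function.Surjective (algebraMap Γ(Spec (CommRingCat.of B), ⊤) Γ(Spec (CommRingCat.of (B ⧸ J)), ⊤)) := by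
    intro a
    obtain ⟨b, hb⟩ := Ideal.Quotient.mk_surjective ((Scheme.ΓSpecIso (CommRingCat.of (B ⧸ J))).hom a)
    refine ⟨(Scheme.ΓSpecIso (CommRingCat.of B)).inv b, ?_⟩
    show g.appLE ⊤ ⊤ hg _ = a
    rw [show g.appLE ⊤ ⊤ hg = g.appTop from (Scheme.Hom.app_eq_appLE g (U := ⊤)).symm]
    refine (ConcreteCategory.congr_hom (Scheme.ΓSpecIso_inv_naturality (CommRingCat.ofHom (Ideal.Quotient.mk J))).symm b).trans ?_
    show (Scheme.ΓSpecIso (CommRingCat.of (B ⧸ J))).inv (Ideal.Quotient.mk J b) = a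
    rw [hb]
    exact congrArg (fun k => k.hom a) (Scheme.ΓSpecIso _).hom_inv_id
  have hμ : ∀ {W : Y.Opens}, IsAffineOpen W → Function.Bijective
      (FlatSec.μ f g (pullback.snd f g) p H L hg (V := ⊤) (W := ⊤) (U := W) le_top) := fun hW =>
    FlatSec.μ_bijective_affine f g (pullback.snd f g) p H L hg (isAffineOpen_top _) (isAffineOpen_top _) _ hW
  have one_tmul : ∀ {W : Y.Opens} (x : Γ(L, W)),
      FlatSec.μ f g (pullback.snd f g) p H L hg (V := ⊤) (W := ⊤) (U := W) le_top (1 ⊗ₜ x) =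
        res G inf_le_left (Amp73.pullS p L W x) := fun x => by
    rw [FlatSec.μ_tmul, map_one, one_smul]
  have key : ∀ i : Fin (0 + 1) → ι, ∃ x : Γ(L, cOpen U i), Amp73.pullS p L (cOpen U i) x = res G le_top t := by
    intro i
    obtain ⟨w, hw⟩ := (hμ (hUa 0 i)).2 (res G le_top t)
    obtain ⟨x, hx⟩ : ∃ x : Γ(L, cOpen U i), w = 1 ⊗ₜ x := by
      clear hw
      induction w with
      | zero => exact ⟨0, (TensorProduct.tmul_zero _ _).symm⟩
      | add a b ha hb =>
        obtain ⟨x, rfl⟩ := ha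
        obtain ⟨y, rfl⟩ := hb
        exact ⟨x + y, (TensorProduct.tmul_add _ _ _).symm⟩
      | tmul a x =>
        obtain ⟨r, rfl⟩ := hsurj a
        exact ⟨r • x, by rw [Algebra.algebraMap_eq_smul_one, TensorProduct.smul_tmul]⟩
    subst hx
    rw [one_tmul] at hw
    refine ⟨x, (bijective_res_of_eq G inf_le_left (le_inf le_rfl le_top :
      p ⁻¹ᵁ cOpen U i ≤ p ⁻¹ᵁ cOpen U i ⊓ pullback.snd f g ⁻¹ᵁ ⊤)).1 ?_⟩
    rw [hw, res_res]
  choose c hc using key
  refine ⟨c, fun i => ?_, hc⟩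
  have h0 : Amp73.pullS p L (cOpen U i) (cd U L.presheaf 0 c i) = 0 := by
    rw [cd_apply, Fin.sum_univ_two]
    let P : Γ(L, cOpen U i) →+ Γ(G, p ⁻¹ᵁ cOpen U i) :=
      AddMonoidHom.mk' (Amp73.pullS p L (cOpen U i)) (fun a b => map_add _ a b)
    show P _ = 0
    rw [map_add, map_zsmul, map_zsmul]
    have e : ∀ (i' : Fin 1 → ι) (h : cOpen U i ≤ cOpen U i'), P (res L h (c i')) = res G le_top t := fun i' h => by
      show Amp73.pullS p L (cOpen U i) (res L h (c i')) = _
      rw [← Amp73.res_pullS p L h, hc, res_res]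
    erw [e, e]
    simp
  have h1 := one_tmul (W := cOpen U i) (cd U L.presheaf 0 c i)
  rw [h0] at h1
  have h2 : (1 : Γ(Spec (CommRingCat.of (B ⧸ J)), ⊤)) ⊗ₜ[Γ(Spec (CommRingCat.of B), ⊤)]
      (show Γ(L, cOpen U i) from cd U L.presheaf 0 c i) = 0 :=
    (hμ (hUa 1 i)).1 (h1.trans ((QC70.res_zero _).trans (map_zero _).symm))
  refine Submodule.smul_induction_on (mem_ker_smul_of_tmul_eq_zero hsurj h2) (fun r hr m _ => ?_)
    fun a b ha hb => add_mem ha hb
  have hr' : (Scheme.ΓSpecIso (CommRingCat.of B)).hom r ∈ J := by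
    rw [← Ideal.Quotient.eq_zero_iff_mem]
    have h3 : g.appLE ⊤ ⊤ hg r = 0 := hr
    rw [show g.appLE ⊤ ⊤ hg = g.appTop from (Scheme.Hom.app_eq_appLE g (U := ⊤)).symm] at h3
    refine (ConcreteCategory.congr_hom (Scheme.ΓSpecIso_naturality (CommRingCat.ofHom (Ideal.Quotient.mk J))) r).symm.trans ?_
    exact (congrArg (Scheme.ΓSpecIso (CommRingCat.of (B ⧸ J))).hom h3).trans (map_zero _)
  show f.appLE ⊤ (cOpen U i) le_top r • m ∈ secI B J L (cOpen U i)
  have e : f.appLE ⊤ (cOpen U i) le_top r = rA B Y (cOpen U i) ((Scheme.ΓSpecIso (CommRingCat.of B)).hom r) := by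
    show _ = Y.presheaf.map (homOfLE (le_top : cOpen U i ≤ ⊤)).op
      (f.appTop ((Scheme.ΓSpecIso (CommRingCat.of B)).inv ((Scheme.ΓSpecIso (CommRingCat.of B)).hom r)))
    rw [show (Scheme.ΓSpecIso (CommRingCat.of B)).inv ((Scheme.ΓSpecIso (CommRingCat.of B)).hom r) = r from
      congrArg (fun k => k.hom r) (Scheme.ΓSpecIso _).hom_inv_id]
    rfl
  rw [e]
  exact smul_mem_secI hr' m

open FF71 in
open Coh69 (Cochain cd cd_apply cOpen cOpen_le cOpen_comp_le le_cOpen) in
/-- A family of local sections with small differences is congruent to a global section. -/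
theorem exists_global [IsNoetherianRing B] (I : Ideal B) {Y : Scheme.{u}} [Y.Over (Spec (CommRingCat.of B))]
    [IsProper (Y ↘ Spec (CommRingCat.of B))] [IsLocallyNoetherian Y] (L : Y.Modules) [L.IsQuasicoherent]
    [L.IsFiniteType] {ι : Type u} [Finite ι] (U : ι → Y.Opens) (hU : ⨆ i, U i = ⊤)
    (hUa : ∀ (n : ℕ) (i : Fin (n + 1) → ι), IsAffineOpen (cOpen U i)) :
    ∃ k, ∀ c : Cochain U L.presheaf 0, cd U L.presheaf 0 c ∈ CJ B U L (I ^ (k + 1)) 1 →
      ∃ s : Γ(L, ⊤), ∀ i, res L le_top s - (show Γ(L, cOpen U i) from c i) ∈ secI B I L (cOpen U i) := by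
  obtain ⟨d, hd⟩ := exists_degree_ideal B I Y L U hU hUa 1 (cd U L.presheaf 0).range
    (by rintro a _ ⟨c, rfl⟩; exact ⟨smulC U L 0 a c, cd_smulC U L 0 a c⟩)
  refine ⟨d, fun c hc => ?_⟩
  obtain ⟨g, hg, b, ⟨e, he, rfl⟩, hgb⟩ := hd (d + 1) (Nat.le_succ d) _ hc (Coh69.cd_cd U 0 c) ⟨c, rfl⟩
  obtain ⟨w, hw, rfl⟩ : ∃ w ∈ CJ B U L I 0, cd U L.presheaf 0 w = g := by
    clear hgb
    induction hg using AddSubgroup.closure_induction with
    | mem t ht =>
      obtain ⟨a, ha, z, ⟨-, w, rfl⟩, rfl⟩ := ht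
      rw [show d + 1 - d = 1 by omega, pow_one] at ha
      refine ⟨smulC U L 0 a w, ?_, cd_smulC U L 0 a w⟩
      have h2 := smulC_mem_CJ U L ha (mem_CJ_top U L w)
      rwa [Ideal.mul_top] at h2
    | zero => exact ⟨0, zero_mem _, map_zero _⟩
    | add a b _ _ ha hb =>
      obtain ⟨wa, hwa, rfl⟩ := ha
      obtain ⟨wb, hwb, rfl⟩ := hb
      exact ⟨wa + wb, add_mem hwa hwb, map_add _ _ _⟩
    | neg a _ ha =>
      obtain ⟨wa, hwa, rfl⟩ := ha
      exact ⟨-wa, neg_mem hwa, map_neg _ _⟩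
  let z : Cochain U L.presheaf 0 := c - (w + e)
  have hz : cd U L.presheaf 0 z = 0 := by rw [map_sub, map_add, hgb, sub_self]
  have compat : ∀ (i i' : Fin 1 → ι) (O : Y.Opens) (h : O ≤ cOpen U i) (h' : O ≤ cOpen U i'),
      res L h (z i) = res L h' (z i') := by
    intro i i' O h h'
    let ij : Fin (0 + 2) → ι := ![i' 0, i 0]
    have h0 := congrFun hz ij
    rw [cd_apply, Fin.sum_univ_two] at h0
    have hO : O ≤ cOpen U ij := le_cOpen U fun j => by
      fin_cases j
      · exact h'.trans (cOpen_le U i' 0)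
      · exact h.trans (cOpen_le U i 0)
    have e0 : ij ∘ Fin.succAbove (0 : Fin 2) = i := funext fun j => by fin_cases j; rfl
    have e1 : ij ∘ Fin.succAbove (1 : Fin 2) = i' := funext fun j => by fin_cases j; rfl
    let P : Γ(L, cOpen U ij) →+ Γ(L, O) := AddMonoidHom.mk' (res L hO) (fun a b => map_add _ a b)
    have h1 := congrArg P h0
    erw [map_add, map_zsmul, map_zsmul, map_zero] at h1
    have key : ∀ (j : Fin 1 → ι) (hj : ij ∘ Fin.succAbove (0 : Fin 2) = j ∨ ij ∘ Fin.succAbove (1 : Fin 2) = j)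
        (a : Fin 2) (ha : ij ∘ a.succAbove = j) (hle : O ≤ cOpen U j),
        res L hO (Coh69.res L.presheaf (cOpen_comp_le U ij a.succAbove) (z (ij ∘ a.succAbove))) = res L hle (z j) := by
      intro j _ a ha hle
      subst ha
      exact res_res _ _ _ _
    have k0 := key i (Or.inl e0) 0 e0 h
    have k1 := key i' (Or.inr e1) 1 e1 h'
    simp only [P, AddMonoidHom.mk'_apply] at h1
    rw [k0, k1] at h1
    simpa [← sub_eq_add_neg, sub_eq_zero] using h1
  let T : ι → Y.Opens := fun a => cOpen U (fun _ : Fin 1 => a)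
  obtain ⟨s, hs, -⟩ := TopCat.Sheaf.existsUnique_gluing'
    (C := AddCommGrpCat.{u}) (⟨L.presheaf, L.isSheaf⟩ : TopCat.Sheaf AddCommGrpCat.{u} Y)
    T ⊤ (fun a => homOfLE le_top) (fun y hy => by
      obtain ⟨a, ha⟩ := Opens.mem_iSup.mp (hU.ge hy)
      exact Opens.mem_iSup.mpr ⟨a, le_cOpen U (V := U a) (fun _ => le_rfl) ha⟩)
    (fun a => z (fun _ => a)) (fun a b => compat _ _ _ inf_le_left inf_le_right)
  refine ⟨s, fun i => ?_⟩
  have hi : i = fun _ => i 0 := funext fun j => by rw [Fin.eq_zero j]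
  have h1 : res L le_top s = (show Γ(L, cOpen U i) from z i) := by
    rw [hi]
    exact hs (i 0)
  rw [h1]
  show (show Γ(L, cOpen U i) from c i) - (w i + e i) - (show Γ(L, cOpen U i) from c i) ∈ _
  rw [sub_sub_cancel_left]
  exact neg_mem (add_mem (hw i) (pow_one I ▸ CJ_anti U L I (show 1 ≤ d + 1 by omega) he i))

open FF71 in
/-- An invertible module on a proper scheme over a local ring, trivial on all thickenings, is trivial. -/
theorem trivial_of_trivial_on_thickenings [IsNoetherianRing B] [IsLocalRing B] (I : Ideal B)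
    (hI : I ≤ IsLocalRing.maximalIdeal B) {Y : Scheme.{u}} (f : Y ⟶ Spec (CommRingCat.of B)) [IsProper f]
    (L : Y.Modules) (hL : PicF.IsInvertible L)
    (hn : ∀ n : ℕ, Nonempty ((Scheme.Modules.pullback
        (pullback.fst f (Spec.map (CommRingCat.ofHom (Ideal.Quotient.mk (I ^ (n + 1))))))).obj L ≅
      Coh.structureModule (pullback f (Spec.map (CommRingCat.ofHom (Ideal.Quotient.mk (I ^ (n + 1)))))))) :
    Nonempty (L ≅ Coh.structureModule Y) := by
  letI : Y.Over (Spec (CommRingCat.of B)) := ⟨f⟩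
  haveI : IsProper (Y ↘ Spec (CommRingCat.of B)) := ‹IsProper f›
  haveI : IsLocallyNoetherian Y := LocallyOfFiniteType.isLocallyNoetherian f
  have hC := Crv77.isCoh_of_isInvertible hL
  haveI := hC.1
  haveI := hC.2
  obtain ⟨ι, hι, U, hU, hUa⟩ := exists_cover (A := B) (X := Y)
  obtain ⟨k, hk⟩ := exists_global I L U hU hUa
  obtain ⟨ψ⟩ := hn k
  obtain ⟨t, ht⟩ := exists_frame_of_iso_unit ψ
  obtain ⟨c, hc1, hc2⟩ := exists_lifts (I ^ (k + 1)) L U hUa t
  obtain ⟨s, hs⟩ := hk c hc1
  let p := pullback.fst f (Spec.map (CommRingCat.ofHom (Ideal.Quotient.mk (I ^ (k + 1)))))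
  have hc2' : ∀ i, Amp73.pullS p L (Coh69.cOpen U i) (c i) = res _ le_top t := hc2
  refine nonempty_iso_unit (e := s) (Amp73.isFrame_of_locally _ fun x _ => ?_)
  have hval : ∀ W : Y.Opens, val L (EGA73.unitHom L s) W = res L le_top s := fun W =>
    (EGA73.unitHom_app L s W 1).trans (one_smul _ _)
  have key : ∀ y : Y, f y ∈ PrimeSpectrum.zeroLocus (I : Set B) → y ∈ CohB1.genLocus L (EGA73.unitHom L s) := by
    intro y hy
    obtain ⟨a, ha⟩ := Opens.mem_iSup.mp (hU.ge (trivial : y ∈ ⊤))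
    let i : Fin (0 + 1) → ι := fun _ => a
    have hyi : y ∈ Coh69.cOpen U i := Coh69.le_cOpen U (V := U a) (fun _ => le_rfl) ha
    obtain ⟨z, hz⟩ := exists_point_thick (I ^ (k + 1)) f y
      (by rw [PrimeSpectrum.zeroLocus_pow]; exact hy; omega)
    obtain ⟨W, hyW, hWi, e, he⟩ := Mero90.exists_affine_frame hL y (Coh69.cOpen U i) hyi
    obtain ⟨u, hu⟩ := (he W.1 le_rfl).2 (res L hWi (c i))
    dsimp only at hu
    rw [Amp73.res_self] at hu
    have hup : IsUnit (Y.presheaf.germ W.1 y hyW u) := by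
      have h1 := (Amp73.isFrame_pullS p hL he)
      have h2 : IsFrame _ (p ⁻¹ᵁ W.1) (p.app W.1 u • Amp73.pullS p L W.1 e) := by
        rw [← Amp73.pullS_smul, hu, ← Amp73.res_pullS p L hWi, hc2', res_res]
        exact ht.res le_top
      have h3 := (Amp73.isFrame_smul_iff h1 _).1 h2
      have hz' : z ∈ (pullback f _).basicOpen (p.app W.1 u) := by
        rw [(pullback f _).basicOpen_of_isUnit h3]
        show p z ∈ W.1
        rw [hz]
        exact hyW
      rw [← Scheme.preimage_basicOpen] at hz'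
      have : y ∈ Y.basicOpen u := hz ▸ hz'
      exact (Y.mem_basicOpen u y hyW).1 this
    obtain ⟨v, hv⟩ := (he W.1 le_rfl).2 (res L le_top s)
    dsimp only at hv
    rw [Amp73.res_self] at hv
    have hm : ∀ x ∈ secI B I L (Coh69.cOpen U i), ∀ q : Γ(Y, W.1), q • e = res L hWi x →
        ¬ IsUnit (Y.presheaf.germ W.1 y hyW q) := by
      intro x hx
      induction hx using Submodule.smul_induction_on' with
      | smul r hr m _ =>
        intro q hq
        obtain ⟨q', hq'⟩ := (he W.1 le_rfl).2 (res L hWi m)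
        dsimp only at hq'
        rw [Amp73.res_self] at hq'
        have : q = fres hWi r * q' := (he W.1 le_rfl).1 (by
          dsimp only
          rw [Amp73.res_self, mul_smul, hq', hq, res_smul])
        rw [this, map_mul]
        refine fun hu' => ?_
        have hru := isUnit_of_mul_isUnit_left hu'
        have hle : I.map (rA B Y (Coh69.cOpen U i)) ≤
            (IsLocalRing.maximalIdeal (Y.presheaf.stalk y)).comap (Y.presheaf.germ _ y hyi).hom := by
          rw [Ideal.map_le_iff_le_comap]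
          intro b hb
          show ¬ IsUnit (Y.presheaf.germ _ y hyi (rA B Y (Coh69.cOpen U i) b))
          intro hbu
          have h4 : y ∈ Y.basicOpen (f.appTop ((Scheme.ΓSpecIso (CommRingCat.of B)).inv b)) := by
            refine (Y.mem_basicOpen _ y (trivial : y ∈ ⊤)).2 ?_
            rw [← TopCat.Presheaf.germ_res_apply Y.presheaf (homOfLE le_top) y hyi]
            exact hbu
          rw [← Scheme.preimage_basicOpen_top] at h4
          have h5 : f y ∈ (Spec (CommRingCat.of B)).basicOpen ((Scheme.ΓSpecIso (CommRingCat.of B)).inv b) := h4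
          rw [basicOpen_eq_of_affine'] at h5
          refine h5 ?_
          rw [show (Scheme.ΓSpecIso (CommRingCat.of B)).hom ((Scheme.ΓSpecIso (CommRingCat.of B)).inv b) = b from
            congrArg (fun q : CommRingCat.of B ⟶ CommRingCat.of B => q.hom b) (Scheme.ΓSpecIso _).inv_hom_id]
          exact hy hb
        refine hle hr ?_
        rw [← TopCat.Presheaf.germ_res_apply Y.presheaf (homOfLE hWi) y hyW]
        exact hru
      | add m _ m' _ h h' =>
        intro q hq
        obtain ⟨q1, hq1⟩ := (he W.1 le_rfl).2 (res L hWi m)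
        obtain ⟨q2, hq2⟩ := (he W.1 le_rfl).2 (res L hWi m')
        dsimp only at hq1 hq2
        rw [Amp73.res_self] at hq1 hq2
        have : q = q1 + q2 := (he W.1 le_rfl).1 (by
          dsimp only
          rw [Amp73.res_self, add_smul, hq1, hq2, hq]
          exact map_add _ _ _)
        rw [this, map_add]
        exact fun hu' => (IsLocalRing.isUnit_or_isUnit_of_isUnit_add hu').elim (h q1 hq1) (h' q2 hq2)
    have hsub := hm _ (hs i) (v - u) (by
      rw [sub_smul, hv, hu]
      let P : Γ(L, Coh69.cOpen U i) →+ Γ(L, W.1) := AddMonoidHom.mk' (res L hWi) (fun a b => map_add _ a b)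
      show _ = P _
      rw [map_sub]
      simp only [P, AddMonoidHom.mk'_apply, res_res])
    rw [map_sub] at hsub
    have hvu : IsUnit (Y.presheaf.germ W.1 y hyW v) := by
      by_contra hv'
      have h6 : ¬ IsUnit (Y.presheaf.germ W.1 y hyW v - (Y.presheaf.germ W.1 y hyW v - Y.presheaf.germ W.1 y hyW u)) :=
        (IsLocalRing.mem_maximalIdeal _).1 (sub_mem ((IsLocalRing.mem_maximalIdeal _).2 hv')
          ((IsLocalRing.mem_maximalIdeal _).2 hsub))
      rw [sub_sub_cancel] at h6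
      exact h6 hup
    refine Amp73.mem_genLocus_iff.2 ⟨W.1 ⊓ Y.basicOpen v, ⟨hyW, (Y.mem_basicOpen v y hyW).2 hvu⟩, ?_⟩
    rw [hval]
    have hcu : IsUnit (fres (inf_le_left : W.1 ⊓ Y.basicOpen v ≤ W.1) v) :=
      Y.toRingedSpace.isUnit_of_isUnit_germ _ _ fun a ha' => by
        show IsUnit (Y.presheaf.germ _ a ha' (Y.presheaf.map (homOfLE (inf_le_left : W.1 ⊓ Y.basicOpen v ≤ W.1)).op v))
        rw [TopCat.Presheaf.germ_res_apply]
        exact (Y.mem_basicOpen v a ha'.1).1 ha'.2
    have h3 := (Amp73.isFrame_smul_iff (he.res inf_le_left) _).2 hcu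
    rw [← res_smul, hv, res_res] at h3
    exact h3
  have hx : x ∈ CohB1.genLocus L (EGA73.unitHom L s) := by
    by_contra hx
    let Z : Set Y := (CohB1.genLocus L (EGA73.unitHom L s) : Set Y)ᶜ
    have hcl : IsClosed (f '' Z) := f.isClosedMap _ (CohB1.genLocus L (EGA73.unitHom L s)).isOpen.isClosed_compl
    have hm : IsLocalRing.closedPoint B ∈ f '' Z :=
      (IsLocalRing.specializes_closedPoint (f x)).mem_closed hcl ⟨x, hx, rfl⟩
    obtain ⟨y, hy, hfy⟩ := hm
    exact hy (key y (hfy ▸ hI))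
  obtain ⟨W, hxW, hW⟩ := Amp73.mem_genLocus_iff.1 hx
  refine ⟨W, le_top, hxW, ?_⟩
  rwa [hval] at hW

end Groth.Agent.ParaF26
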