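import Groth.Agent.ParaF26.DescPush
import Groth.Agent.H98Pos.Fibre
import Groth.Agent.Var76.FibBC
import Groth.Prelude.Def_Formal2

/-!
Modules trivial after faithfully flat base change along `f` with `f_* O = O`.
-/

set_option autoImplicit false
set_option backward.isDefEq.respectTransparency.types false
set_option linter.style.haveILetI false

noncomputable section

universe u

open CategoryTheory Limits AlgebraicGeometry TopologicalSpace Opposite

namespace Groth.Agent.ParaF26.DescPush

open Var76.LineBundle Var76.ZeroScheme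

variable {X Y : Scheme.{u}}

theorem isIso_unitToPush (f : X ⟶ Y) (hf : ∀ V : Y.Opens, Function.Bijective (f.app V)) :
    IsIso (ClSub.unitToPush f) :=
  Scheme.Modules.Hom.isIso_iff_isIso_app.2 fun V => (ConcreteCategory.isIso_iff_bijective _).2 (hf V)

variable {X' Y' : Scheme.{u}} (f : X ⟶ Y) (g : Y' ⟶ Y) (f' : X' ⟶ Y') (g' : X' ⟶ X)
  [QuasiCompact f] [QuasiSeparated f] [Flat g] [Surjective g] [QuasiCompact g]

theorem bijective_app_baseChange (H : IsPullback g' f' f g)
    (hf : ∀ V : Y.Opens, Function.Bijective (f.app V)) (V : Y'.Opens) : Function.Bijective (f'.app V) := by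
  haveI := Var76.FibBC.isIso_app_baseChange (f := f) H (fun W => (ConcreteCategory.isIso_iff_bijective _).2 (hf W)) V
  exact ConcreteCategory.bijective_of_isIso (f'.app V)

/-- The statement of descent for a module trivial upstairs. -/
theorem invertible_and_counit (H : IsPullback g' f' f g) (hf : ∀ V : Y.Opens, Function.Bijective (f.app V))
    (L : X.Modules) (hL : PicF.IsInvertible L)
    (φ : (Scheme.Modules.pullback g').obj L ≅ Coh.structureModule X') :
    PicF.IsInvertible ((Scheme.Modules.pushforward f).obj L) ∧
      IsIso ((Scheme.Modules.pullbackPushforwardAdjunction f).counit.app L) := by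
  haveI : L.IsQuasicoherent := Mero90.isQCoh_of_isInvertible hL
  haveI := isIso_unitToPush f' (bijective_app_baseChange f g f' g' H hf)
  have hP : PicF.IsInvertible ((Scheme.Modules.pushforward f').obj ((Scheme.Modules.pullback g').obj L)) :=
    EGA73.isInvertible_of_iso (asIso (ClSub.unitToPush f') ≪≫ (Scheme.Modules.pushforward f').mapIso φ.symm)
      EGA73.isInvertible_structureModule
  have hN := isInvertible_pushforward f g f' g' H L hP
  refine ⟨hN, ValVan29.isIso_of_bijective_small _ fun x => ?_⟩
  obtain ⟨V, hxV, -, e, he⟩ := Mero90.exists_affine_frame hN (f x) ⊤ trivial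
  have h1 := Amp73.isFrame_pullS f hN he
  have h2 := isFrame_of_trivial f g f' g' H L hL φ V.2 he
  refine ⟨f ⁻¹ᵁ V.1, hxV, fun T hT => ?_⟩
  let adj := Scheme.Modules.pullbackPushforwardAdjunction f
  have key : (adj.counit.app L).app (f ⁻¹ᵁ V.1) (Amp73.pullS f _ V.1 e) = (show Γ(L, f ⁻¹ᵁ V.1) from e) :=
    ConcreteCategory.congr_hom (congrArg (fun t => Scheme.Modules.Hom.app t V.1) (adj.right_triangle_components L)) e
  refine (Function.Bijective.of_comp_iff _ (h1 T hT)).1 ?_
  have e' : ((adj.counit.app L).app T : _ → _) ∘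
      (fun a : Γ(X, T) => a • res _ hT (Amp73.pullS f _ V.1 e)) =
      fun a : Γ(X, T) => a • res L hT (show Γ(L, f ⁻¹ᵁ V.1) from e) := by
    funext a
    refine (Scheme.Modules.Hom.app_smul (adj.counit.app L) a _).trans (congrArg (a • ·) ?_)
    exact (Mero90.app_res (adj.counit.app L) hT _).trans (congrArg (res L hT) key)
  rw [e']
  exact h2 T hT

/-- Injectivity on Picard groups is inherited along `f` with `f_* O = O`. -/
theorem picPullbackInjective (H : IsPullback g' f' f g) (hf : ∀ V : Y.Opens, Function.Bijective (f.app V))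
    (hg : Formal2.PicPullbackInjective g) : Formal2.PicPullbackInjective g' := by
  intro L hL ⟨φ⟩
  obtain ⟨hN, hε⟩ := invertible_and_counit f g f' g' H hf L hL φ
  haveI := hε
  let N := (Scheme.Modules.pushforward f).obj L
  have i1 : (Scheme.Modules.pullback f').obj ((Scheme.Modules.pullback g).obj N) ≅ Coh.structureModule X' :=
    (Scheme.Modules.pullbackComp f' g).app N ≪≫ (Scheme.Modules.pullbackCongr H.w.symm).app N ≪≫
      ((Scheme.Modules.pullbackComp g' f).app N).symm ≪≫
        (Scheme.Modules.pullback g').mapIso (asIso ((Scheme.Modules.pullbackPushforwardAdjunction f).counit.app L)) ≪≫ φ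
  have hu := isIso_unitToPush f' (bijective_app_baseChange f g f' g' H hf)
  haveI := hu
  haveI := H98Pos.isIso_unit_of_isInvertible f' hu (Amp73.isInvertible_pullback g hN)
  obtain ⟨ψ⟩ := hg N hN ⟨asIso ((Scheme.Modules.pullbackPushforwardAdjunction f').unit.app _) ≪≫
    (Scheme.Modules.pushforward f').mapIso i1 ≪≫ (asIso (ClSub.unitToPush f')).symm⟩
  exact ⟨(asIso ((Scheme.Modules.pullbackPushforwardAdjunction f).counit.app L)).symm ≪≫
    (Scheme.Modules.pullback f).mapIso ψ ≪≫ PicLoc.pullbackStructureIso f⟩

end Groth.Agent.ParaF26.DescPush
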