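import Groth.Agent.ParaF26.Sections
import Groth.Prelude.Def_ParaF

/-!
Parafactorial pairs: the two conditions.
-/

set_option autoImplicit false
set_option linter.style.haveILetI false

universe u

open CategoryTheory AlgebraicGeometry Opposite TopologicalSpace

noncomputable section

namespace Groth.Agent.ParaF26

open Var76.LineBundle Var76.ZeroScheme

variable {X : Scheme.{u}}

theorem unitHom_bijective (M : X.Modules) : Function.Bijective (EGA73.unitHom M) := by
  have hone : ∀ e : Γ(M, ⊤), (EGA73.unitHom M e).app ⊤ (1 : Γ(X, ⊤)) = e := fun e => by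
    rw [EGA73.unitHom_app, one_smul]
    exact Amp73.res_self M e
  refine ⟨fun a b hab => ?_, fun φ => ⟨φ.app ⊤ ((1 : Γ(X, ⊤)) : Γ(Coh.structureModule X, ⊤)), ?_⟩⟩
  · rw [← hone a, hab, hone b]
  · refine Scheme.Modules.hom_ext _ _ fun V => ?_
    refine ConcreteCategory.hom_ext _ _ fun (c : Γ(X, V)) => ?_
    rw [EGA73.unitHom_app]
    refine (congrArg (c • ·) (Mero90.app_res φ (le_top : V ≤ ⊤) _).symm).trans ?_
    rw [← Scheme.Modules.Hom.app_smul]
    refine congrArg (φ.app V) ?_
    show c * (X.presheaf.map (homOfLE (le_top : V ≤ ⊤)).op) 1 = c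
    rw [map_one, mul_one]

section One

variable {U : Scheme.{u}} (j : U ⟶ X) [IsOpenImmersion j]

theorem unit_app_bijective_iff (M : X.Modules) (W : X.Opens) :
    Function.Bijective (((Scheme.Modules.restrictAdjunction j).unit.app M).app W) ↔
      Function.Bijective (res M (inf_le_left : W ⊓ j.opensRange ≤ W)) := by
  have hW : j ''ᵁ (j ⁻¹ᵁ W) = W ⊓ j.opensRange := by
    rw [Scheme.Hom.image_preimage_eq_opensRange_inf, inf_comm]
  have e : (((Scheme.Modules.restrictAdjunction j).unit.app M).app W : _ → _) =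
      res M hW.le ∘ res M (inf_le_left : W ⊓ j.opensRange ≤ W) := by
    funext a
    rw [Function.comp_apply, res_res]
    rfl
  rw [e]
  exact Function.Bijective.of_comp_iff' (bijective_res_of_eq M _ hW.ge) _

theorem isIso_unit (M : X.Modules) (h : Closed M j.opensRange ⊤) :
    IsIso ((Scheme.Modules.restrictAdjunction j).unit.app M) := by
  rw [Scheme.Modules.Hom.isIso_iff_isIso_app]
  exact fun W => (ConcreteCategory.isIso_iff_bijective _).2 ((unit_app_bijective_iff j M W).2 (h W le_top))

theorem map_bijective_iff (L L' : X.Modules) :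
    Function.Bijective (fun φ : L ⟶ L' => (Scheme.Modules.restrictFunctor j).map φ) ↔
      Function.Bijective (fun φ : L ⟶ L' => φ ≫ (Scheme.Modules.restrictAdjunction j).unit.app L') := by
  let adj := Scheme.Modules.restrictAdjunction j
  have e : (fun φ : L ⟶ L' => φ ≫ adj.unit.app L') =
      adj.homEquiv L ((Scheme.Modules.restrictFunctor j).obj L') ∘
        fun φ : L ⟶ L' => (Scheme.Modules.restrictFunctor j).map φ := by
    funext φ
    rw [Function.comp_apply, adj.homEquiv_unit]
    exact adj.unit.naturality φ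
  rw [e]
  exact (Function.Bijective.of_comp_iff' (adj.homEquiv L _).bijective _).symm

theorem full_faithful (h : ResBij X j.opensRange) {L L' : X.Modules} (hL' : PicF.IsInvertible L') :
    Function.Bijective (fun φ : L ⟶ L' => (Scheme.Modules.restrictFunctor j).map φ) := by
  rw [map_bijective_iff]
  haveI := isIso_unit j L' (closed_of_framedOn h (framedOn_of_invertible hL' ⊤))
  exact ((asIso ((Scheme.Modules.restrictAdjunction j).unit.app L')).homToEquiv).bijective

theorem global_res_bijective
    (h : Function.Bijective (fun φ : Coh.structureModule X ⟶ Coh.structureModule X =>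
      (Scheme.Modules.restrictFunctor j).map φ)) :
    Function.Bijective (X.presheaf.map (homOfLE (le_top : j.opensRange ≤ ⊤)).op) := by
  rw [map_bijective_iff] at h
  let η := (Scheme.Modules.restrictAdjunction j).unit.app (Coh.structureModule X)
  have e : (fun φ : Coh.structureModule X ⟶ Coh.structureModule X => φ ≫ η) ∘
      EGA73.unitHom (Coh.structureModule X) = EGA73.unitHom _ ∘ η.app ⊤ := by
    funext a
    refine Scheme.Modules.hom_ext _ _ fun V => ?_
    refine ConcreteCategory.hom_ext _ _ fun (c : Γ(X, V)) => ?_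
    show η.app V ((EGA73.unitHom _ a).app V c) = (EGA73.unitHom _ (η.app ⊤ a)).app V c
    rw [EGA73.unitHom_app, EGA73.unitHom_app, Scheme.Modules.Hom.app_smul]
    exact congrArg (c • ·) (Mero90.app_res η (le_top : V ≤ ⊤) a)
  have h1 : Function.Bijective (η.app ⊤) :=
    (Function.Bijective.of_comp_iff' (unitHom_bijective _) _).1 (e ▸ h.comp (unitHom_bijective _))
  rw [unit_app_bijective_iff] at h1
  have e3 : (X.presheaf.map (homOfLE (le_top : j.opensRange ≤ ⊤)).op : _ → _) =
      res (Coh.structureModule X) (le_inf le_top le_rfl : j.opensRange ≤ ⊤ ⊓ j.opensRange) ∘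
        res (Coh.structureModule X) (inf_le_left : (⊤ : X.Opens) ⊓ j.opensRange ≤ ⊤) := by
    funext a
    rw [Function.comp_apply, res_res]
    rfl
  rw [e3]
  exact (bijective_res_of_eq _ _ inf_le_right).comp h1

/-- The criterion for one open immersion. -/
theorem invRestrictEquiv_iff (h : ResBij X j.opensRange) :
    ParaF.InvRestrictEquiv j ↔ ∀ L : U.Modules, PicF.IsInvertible L →
      PicF.IsInvertible ((Scheme.Modules.pushforward j).obj L) := by
  constructor
  · intro hE L hL
    obtain ⟨L', hL', ⟨i⟩⟩ := hE.2 L hL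
    haveI := isIso_unit j L' (closed_of_framedOn h (framedOn_of_invertible hL' ⊤))
    exact EGA73.isInvertible_of_iso
      (asIso ((Scheme.Modules.restrictAdjunction j).unit.app L') ≪≫ (Scheme.Modules.pushforward j).mapIso i) hL'
  · intro hP
    exact ⟨fun L L' _ hL' => full_faithful j h hL', fun L hL => ⟨_, hP L hL,
      ⟨(asIso (Scheme.Modules.restrictAdjunction j).counit).app L⟩⟩⟩

end One

theorem image_inf {Y : Scheme.{u}} (g : Y ⟶ X) [IsOpenImmersion g] (A B : Y.Opens) :
    g ''ᵁ (A ⊓ B) = g ''ᵁ A ⊓ g ''ᵁ B :=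
  Opens.ext (Set.image_inter g.isOpenEmbedding.injective)

theorem opensRange_homOfLE_image {V U : X.Opens} :
    V.ι ''ᵁ (X.homOfLE (inf_le_left : V ⊓ U ≤ V)).opensRange = V ⊓ U := by
  rw [Scheme.opensRange_homOfLE, Scheme.Hom.image_preimage_eq_opensRange_inf, Scheme.Opens.opensRange_ι,
    ← inf_assoc, inf_idem]

theorem resBij_subscheme {U : X.Opens} (h : ResBij X U) (V : X.Opens) :
    ResBij (V : Scheme.{u}) (X.homOfLE (inf_le_left : V ⊓ U ≤ V)).opensRange := by
  intro W
  have hWV : V.ι ''ᵁ W ≤ V := (V.ι.image_le_opensRange W).trans V.opensRange_ι.le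
  have hW : V.ι ''ᵁ (W ⊓ (X.homOfLE (inf_le_left : V ⊓ U ≤ V)).opensRange) = V.ι ''ᵁ W ⊓ U := by
    rw [image_inf, opensRange_homOfLE_image, ← inf_assoc, inf_eq_left.2 hWV]
  have e : ((V : Scheme.{u}).presheaf.map
        (homOfLE (inf_le_left : W ⊓ (X.homOfLE (inf_le_left : V ⊓ U ≤ V)).opensRange ≤ W)).op : _ → _) =
      (X.presheaf.map (homOfLE hW.le).op : _ → _) ∘
        X.presheaf.map (homOfLE (inf_le_left : V.ι ''ᵁ W ⊓ U ≤ V.ι ''ᵁ W)).op := by
    funext a
    simp only [Function.comp_apply, ← ConcreteCategory.comp_apply, ← Functor.map_comp, ← op_comp,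
      homOfLE_comp]
    rfl
  rw [e]
  exact (bijective_map_of_eq _ hW.ge).comp (h _)

/-- Both conditions for a parafactorial pair. -/
theorem isParafactorialPair_iff (Y : Closeds ↥X) :
    ParaF.IsParafactorialPair X Y ↔ ResBij X Y.compl ∧ ExtFr X Y.compl := by
  let U := Y.compl
  constructor
  · intro hP
    have hres : ResBij X U := fun V => by
      let j := X.homOfLE (inf_le_left : V ⊓ U ≤ V)
      have h1 := global_res_bijective j ((hP V).1 _ _ EGA73.isInvertible_structureModule
        EGA73.isInvertible_structureModule)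
      have hR : V.ι ''ᵁ j.opensRange = V ⊓ U := opensRange_homOfLE_image
      have hT : V.ι ''ᵁ ⊤ = V := V.ι_image_top
      have e : (X.presheaf.map (homOfLE (inf_le_left : V ⊓ U ≤ V)).op : _ → _) =
          (X.presheaf.map (homOfLE hR.ge).op : _ → _) ∘
            ((V : Scheme.{u}).presheaf.map (homOfLE (le_top : j.opensRange ≤ ⊤)).op : _ → _) ∘
              (X.presheaf.map (homOfLE hT.le).op : _ → _) := by
        funext a
        simp only [Function.comp_apply]
        show _ = X.presheaf.map (homOfLE hR.ge).op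
          (X.presheaf.map (homOfLE (V.ι.image_mono (le_top : j.opensRange ≤ ⊤))).op
            (X.presheaf.map (homOfLE hT.le).op a))
        simp only [← ConcreteCategory.comp_apply, ← Functor.map_comp, ← op_comp, homOfLE_comp]
      rw [e]
      exact (bijective_map_of_eq _ hR.le).comp (h1.comp (bijective_map_of_eq _ hT.ge))
    refine ⟨hres, fun V M hM hc => ?_⟩
    let j := X.homOfLE (inf_le_left : V ⊓ U ≤ V)
    have hres' := resBij_subscheme hres V
    have hL : PicF.IsInvertible ((M.restrict V.ι).restrict j) := by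
      refine isInvertible_restrict_of_framedOn j ?_
      refine framedOn_mono (fun v hv => ?_) (framedOn_restrict V.ι hM)
      rw [Scheme.opensRange_homOfLE] at hv
      exact hv
    have hinv := (invRestrictEquiv_iff j hres').1 (hP V) _ hL
    haveI : IsIso ((Scheme.Modules.restrictAdjunction j).unit.app (M.restrict V.ι)) := by
      refine isIso_unit j _ fun W _ => ?_
      have hWV : V.ι ''ᵁ W ≤ V := (V.ι.image_le_opensRange W).trans V.opensRange_ι.le
      have hW : V.ι ''ᵁ (W ⊓ j.opensRange) = V.ι ''ᵁ W ⊓ U := by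
        rw [image_inf, opensRange_homOfLE_image, ← inf_assoc, inf_eq_left.2 hWV]
      have e : (res (M.restrict V.ι) (inf_le_left : W ⊓ j.opensRange ≤ W) : _ → _) =
          res M hW.le ∘ res M (inf_le_left : V.ι ''ᵁ W ⊓ U ≤ V.ι ''ᵁ W) := by
        funext a
        rw [Function.comp_apply, res_res]
        rfl
      rw [e]
      exact (bijective_res_of_eq M _ hW.ge).comp (hc _ hWV)
    have hMV : PicF.IsInvertible (M.restrict V.ι) := EGA73.isInvertible_of_iso
      (asIso ((Scheme.Modules.restrictAdjunction j).unit.app (M.restrict V.ι))).symm hinv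
    have hfin := framedOn_of_restrict V.ι (framedOn_of_invertible hMV ⊤)
    rwa [V.ι_image_top] at hfin
  · rintro ⟨hres, hext⟩ V
    let j := X.homOfLE (inf_le_left : V ⊓ U ≤ V)
    refine (invRestrictEquiv_iff j (resBij_subscheme hres V)).2 fun L hL => ?_
    let M := (Scheme.Modules.pushforward V.ι).obj ((Scheme.Modules.pushforward j).obj L)
    have hfr : FramedOn M (V ⊓ U) := by
      intro x hx
      obtain ⟨W, e, hxW, hW, he⟩ := framedOn_push j hL (V := j.opensRange) le_rfl ⟨x, hx.1⟩
        (by rw [Scheme.opensRange_homOfLE]; exact ⟨hx.1, hx.2⟩)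
      have hle : V.ι ''ᵁ W ≤ V ⊓ U := (V.ι.image_mono hW).trans opensRange_homOfLE_image.le
      exact ⟨V.ι ''ᵁ W, _, ⟨⟨x, hx.1⟩, hxW, rfl⟩, hle,
        isFrame_push V.ι (fun W' hW' => bijective_app_of_le V.ι
          ((hW'.trans hle).trans (inf_le_left.trans V.opensRange_ι.ge)))
          (he.res (V.ι.preimage_image_eq W).le)⟩
    have hcl : Closed M U V := fun W hW =>
      closed_pushforward j L ⊤ (inf_le_right : ⊤ ⊓ j.opensRange ≤ j.opensRange) (V.ι ⁻¹ᵁ W) le_top
        |> fun h => by
          have hR : V.ι ⁻¹ᵁ (W ⊓ U) = V.ι ⁻¹ᵁ W ⊓ j.opensRange := by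
            rw [Scheme.opensRange_homOfLE]
            exact le_antisymm (fun v hv => ⟨hv.1, v.2, hv.2⟩) fun v hv => ⟨hv.1, hv.2.2⟩
          have e : (res M (inf_le_left : W ⊓ U ≤ W) : _ → _) =
              res ((Scheme.Modules.pushforward j).obj L) hR.le ∘
                res ((Scheme.Modules.pushforward j).obj L) (inf_le_left : V.ι ⁻¹ᵁ W ⊓ j.opensRange ≤ V.ι ⁻¹ᵁ W) := by
            funext a
            rw [Function.comp_apply, res_res]
            rfl
          rw [e]
          exact (bijective_res_of_eq _ _ hR.ge).comp h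
    refine isInvertible_of_framedOn_push V.ι ?_
    rw [V.opensRange_ι]
    exact hext V M hfr hcl

end Groth.Agent.ParaF26
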