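import Groth.Agent.ParaF26.Spread

/-!
Parafactorial pairs are detected by the local rings.
-/

set_option autoImplicit false
set_option linter.style.haveILetI false
set_option backward.isDefEq.respectTransparency.types false

universe u

open CategoryTheory AlgebraicGeometry Opposite TopologicalSpace

noncomputable section

namespace Groth.Agent.ParaF26

open Var76.LineBundle Var76.ZeroScheme

variable {X Y : Scheme.{u}}

theorem closed_enlarge {M : X.Modules} {U U' V : X.Opens} (hle : U ≤ U') (hres : ResBij X U)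
    (hM : FramedOn M (V ⊓ U')) (hc : Closed M U V) : Closed M U' V := by
  intro T hT
  have h2 : Function.Bijective (res M (inf_le_inf_left T hle)) := by
    have h1 := closed_of_framedOn hres hM (T ⊓ U') (inf_le_inf_right U' hT)
    have e : ∀ (S : X.Opens) (hS : S ≤ T ⊓ U'), (T ⊓ U' ⊓ U = S) → Function.Bijective (res M hS) := by
      rintro S hS rfl
      exact h1
    exact e _ _ (by rw [inf_assoc, inf_eq_right.2 hle])
  refine (Function.Bijective.of_comp_iff' h2 _).1 ?_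
  convert hc T hT using 1
  funext a
  rw [Function.comp_apply, res_res]

section Imm

variable (g : Y ⟶ X) [IsOpenImmersion g]

theorem image_inf_preimage_of_imm (T : Y.Opens) (U : X.Opens) :
    g ''ᵁ (T ⊓ g ⁻¹ᵁ U) = g ''ᵁ T ⊓ U := by
  rw [image_inf, Scheme.Hom.image_preimage_eq_opensRange_inf, ← inf_assoc,
    inf_eq_left.2 (g.image_le_opensRange T)]

theorem closed_restrict_imm {M : X.Modules} {U V : X.Opens} (h : Closed M U V) :
    Closed (M.restrict g) (g ⁻¹ᵁ U) (g ⁻¹ᵁ V) := by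
  intro T hT
  have hW := image_inf_preimage_of_imm g T U
  have e : (res (M.restrict g) (inf_le_left : T ⊓ g ⁻¹ᵁ U ≤ T) : _ → _) =
      res M hW.le ∘ res M (inf_le_left : g ''ᵁ T ⊓ U ≤ g ''ᵁ T) := by
    funext a
    rw [Function.comp_apply, res_res]
    rfl
  rw [e]
  exact (bijective_res_of_eq M _ hW.ge).comp (h _ ((g.image_mono hT).trans (g.image_preimage_le V)))

theorem extFr_imm {U : X.Opens} (h : ExtFr X U) : ExtFr Y (g ⁻¹ᵁ U) := by
  intro V M hM hc
  let V' : X.Opens := g ''ᵁ V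
  let M' := (Scheme.Modules.pushforward g).obj M
  have hV' : V' ≤ g.opensRange := g.image_le_opensRange V
  have hpre : g ⁻¹ᵁ V' = V := g.preimage_image_eq V
  have hfr : FramedOn M' (V' ⊓ U) := by
    rintro _ ⟨⟨y, hy, rfl⟩, hyU⟩
    obtain ⟨T, e, hxT, hT, he⟩ := hM y ⟨hy, hyU⟩
    have hle : g ''ᵁ T ≤ V' ⊓ U := le_inf (g.image_mono (hT.trans inf_le_left))
      ((g.image_mono (hT.trans inf_le_right)).trans (g.image_preimage_le U))
    exact ⟨g ''ᵁ T, _, ⟨y, hxT, rfl⟩, hle, isFrame_push g (fun S hS => bijective_app_of_le g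
      (hS.trans (g.image_le_opensRange T))) (he.res (g.preimage_image_eq T).le)⟩
  have hcl : Closed M' U V' := fun T hT => hc (g ⁻¹ᵁ T) (hpre ▸ g.preimage_mono hT)
  intro v hv
  obtain ⟨T, e, hxT, hT, he⟩ := h V' M' hfr hcl (g v) ⟨v, hv, rfl⟩
  exact ⟨g ⁻¹ᵁ T, e, hxT, (g.preimage_mono hT).trans hpre.le, isFrame_of_push g (hT.trans hV') he⟩

theorem resBij_imm [IsLocallyNoetherian X] [IsLocallyNoetherian Y] {U : X.Opens} (h : ResBij X U) :
    ResBij Y (g ⁻¹ᵁ U) := resBij_of_depth fun y hy => by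
  haveI : IsIso (g.stalkMap y) := inferInstance
  rw [← CAlg1.depth_eq_of_ringEquiv (asIso (g.stalkMap y)).commRingCatIsoToRingEquiv]
  exact two_le_depth_of_resBij h (g y) hy

end Imm

theorem stalk_parafactorial_of_pair [IsLocallyNoetherian X] {U : X.Opens} (hres : ResBij X U)
    (hext : ExtFr X U) {y : X} (hy : y ∉ U) : ParaF.IsParafactorialLocalRing (X.presheaf.stalk y) := by
  obtain ⟨W, hW, hyW, -⟩ := exists_isAffineOpen_mem_and_subset (show y ∈ (⊤ : X.Opens) from trivial)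
  haveI : IsNoetherianRing Γ(X, W) := IsLocallyNoetherian.component_noetherian ⟨W, hW⟩
  letI : Algebra Γ(X, W) (X.presheaf.stalk y) := (X.presheaf.germ W y hyW).hom.toAlgebra
  let p := hW.primeIdealOf ⟨y, hyW⟩
  haveI : IsLocalization.AtPrime (X.presheaf.stalk y) p.asIdeal := hW.isLocalization_stalk ⟨y, hyW⟩
  haveI : IsNoetherianRing (X.presheaf.stalk y) :=
    IsLocalization.isNoetherianRing p.asIdeal.primeCompl _ inferInstance
  refine parafactorial_iff.2 ⟨two_le_depth_of_resBij hres y hy, ?_⟩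
  let g := hW.fromSpec
  have hgp : g p = y := hW.fromSpec_primeIdealOf ⟨y, hyW⟩
  have hle : g ⁻¹ᵁ U ≤ away p := fun q hq hpq => hy (by
    have h1 : g p ⤳ g q := ((PrimeSpectrum.le_iff_specializes p q).1 hpq).map g.continuous
    exact hgp ▸ h1.mem_open U.2 hq)
  exact picTrivial_of_extFr p _ (extFr_mono hle (resBij_imm g hres) (extFr_imm g hext))

theorem resBij_of_stalks [IsLocallyNoetherian X] {U : X.Opens}
    (h : ∀ y : X, y ∉ U → ParaF.IsParafactorialLocalRing (X.presheaf.stalk y)) : ResBij X U :=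
  resBij_of_depth fun y hy => by
    obtain ⟨W, hW, hyW, -⟩ := exists_isAffineOpen_mem_and_subset (show y ∈ (⊤ : X.Opens) from trivial)
    haveI : IsNoetherianRing Γ(X, W) := IsLocallyNoetherian.component_noetherian ⟨W, hW⟩
    letI : Algebra Γ(X, W) (X.presheaf.stalk y) := (X.presheaf.germ W y hyW).hom.toAlgebra
    haveI : IsLocalization.AtPrime (X.presheaf.stalk y) (hW.primeIdealOf ⟨y, hyW⟩).asIdeal :=
      hW.isLocalization_stalk ⟨y, hyW⟩
    haveI : IsNoetherianRing (X.presheaf.stalk y) :=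
      IsLocalization.isNoetherianRing (hW.primeIdealOf ⟨y, hyW⟩).asIdeal.primeCompl _ inferInstance
    exact (parafactorial_iff.1 (h y hy)).1

theorem extFr_of_stalks [IsLocallyNoetherian X] {U : X.Opens}
    (h : ∀ y : X, y ∉ U → ParaF.IsParafactorialLocalRing (X.presheaf.stalk y)) : ExtFr X U := by
  intro V M hM hc x hx
  obtain ⟨W, hW, hxW, hWV⟩ := exists_isAffineOpen_mem_and_subset hx
  haveI : IsNoetherianRing Γ(X, W) := IsLocallyNoetherian.component_noetherian ⟨W, hW⟩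
  let g := hW.fromSpec
  let M' := M.restrict g
  let U₀ : (Spec Γ(X, W)).Opens := g ⁻¹ᵁ U
  have hrange : g.opensRange ≤ V := hW.opensRange_fromSpec.le.trans fun z hz => hWV hz
  have hres : ResBij (Spec Γ(X, W)) U₀ := resBij_imm g (resBij_of_stalks h)
  have hc₀ : Closed M' U₀ ⊤ := by
    have := closed_restrict_imm g hc
    rwa [show g ⁻¹ᵁ V = ⊤ from eq_top_iff.2 fun z _ => hrange ⟨z, rfl⟩] at this
  have hfr₀ : FramedOn M' U₀ :=
    framedOn_mono (V := g ⁻¹ᵁ (V ⊓ U)) (fun z hz => ⟨hrange ⟨z, rfl⟩, hz⟩) (framedOn_restrict g hM)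
  let O : (Spec Γ(X, W)).Opens :=
    ⟨{q | ∃ (T : (Spec Γ(X, W)).Opens) (e : Γ(M', T)), q ∈ T ∧ IsFrame M' T e},
      isOpen_iff_forall_mem_open.2 (by
        rintro q ⟨T, e, hqT, he⟩
        exact ⟨T, fun z hz => ⟨T, e, hz, he⟩, T.2, hqT⟩)⟩
  have hO : FramedOn M' O := fun q ⟨T, e, hqT, he⟩ => ⟨T, e, hqT, fun z hz => ⟨T, e, hz, he⟩, he⟩
  suffices htop : O = ⊤ by
    obtain ⟨T, e, hT, hTle, he⟩ := framedOn_of_restrict g hO x
      ⟨hW.primeIdealOf ⟨x, hxW⟩, by rw [htop]; trivial, hW.fromSpec_primeIdealOf ⟨x, hxW⟩⟩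
    exact ⟨T, e, hT, hTle.trans ((g.image_le_opensRange O).trans hrange), he⟩
  by_contra hne
  let I : Ideal Γ(X, W) := PrimeSpectrum.vanishingIdeal (O : Set (Spec Γ(X, W)))ᶜ
  have hI : ∀ q : PrimeSpectrum Γ(X, W), I ≤ q.asIdeal ↔ q ∉ O := fun q => by
    have h1 := PrimeSpectrum.zeroLocus_vanishingIdeal_eq_closure ((O : Set (Spec Γ(X, W)))ᶜ)
    have h2 := h1.trans O.isOpen.isClosed_compl.closure_eq
    exact Iff.trans (show I ≤ q.asIdeal ↔ q ∈ PrimeSpectrum.zeroLocus (I : Set Γ(X, W)) from Iff.rfl)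
      (by rw [h2]; rfl)
  obtain ⟨q₀, hq₀⟩ : ∃ q : PrimeSpectrum Γ(X, W), q ∉ O := by
    by_contra hall
    exact hne (eq_top_iff.2 fun q _ => not_not.1 fun hq => hall ⟨q, hq⟩)
  obtain ⟨P, hP, -⟩ := Ideal.exists_minimalPrimes_le ((hI q₀).2 hq₀)
  let p : PrimeSpectrum Γ(X, W) := ⟨P, hP.1.1⟩
  haveI hpp : p.asIdeal.IsPrime := hP.1.1
  have hpO : p ∉ O := (hI p).1 hP.1.2
  obtain ⟨b, hb, hshr⟩ := exists_shrink I p.asIdeal fun q hq hIq hqp =>
    le_antisymm hqp (hP.2 ⟨hq, hIq⟩ hqp)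
  let y := g p
  have hy : y ∉ U := fun hyU => by
    obtain ⟨T, e, hT, -, he⟩ := hfr₀ p hyU
    exact hpO ⟨T, e, hT, he⟩
  have hyW : y ∈ W := hW.opensRange_fromSpec.le ⟨p, rfl⟩
  have hpy : hW.primeIdealOf ⟨y, hyW⟩ = p :=
    hW.fromSpec.isOpenEmbedding.injective (hW.fromSpec_primeIdealOf ⟨y, hyW⟩)
  letI : Algebra Γ(X, W) (X.presheaf.stalk y) := (X.presheaf.germ W y hyW).hom.toAlgebra
  haveI : IsLocalization.AtPrime (X.presheaf.stalk y) p.asIdeal := by
    have h' := hW.isLocalization_stalk ⟨y, hyW⟩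
    rw [hpy] at h'
    exact h'
  haveI : IsNoetherianRing (X.presheaf.stalk y) :=
    IsLocalization.isNoetherianRing p.asIdeal.primeCompl _ inferInstance
  have hle : U₀ ≤ away p := fun q hq hpq =>
    hy (((PrimeSpectrum.le_iff_specializes p q).1 hpq).mem_open U₀.2 hq)
  have hfr : FramedOn M' (PrimeSpectrum.basicOpen b ⊓ away p) := framedOn_mono (fun q hq => by
    by_contra hq'
    exact hq.2 (hshr _ q.2 ((hI q).2 hq') hq.1)) hO
  obtain ⟨T, e, hpT, -, he⟩ := exists_frame_at_point p (X.presheaf.stalk y) (h y hy) hb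
    (fun T hT => (resBij_mono hle hres) T)
    (closed_enlarge hle hres hfr fun T hT => hc₀ T le_top) hfr
  exact hpO ⟨T, e, hpT, he⟩

theorem isParafactorialPair_iff_stalks [IsLocallyNoetherian X] (Z : Closeds ↥X) :
    ParaF.IsParafactorialPair X Z ↔
      ∀ y : ↥X, y ∈ Z → ParaF.IsParafactorialLocalRing (X.presheaf.stalk y) := by
  rw [isParafactorialPair_iff]
  refine ⟨fun h y hy => stalk_parafactorial_of_pair h.1 h.2 (fun h' => h' hy), fun h => ?_⟩
  exact ⟨resBij_of_stalks fun y hy => h y (not_not.1 hy), extFr_of_stalks fun y hy => h y (not_not.1 hy)⟩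

end Groth.Agent.ParaF26
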