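import Groth.Agent.ParaF26.Open
import Groth.Prelude.Def_FlatMod2

/-!
Finite locally free modules are determined by their sections on `U`.
-/

set_option autoImplicit false
set_option linter.style.haveILetI false

universe u

open CategoryTheory CategoryTheory.Limits AlgebraicGeometry Opposite TopologicalSpace

noncomputable section

namespace Groth.Agent.ParaF26

open Var76.LineBundle Var76.ZeroScheme

variable {X : Scheme.{u}}

/-- A natural transformation of additive functors, invertible at an object, is invertible at its finite sums. -/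
theorem isIso_app_sigma {C D : Type*} [Category C] [Category D] [Preadditive C] [Preadditive D]
    [HasFiniteCoproducts C] {F G : C ⥤ D} [F.Additive] [G.Additive] (α : F ⟶ G) {n : ℕ} (P : C)
    [IsIso (α.app P)] : IsIso (α.app (∐ fun _ : Fin n => P)) := by
  let ι := fun i : Fin n => Sigma.ι (fun _ : Fin n => P) i
  let π := fun i : Fin n => Sigma.π (fun _ : Fin n => P) i
  have htot : ∑ i, π i ≫ ι i = 𝟙 (∐ fun _ : Fin n => P) := by
    refine Sigma.hom_ext _ _ fun i => ?_
    rw [Preadditive.comp_sum, Finset.sum_eq_single i]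
    · simp [ι, π]
    · intro j _ hj
      simp only [ι, π]
      rw [Sigma.ι_π_of_ne_assoc _ (Ne.symm hj), zero_comp]
    · simp
  refine ⟨∑ i, G.map (π i) ≫ inv (α.app P) ≫ F.map (ι i), ?_, ?_⟩
  · rw [Preadditive.comp_sum]
    simp only [← α.naturality_assoc, IsIso.hom_inv_id_assoc, ← F.map_comp, ← F.map_sum, htot, F.map_id]
  · rw [Preadditive.sum_comp]
    simp only [Category.assoc, α.naturality, IsIso.inv_hom_id_assoc, ← G.map_comp, ← G.map_sum, htot, G.map_id]

theorem closed_of_isIso_unit {U : Scheme.{u}} (j : U ⟶ X) [IsOpenImmersion j] (M : X.Modules)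
    [IsIso ((Scheme.Modules.restrictAdjunction j).unit.app M)] : Closed M j.opensRange ⊤ := fun W _ =>
  (unit_app_bijective_iff j M W).1 (ConcreteCategory.bijective_of_isIso
    (((Scheme.Modules.restrictAdjunction j).unit.app M).app W))

theorem closed_freeMod {U : X.Opens} (h : ResBij X U) (n : ℕ) : Closed (FlatMod.freeMod X n) U ⊤ := by
  haveI := isIso_unit U.ι (Coh.structureModule X)
    (by rw [Scheme.Opens.opensRange_ι]; exact closed_structureModule h ⊤)
  haveI : (Scheme.Modules.restrictFunctor U.ι).Additive := ⟨fun {_ _ _ _} => rfl⟩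
  haveI := isIso_app_sigma (Scheme.Modules.restrictAdjunction U.ι).unit (n := n) (Coh.structureModule X)
  have h1 := closed_of_isIso_unit U.ι (FlatMod.freeMod X n)
  rwa [Scheme.Opens.opensRange_ι] at h1

theorem closed_of_isFinLocFree {U : X.Opens} (h : ResBij X U) {E : X.Modules} (hE : FlatMod.IsFinLocFree E) :
    Closed E U ⊤ := closed_of_locally fun x _ => by
  obtain ⟨W, n, hx, ⟨φ⟩⟩ := hE x
  refine ⟨W, hx, fun T hT => ?_⟩
  have h1 := (restrict_res_bijective_iff E W U (W.ι ⁻¹ᵁ T)).1
    (closed_of_iso φ.symm (closed_freeMod (resBij_open h W) n) _ le_top)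
  revert h1
  generalize hT' : W.ι ''ᵁ (W.ι ⁻¹ᵁ T) = T'
  obtain rfl : T' = T := hT'.symm.trans (image_preimage_of_le _ _ hT)
  exact id

theorem isFinLocFree_of_iso {M N : X.Modules} (φ : M ≅ N) (h : FlatMod.IsFinLocFree M) :
    FlatMod.IsFinLocFree N := fun x => by
  obtain ⟨W, n, hx, ⟨ψ⟩⟩ := h x
  exact ⟨W, n, hx, ⟨(Scheme.Modules.restrictFunctor W.ι).mapIso φ.symm ≪≫ ψ⟩⟩

theorem extends_iff_pushforward {U : X.Opens} (h : ResBij X U) (F : (U : Scheme.{u}).Modules) :
    ((∃ E : X.Modules, FlatMod.IsFinLocFree E ∧ Nonempty (E.restrict U.ι ≅ F)) ↔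
        FlatMod.IsFinLocFree ((Scheme.Modules.pushforward U.ι).obj F)) ∧
      (∀ E : X.Modules, FlatMod.IsFinLocFree E → Nonempty (E.restrict U.ι ≅ F) →
        Nonempty (E ≅ (Scheme.Modules.pushforward U.ι).obj F)) := by
  have key : ∀ E : X.Modules, FlatMod.IsFinLocFree E → Nonempty (E.restrict U.ι ≅ F) →
      Nonempty (E ≅ (Scheme.Modules.pushforward U.ι).obj F) := fun E hE ⟨i⟩ => by
    haveI := isIso_unit U.ι E (by rw [Scheme.Opens.opensRange_ι]; exact closed_of_isFinLocFree h hE)
    exact ⟨asIso ((Scheme.Modules.restrictAdjunction U.ι).unit.app E) ≪≫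
      (Scheme.Modules.pushforward U.ι).mapIso i⟩
  exact ⟨⟨fun ⟨E, hE, hi⟩ => (key E hE hi).elim fun φ => isFinLocFree_of_iso φ hE,
    fun hp => ⟨_, hp, ⟨(asIso (Scheme.Modules.restrictAdjunction U.ι).counit).app F⟩⟩⟩, key⟩

end Groth.Agent.ParaF26
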