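import Groth.Agent.Cohen12.Completion
import Groth.Agent.EGA4Alg4.FlatReg

/-!
Complete local algebras of relative dimension one with regular closed fibre and trivial residue
extension are rings of formal power series.
-/

set_option autoImplicit false
set_option linter.style.haveILetI false

universe u

open IsLocalRing
open scoped Pointwise

noncomputable section

namespace Groth.Agent.ParaF26

/-- Evaluation of power series in a complete ring. -/
theorem exists_eval_powerSeries {K B : Type u} [CommRing K] [CommRing B] (I : Ideal B)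
    [IsAdicComplete I B] (σ : K →+* B) (y : B) (hy : y ∈ I) :
    ∃ φ : PowerSeries K →+* B, (∀ a, φ (PowerSeries.C a) = σ a) ∧ φ PowerSeries.X = y := by
  let P := MvPolynomial.idealOfVars Unit K
  let ev : MvPolynomial Unit K →+* B := MvPolynomial.eval₂Hom σ fun _ => y
  have hP : P ≤ I.comap ev := by
    refine Ideal.span_le.2 ?_
    rintro _ ⟨i, rfl⟩
    simpa [ev] using hy
  have hPn : ∀ n, P ^ n ≤ (I ^ n).comap ev := fun n =>
    (Ideal.pow_right_mono hP n).trans (Ideal.le_comap_pow ev n)
  let f : (n : ℕ) → MvPowerSeries Unit K →+* B ⧸ I ^ n := fun n =>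
    (Ideal.quotientMap (I ^ n) ev (hPn n)).comp
      (MvPowerSeries.truncTotalAlgHom Unit K n).toRingHom
  have hf : ∀ {m n : ℕ} (h : m ≤ n), (Ideal.Quotient.factorPow I h).comp (f n) = f m := by
    intro m n h
    refine RingHom.ext fun g => ?_
    show Ideal.Quotient.factor (Ideal.pow_le_pow_right h) (Ideal.quotientMap (I ^ n) ev (hPn n)
        (Ideal.Quotient.mk _ (MvPowerSeries.truncTotal n g))) =
      Ideal.quotientMap (I ^ m) ev (hPn m) (Ideal.Quotient.mk _ (MvPowerSeries.truncTotal m g))
    rw [Ideal.quotientMap_mk, Ideal.quotientMap_mk, Ideal.Quotient.factor_mk, Ideal.Quotient.eq,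
      ← map_sub]
    exact hPn m (MvPowerSeries.truncTotal_sub_truncTotal_mem_pow_idealOfVars h le_rfl g)
  let φ := IsAdicComplete.liftRingHom I f hf
  have hcoe : ∀ q : MvPolynomial Unit K, φ (q : MvPowerSeries Unit K) = ev q := by
    intro q
    refine eq_of_sub_eq_zero (IsHausdorff.haus (I := I) inferInstance _ fun n => ?_)
    rw [SModEq.zero, smul_eq_mul, Ideal.mul_top, ← Ideal.Quotient.eq,
      IsAdicComplete.mk_liftRingHom]
    show Ideal.quotientMap (I ^ n) ev (hPn n)
      (MvPowerSeries.truncTotalAlgHom Unit K n (q : MvPowerSeries Unit K)) = _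
    rw [show (q : MvPowerSeries Unit K) = algebraMap (MvPolynomial Unit K) _ q from rfl,
      AlgHom.commutes]
    exact Ideal.quotientMap_mk
  refine ⟨φ, fun a => ?_, ?_⟩
  · show φ (MvPowerSeries.C a) = _
    rw [← MvPolynomial.coe_C, hcoe]
    simp [ev]
  · show φ (MvPowerSeries.X ()) = _
    rw [← MvPolynomial.coe_X, hcoe]
    simp [ev]

variable {C R : Type u} [CommRing C] [IsLocalRing C] [IsNoetherianRing C] [CommRing R] [IsLocalRing R]
  [IsNoetherianRing R] [Algebra C R] [IsLocalHom (algebraMap C R)] [Module.Flat C R]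
  [IsAdicComplete (maximalIdeal R) R]

theorem nonempty_powerSeries_equiv (t : R)
    (hmax : maximalIdeal R = (maximalIdeal C).map (algebraMap C R) ⊔ Ideal.span {t})
    (hres : ∀ r : R, ∃ c : C, r - algebraMap C R c ∈ maximalIdeal R)
    (hreg : IsSMulRegular (R ⧸ (maximalIdeal C).map (algebraMap C R)) t) :
    Nonempty (R ≃+* PowerSeries (AdicCompletion (maximalIdeal C) C)) := by
  classical
  let m := (maximalIdeal C).map (algebraMap C R)
  let J : Ideal R := Ideal.span {t}
  let K := AdicCompletion (maximalIdeal C) C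
  haveI : IsNoetherianRing K := Cohen12.isNoetherianRing_completion C
  haveI : IsAdicComplete (maximalIdeal K) K := Cohen12.isAdicComplete_completion C
  have ht : t ∈ maximalIdeal R := hmax.ge (Submodule.mem_sup_right (Ideal.mem_span_singleton_self t))
  have hm : m ≤ maximalIdeal R := le_sup_left.trans hmax.ge
  obtain ⟨ι, hι⟩ := Cohen12.exists_extension C (algebraMap C R) hm
  have hιpow : ∀ n, (maximalIdeal K ^ n).map ι = m ^ n := fun n => by
    rw [Ideal.map_pow, AdicCompletion.maximalIdeal_eq_map, Ideal.map_map,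
      show ι.comp (algebraMap C K) = algebraMap C R from RingHom.ext hι]
  -- regularity and flatness
  obtain ⟨htreg, hflat⟩ := EGA4Alg4.FlatReg13.regular_and_flat_of_fibre (A := C) (B := R) (M := R) t
    (by
      have e : m = m • (⊤ : Submodule R R) := by rw [smul_eq_mul, Ideal.mul_top]
      exact ((Submodule.quotEquivOfEq _ _ e).isSMulRegular_congr t).1 hreg)
  have hJ : J = t • (⊤ : Submodule R R) := by
    rw [← Submodule.ideal_span_singleton_smul, smul_eq_mul, Ideal.mul_top]
  haveI : Module.Flat C (R ⧸ J) :=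
    Module.Flat.of_linearEquiv ((Submodule.quotEquivOfEq _ _ hJ).restrictScalars C)
  haveI : IsLocalRing (R ⧸ J) :=
    haveI : Nontrivial (R ⧸ J) := Ideal.Quotient.nontrivial_iff.2
      (ne_top_of_le_ne_top (maximalIdeal.isMaximal R).ne_top ((Ideal.span_singleton_le_iff_mem _).2 ht))
    .of_surjective' (Ideal.Quotient.mk J) Ideal.Quotient.mk_surjective
  haveI : IsLocalHom (algebraMap C (R ⧸ J)) := ⟨fun a ha => by
    by_contra hu
    rw [IsScalarTower.algebraMap_apply C R (R ⧸ J), Ideal.Quotient.algebraMap_eq] at ha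
    haveI : IsLocalHom (Ideal.Quotient.mk J) := IsLocalHom.of_surjective _ Ideal.Quotient.mk_surjective
    exact hu (isUnit_of_map_unit (algebraMap C R) a (isUnit_of_map_unit (Ideal.Quotient.mk J) _ ha))⟩
  haveI : Module.FaithfullyFlat C (R ⧸ J) := Module.FaithfullyFlat.of_flat_of_isLocalHom
  -- the base embeds modulo `t`
  have hkey : ∀ c : K, ι c ∈ J → c = 0 := by
    intro c hc
    refine IsHausdorff.haus (I := maximalIdeal K) inferInstance c fun n => ?_
    rw [SModEq.zero, smul_eq_mul, Ideal.mul_top]
    obtain ⟨a, ha⟩ := Cohen12.exists_sub_mem_pow C n c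
    have h1 : algebraMap C R a ∈ J ⊔ m ^ n := by
      rw [show algebraMap C R a = ι c - ι (c - algebraMap C K a) by rw [map_sub, hι, sub_sub_cancel]]
      exact sub_mem (Submodule.mem_sup_left hc) (Submodule.mem_sup_right ((hιpow n).le (Ideal.mem_map_of_mem ι ha)))
    have h2 : algebraMap C (R ⧸ J) a ∈ (maximalIdeal C ^ n).map (algebraMap C (R ⧸ J)) := by
      rw [IsScalarTower.algebraMap_eq C R (R ⧸ J), ← Ideal.map_map, RingHom.comp_apply,
        Ideal.Quotient.algebraMap_eq, Ideal.mem_quotient_iff_mem_sup, Ideal.map_pow, sup_comm]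
      exact h1
    rw [← Ideal.mem_comap, Ideal.comap_map_eq_self_of_faithfullyFlat] at h2
    have h3 := (Cohen12.algebraMap_mem_pow_iff C n a).2 h2
    have := add_mem ha h3
    rwa [sub_add_cancel] at this
  obtain ⟨φ, hφC, hφX⟩ := exists_eval_powerSeries (maximalIdeal R) ι t ht
  have hinj : ∀ f, φ f = 0 → f = 0 := by
    have h0 : ∀ f, φ f = 0 → ∃ g, f = PowerSeries.X * g ∧ φ g = 0 := by
      intro f hf
      have hsplit := PowerSeries.eq_X_mul_shift_add_const f
      have hc : PowerSeries.constantCoeff f = 0 := hkey _ (by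
        have h1 := congrArg φ hsplit
        rw [hf, map_add, map_mul, hφX, hφC] at h1
        rw [eq_neg_of_add_eq_zero_right h1.symm]
        exact J.neg_mem (J.mul_mem_right _ (Ideal.mem_span_singleton_self t)))
      obtain ⟨g, hg⟩ := PowerSeries.X_dvd_iff.2 hc
      refine ⟨g, hg, htreg (show t • φ g = t • (0 : R) from ?_)⟩
      rw [smul_zero, smul_eq_mul, ← hφX, ← map_mul, ← hg, hf]
    intro f hf
    suffices ∀ n f, φ f = 0 → PowerSeries.coeff n f = 0 from PowerSeries.ext fun n => by
      rw [this n f hf, map_zero]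
    intro n
    induction n with
    | zero =>
      intro f hf
      obtain ⟨g, rfl, -⟩ := h0 f hf
      simp
    | succ n ih =>
      intro f hf
      obtain ⟨g, rfl, hg⟩ := h0 f hf
      rw [PowerSeries.coeff_succ_X_mul]
      exact ih g hg
  -- surjectivity modulo `t`
  have hnext : ∀ (n : ℕ), ∀ r ∈ m ^ n, ∃ c ∈ maximalIdeal C ^ n, r - algebraMap C R c ∈ J ⊔ m ^ (n + 1) := by
    intro n r hr
    rw [show m ^ n = (maximalIdeal C ^ n).map (algebraMap C R) from (Ideal.map_pow _ _ n).symm] at hr
    refine Submodule.span_induction ?_ ⟨0, zero_mem _, by rw [map_zero, sub_zero]; exact zero_mem _⟩ ?_ ?_ hr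
    · rintro _ ⟨c, hc, rfl⟩
      exact ⟨c, hc, by rw [sub_self]; exact zero_mem _⟩
    · rintro x y - - ⟨c, hc, h⟩ ⟨d, hd, h'⟩
      exact ⟨c + d, add_mem hc hd, by rw [map_add, add_sub_add_comm]; exact add_mem h h'⟩
    · rintro b x hx ⟨c, hc, h⟩
      obtain ⟨e, he⟩ := hres b
      refine ⟨e * c, Ideal.mul_mem_left _ e hc, ?_⟩
      rw [smul_eq_mul, show b * x - algebraMap C R (e * c) =
        b * (x - algebraMap C R c) + (b - algebraMap C R e) * algebraMap C R c by rw [map_mul]; ring]
      refine add_mem (Ideal.mul_mem_left _ _ h) ?_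
      have hcm : algebraMap C R c ∈ m ^ n :=
        Ideal.map_pow (algebraMap C R) (maximalIdeal C) n ▸ Ideal.mem_map_of_mem _ hc
      have h1 : (b - algebraMap C R e) * algebraMap C R c ∈ (m ⊔ J) * m ^ n :=
        Ideal.mul_mem_mul (hmax.le he) hcm
      rw [Ideal.sup_mul, ← pow_succ'] at h1
      exact (show m ^ (n + 1) ⊔ J * m ^ n ≤ J ⊔ m ^ (n + 1) from
        sup_le le_sup_right (Ideal.mul_le_left.trans le_sup_left)) h1
  have hstep : ∀ r : R, ∃ c : K, r - ι c ∈ J := by
    intro r
    choose g hg hg' using hnext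
    let z : (n : ℕ) → {c : C // r - algebraMap C R c ∈ J ⊔ m ^ n} := fun n => by
      induction n with
      | zero => exact ⟨0, by rw [pow_zero, Ideal.one_eq_top, sup_top_eq]; trivial⟩
      | succ n ih =>
        have h1 := Submodule.mem_sup.1 ih.2
        exact ⟨ih.1 + g n h1.choose_spec.2.choose h1.choose_spec.2.choose_spec.1, by
          have h3 := hg' n h1.choose_spec.2.choose h1.choose_spec.2.choose_spec.1
          have h4 := h1.choose_spec.2.choose_spec.2
          convert add_mem (Submodule.mem_sup_left h1.choose_spec.1) h3 using 1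
          rw [map_add]
          linear_combination -h4⟩
    have hz : ∀ n, (z (n + 1)).1 - (z n).1 ∈ maximalIdeal C ^ n := fun n => by
      show ((z n).1 + _) - (z n).1 ∈ _
      rw [add_sub_cancel_left]
      exact hg n _ _
    have hcauchy : ∀ {i j : ℕ}, i ≤ j → algebraMap C K (z i).1 ≡ algebraMap C K (z j).1
        [SMOD (maximalIdeal K ^ i • ⊤ : Submodule K K)] := by
      intro i j hij
      induction hij with
      | refl => exact SModEq.refl _
      | @step j hij ih =>
        refine ih.trans (SModEq.symm (SModEq.sub_mem.2 ?_))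
        rw [smul_eq_mul, Ideal.mul_top, ← map_sub]
        exact Ideal.pow_le_pow_right hij ((Cohen12.algebraMap_mem_pow_iff C j _).2 (hz j))
    obtain ⟨c, hc⟩ := IsPrecomplete.prec (I := maximalIdeal K) inferInstance hcauchy
    refine ⟨c, ?_⟩
    rw [← Ideal.Quotient.eq_zero_iff_mem]
    have hmem : ∀ n, Ideal.Quotient.mk J (r - ι c) ∈ maximalIdeal (R ⧸ J) ^ n := fun n => by
      have h1 := SModEq.sub_mem.1 (hc n)
      rw [smul_eq_mul, Ideal.mul_top] at h1
      have h2 : r - ι c ∈ J ⊔ m ^ n := by
        rw [show r - ι c = (r - algebraMap C R (z n).1) + ι (algebraMap C K (z n).1 - c) by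
          rw [map_sub, hι]; ring]
        exact add_mem (z n).2 (Submodule.mem_sup_right ((hιpow n).le (Ideal.mem_map_of_mem ι h1)))
      rw [← IsLocalRing.map_maximalIdeal_of_surjective (Ideal.Quotient.mk J) Ideal.Quotient.mk_surjective,
        ← Ideal.map_pow, Ideal.mem_quotient_iff_mem_sup]
      exact sup_le le_sup_right ((Ideal.pow_right_mono hm n).trans le_sup_left) h2
    have hinf := Ideal.iInf_pow_eq_bot_of_isLocalRing (maximalIdeal (R ⧸ J)) (maximalIdeal.isMaximal _).ne_top
    exact (Submodule.mem_bot _).1 (hinf.le ((Submodule.mem_iInf _).2 hmem))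
  have hsurj : Function.Surjective φ := by
    intro r
    choose g hg using hstep
    choose d hd using fun x => Ideal.mem_span_singleton'.1 (hg x)
    let s : ℕ → R := fun n => d^[n] r
    let f : PowerSeries K := PowerSeries.mk fun n => g (s n)
    refine ⟨f, (eq_of_sub_eq_zero (IsHausdorff.haus (I := maximalIdeal R) inferInstance _ fun n => ?_)).symm⟩
    rw [SModEq.zero, smul_eq_mul, Ideal.mul_top]
    have h1 : ∀ n, r = (∑ i ∈ Finset.range n, ι (g (s i)) * t ^ i) + s n * t ^ n := by
      intro n
      induction n with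
      | zero => simp [s]
      | succ n ih =>
        rw [Finset.sum_range_succ]
        conv_lhs => rw [ih]
        have h2 : s (n + 1) * t = s n - ι (g (s n)) := by
          show d^[n + 1] r * t = _
          rw [Function.iterate_succ_apply']
          exact hd _
        linear_combination (-t ^ n) * h2
    obtain ⟨q, hq⟩ := PowerSeries.X_pow_dvd_iff.2 (show ∀ k < n, PowerSeries.coeff k
        (f - ∑ i ∈ Finset.range n, PowerSeries.C (g (s i)) * PowerSeries.X ^ i) = 0 from fun k hk => by
      rw [map_sub, map_sum]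
      simp [f, PowerSeries.coeff_X_pow, hk])
    have h2 := congrArg φ hq
    rw [map_sub, map_mul, map_pow, hφX, map_sum] at h2
    simp only [map_mul, map_pow, hφC, hφX] at h2
    rw [show r - φ f = (s n - φ q) * t ^ n by linear_combination h1 n - h2]
    exact Ideal.mul_mem_left _ _ (Ideal.pow_mem_pow ht n)
  exact ⟨(RingEquiv.ofBijective φ ⟨(injective_iff_map_eq_zero φ).2 hinj, hsurj⟩).symm⟩

end Groth.Agent.ParaF26
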