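import Groth.Agent.ParaF26.PowerSeriesPara
import Groth.Agent.ParaF26.CompleteDimOne
import Groth.Agent.CAlg1.FlatFibre

/-!
Flat local algebras of relative dimension one with geometrically regular closed fibre over a base of
depth two are parafactorial.
-/

set_option autoImplicit false
set_option linter.style.haveILetI false
set_option backward.isDefEq.respectTransparency.types false

universe u

open IsLocalRing TensorProduct

noncomputable section

namespace Groth.Agent.ParaF26

theorem parafactorial_of_ringEquiv {A B : Type u} [CommRing A] [CommRing B] [IsLocalRing A] [IsLocalRing B]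
    [IsNoetherianRing A] [IsNoetherianRing B] (e : A ≃+* B) (hB : ParaF.IsParafactorialLocalRing B) :
    ParaF.IsParafactorialLocalRing A := by
  letI : Algebra A B := e.toRingHom.toAlgebra
  haveI : IsLocalHom (algebraMap A B) :=
    ⟨fun a ha => (isUnit_map_iff e a).1 ha⟩
  haveI : Module.Flat A B := RingHom.Flat.of_bijective (f := algebraMap A B) e.bijective
  refine parafactorial_of_flat ?_ hB
  have h : (maximalIdeal A).map (algebraMap A B) = maximalIdeal B :=
    IsLocalRing.map_maximalIdeal_of_surjective _ e.surjective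
  rw [h]
  letI := Ideal.Quotient.field (maximalIdeal B)
  exact ringKrullDim_eq_zero_of_field _

theorem le_depth_of_flat {A B : Type u} [CommRing A] [CommRing B] [IsLocalRing A] [IsLocalRing B]
    [IsNoetherianRing A] [IsNoetherianRing B] [Algebra A B] [IsLocalHom (algebraMap A B)] [Module.Flat A B]
    (h : (2 : ℕ∞) ≤ LocCoh.depth A A) : (2 : ℕ∞) ≤ LocCoh.depth B B :=
  h.trans (le_self_add.trans (CAlg1.depth_of_flat_local A B).ge)

/-- An element generating the maximal ideal which is not nilpotent is regular. -/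
theorem isSMulRegular_of_maximalIdeal_eq_span {Q : Type u} [CommRing Q] [IsLocalRing Q] [IsNoetherianRing Q]
    (t : Q) (ht : maximalIdeal Q = Ideal.span {t}) (hn : ¬ IsNilpotent t) : IsSMulRegular Q t := by
  classical
  rw [isSMulRegular_iff_right_eq_zero_of_smul]
  intro y hy
  by_contra hy0
  have hinf := Ideal.iInf_pow_eq_bot_of_isLocalRing (maximalIdeal Q) (maximalIdeal.isMaximal _).ne_top
  obtain ⟨n, hn'⟩ : ∃ n, y ∉ maximalIdeal Q ^ n := by
    by_contra! h
    exact hy0 ((Submodule.mem_bot _).1 (hinf.le ((Submodule.mem_iInf _).2 h)))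
  have key : ∀ n, y ∉ maximalIdeal Q ^ n → IsNilpotent t := by
    intro n
    induction n with
    | zero => intro h; exact absurd (by rw [pow_zero, Ideal.one_eq_top]; trivial) h
    | succ n ih =>
      intro h
      by_cases h' : y ∈ maximalIdeal Q ^ n
      · rw [ht, Ideal.span_singleton_pow, Ideal.mem_span_singleton'] at h'
        obtain ⟨c, hc⟩ := h'
        have hu : IsUnit c := by
          by_contra hu
          refine h ?_
          have hcm : c ∈ maximalIdeal Q := (mem_maximalIdeal c).2 hu
          rw [← hc, pow_succ']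
          refine Ideal.mul_mem_mul hcm ?_
          rw [ht, Ideal.span_singleton_pow]
          exact Ideal.mem_span_singleton_self _
        refine ⟨n + 1, hu.mul_right_eq_zero.1 ?_⟩
        rw [smul_eq_mul, ← hc] at hy
        rw [← hy]; ring
      · exact ih h'
  exact hn (key n hn')

/-- A flat local algebra with residue field that of the base and regular one-dimensional closed fibre. -/
theorem parafactorial_of_trivial_residue {S L : Type u} [CommRing S] [IsLocalRing S] [IsNoetherianRing S]
    [CommRing L] [IsLocalRing L] [IsNoetherianRing L] [Algebra S L] [IsLocalHom (algebraMap S L)] [Module.Flat S L]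
    (hd : (2 : ℕ∞) ≤ LocCoh.depth S S) (t : L)
    (hmax : maximalIdeal L = (maximalIdeal S).map (algebraMap S L) ⊔ Ideal.span {t})
    (hres : ∀ x : L, ∃ s : S, x - algebraMap S L s ∈ maximalIdeal L)
    (hreg : IsSMulRegular (L ⧸ (maximalIdeal S).map (algebraMap S L)) t) :
    ParaF.IsParafactorialLocalRing L := by
  let R := AdicCompletion (maximalIdeal L) L
  haveI : IsNoetherianRing R := Cohen12.isNoetherianRing_completion L
  haveI : IsAdicComplete (maximalIdeal R) R := Cohen12.isAdicComplete_completion L
  haveI : IsLocalHom (algebraMap L R) :=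
    ((local_hom_TFAE _).out 0 2 rfl rfl).mpr (AdicCompletion.maximalIdeal_eq_map (R := L)).ge
  haveI : Module.Flat L R := AdicCompletion.flat_of_isNoetherian _
  haveI : Module.Flat S R := Module.Flat.trans S L R
  haveI : IsLocalHom (algebraMap S R) := by
    rw [IsScalarTower.algebraMap_eq S L R]; infer_instance
  let tR : R := algebraMap L R t
  have hmR : (maximalIdeal S).map (algebraMap S R) =
      ((maximalIdeal S).map (algebraMap S L)).map (algebraMap L R) := by
    rw [Ideal.map_map, ← IsScalarTower.algebraMap_eq]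
  have hmaxR : maximalIdeal R = (maximalIdeal S).map (algebraMap S R) ⊔ Ideal.span {tR} := by
    exact (AdicCompletion.maximalIdeal_eq_map (R := L)).trans ((congrArg (Ideal.map (algebraMap L R)) hmax).trans
      (by rw [Ideal.map_sup, Ideal.map_span, Set.image_singleton, ← hmR]))
  have hresR : ∀ x : R, ∃ s : S, x - algebraMap S R s ∈ maximalIdeal R := by
    intro x
    obtain ⟨a, ha⟩ := Cohen12.exists_sub_mem_pow L 1 x
    rw [pow_one] at ha
    obtain ⟨s, hs⟩ := hres a
    refine ⟨s, ?_⟩
    have h1 : algebraMap L R (a - algebraMap S L s) ∈ maximalIdeal R := map_nonunit _ _ hs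
    rw [map_sub, ← IsScalarTower.algebraMap_apply] at h1
    have := add_mem ha h1
    rwa [sub_add_sub_cancel] at this
  have hregR : IsSMulRegular (R ⧸ (maximalIdeal S).map (algebraMap S R)) tR := by
    have h2 := hreg.lTensor R
    let e' : R ⊗[L] (L ⧸ (maximalIdeal S).map (algebraMap S L)) ≃ₗ[L] R ⧸ (maximalIdeal S).map (algebraMap S R) :=
      TensorProduct.tensorQuotEquivQuotSMul R _ ≪≫ₗ
        Submodule.quotEquivOfEq _ _ (by rw [Ideal.smul_top_eq_map, ← hmR]) ≪≫ₗ
        Submodule.Quotient.restrictScalarsEquiv L _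
    have h3 := (e'.isSMulRegular_congr t).1 h2
    intro a b h
    exact h3 (show t • a = t • b by rw [← algebraMap_smul R t a, ← algebraMap_smul R t b]; exact h)
  obtain ⟨e⟩ := nonempty_powerSeries_equiv (C := S) (R := R) tR hmaxR hresR hregR
  let K := AdicCompletion (maximalIdeal S) S
  haveI : IsNoetherianRing K := Cohen12.isNoetherianRing_completion S
  haveI : IsAdicComplete (maximalIdeal K) K := Cohen12.isAdicComplete_completion S
  haveI : IsLocalHom (algebraMap S K) :=
    ((local_hom_TFAE _).out 0 2 rfl rfl).mpr (AdicCompletion.maximalIdeal_eq_map (R := S)).ge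
  haveI : Module.Flat S K := AdicCompletion.flat_of_isNoetherian _
  have hR : ParaF.IsParafactorialLocalRing R := parafactorial_of_ringEquiv e
    (parafactorial_powerSeries (le_depth_of_flat (A := S) hd))
  refine parafactorial_of_flat ?_ hR
  rw [show (maximalIdeal L).map (algebraMap L R) = maximalIdeal R from (AdicCompletion.maximalIdeal_eq_map (R := L)).symm]
  letI := Ideal.Quotient.field (maximalIdeal R)
  exact ringKrullDim_eq_zero_of_field _

/-- The closed fibre of a faithfully flat algebra with principal maximal ideal modulo the base. -/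
theorem fibre_data {A B L : Type u} [CommRing A] [IsLocalRing A] [CommRing B] [IsLocalRing B] [IsNoetherianRing B]
    [CommRing L] [IsLocalRing L] [IsNoetherianRing L] [Algebra A B] [Algebra A L] [Algebra B L] [IsScalarTower A B L]
    [IsLocalHom (algebraMap A B)] [IsLocalHom (algebraMap B L)] [Module.FaithfullyFlat B L]
    (hdim : ringKrullDim (B ⧸ (maximalIdeal A).map (algebraMap A B)) ≠ 0) (t : L)
    (hmax : maximalIdeal L = (maximalIdeal A).map (algebraMap A L) ⊔ Ideal.span {t}) :
    IsSMulRegular (L ⧸ (maximalIdeal A).map (algebraMap A L)) t ∧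
      ∃ k, t ^ k ∈ (maximalIdeal B).map (algebraMap B L) := by
  classical
  let mA := (maximalIdeal A).map (algebraMap A L)
  have hmA : mA ≤ maximalIdeal L := le_sup_left.trans hmax.ge
  -- the closed fibre
  let Q := L ⧸ mA
  haveI : Nontrivial Q := Ideal.Quotient.nontrivial_iff.2 (ne_top_of_le_ne_top (maximalIdeal.isMaximal L).ne_top hmA)
  haveI : IsLocalRing Q := .of_surjective' (Ideal.Quotient.mk mA) Ideal.Quotient.mk_surjective
  have hmapQ : (maximalIdeal L).map (Ideal.Quotient.mk mA) = maximalIdeal Q :=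
    IsLocalRing.map_maximalIdeal_of_surjective (R := L) (S := Q) (Ideal.Quotient.mk mA) Ideal.Quotient.mk_surjective
  have hmaxQ : maximalIdeal Q = Ideal.span {Ideal.Quotient.mk mA t} := by
    rw [← hmapQ, hmax,
      Ideal.map_sup, Ideal.map_quotient_self, bot_sup_eq, Ideal.map_span, Set.image_singleton]
  have hcontr : ∀ k, (maximalIdeal B ^ k).map (algebraMap B L) ≤ mA → False := by
    intro k hk
    refine hdim ?_
    let I := (maximalIdeal A).map (algebraMap A B)
    have h1 : maximalIdeal B ^ k ≤ I := by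
      rw [← Ideal.comap_map_eq_self_of_faithfullyFlat (B := L) I, ← Ideal.map_le_iff_le_comap]
      refine hk.trans (le_of_eq ?_)
      rw [Ideal.map_map, ← IsScalarTower.algebraMap_eq]
    haveI : Nontrivial (B ⧸ I) := Ideal.Quotient.nontrivial_iff.2
      (ne_top_of_le_ne_top (maximalIdeal.isMaximal B).ne_top (Ideal.map_le_iff_le_comap.2 fun x hx => map_nonunit _ x hx))
    haveI : IsLocalRing (B ⧸ I) := .of_surjective' (Ideal.Quotient.mk I) Ideal.Quotient.mk_surjective
    haveI : Ring.KrullDimLE 0 (B ⧸ I) := by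
      rw [Ring.krullDimLE_zero_iff]
      intro q hq
      suffices q = maximalIdeal (B ⧸ I) from this ▸ maximalIdeal.isMaximal _
      refine le_antisymm (le_maximalIdeal hq.ne_top) fun x hx => hq.mem_of_pow_mem k ?_
      obtain ⟨b, rfl⟩ := Ideal.Quotient.mk_surjective x
      rw [← map_pow, Ideal.Quotient.eq_zero_iff_mem.2 (h1 (Ideal.pow_mem_pow ?_ k))]
      · exact zero_mem _
      · exact (mem_maximalIdeal b).2 fun hu => (mem_maximalIdeal _).1 hx (hu.map _)
    exact ringKrullDimZero_iff_ringKrullDim_eq_zero.1 inferInstance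
  have hnil : ¬ IsNilpotent (Ideal.Quotient.mk mA t) := fun ⟨k, hk⟩ => hcontr k (by
    have h1 : (maximalIdeal L ^ k).map (Ideal.Quotient.mk mA) = ⊥ := by
      rw [Ideal.map_pow, hmapQ, hmaxQ,
        Ideal.span_singleton_pow, hk, Ideal.span_singleton_eq_bot]
    rw [Ideal.map_eq_bot_iff_le_ker, Ideal.mk_ker] at h1
    refine le_trans ?_ h1
    rw [Ideal.map_pow]
    exact Ideal.pow_right_mono (((local_hom_TFAE _).out 0 2 rfl rfl).mp inferInstance) k)
  have hregQ : IsSMulRegular Q (Ideal.Quotient.mk mA t) :=
    isSMulRegular_of_maximalIdeal_eq_span _ hmaxQ hnil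
  obtain ⟨k, hk⟩ : ∃ k, t ^ k ∈ (maximalIdeal B).map (algebraMap B L) := by
    let J := ((maximalIdeal B).map (algebraMap B L)).map (Ideal.Quotient.mk mA)
    have hAB : mA ≤ (maximalIdeal B).map (algebraMap B L) := by
      show (maximalIdeal A).map (algebraMap A L) ≤ _
      rw [IsScalarTower.algebraMap_eq A B L, ← Ideal.map_map]
      exact Ideal.map_mono (Ideal.map_le_iff_le_comap.2 fun x hx => map_nonunit _ x hx)
    have hJ : J ≠ ⊥ := fun h => by
      rw [Ideal.map_eq_bot_iff_le_ker, Ideal.mk_ker] at h
      exact hcontr 1 (by rwa [pow_one])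
    obtain ⟨y, hy, hy0⟩ := Submodule.exists_mem_ne_zero_of_ne_bot hJ
    have hinf := Ideal.iInf_pow_eq_bot_of_isLocalRing (maximalIdeal Q) (maximalIdeal.isMaximal _).ne_top
    obtain ⟨n, hn⟩ : ∃ n, y ∉ maximalIdeal Q ^ n := by
      by_contra! h
      exact hy0 ((Submodule.mem_bot _).1 (hinf.le ((Submodule.mem_iInf _).2 h)))
    have key : ∀ n, y ∉ maximalIdeal Q ^ n → ∃ k, (Ideal.Quotient.mk mA t) ^ k ∈ J := by
      intro n
      induction n with
      | zero => intro h; exact absurd (by rw [pow_zero, Ideal.one_eq_top]; trivial) h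
      | succ n ih =>
        intro h
        by_cases h' : y ∈ maximalIdeal Q ^ n
        · rw [hmaxQ, Ideal.span_singleton_pow, Ideal.mem_span_singleton'] at h'
          obtain ⟨c, hc⟩ := h'
          have hu : IsUnit c := by
            by_contra hu
            refine h ?_
            have hcm : c ∈ maximalIdeal Q := (mem_maximalIdeal c).2 hu
            rw [← hc, pow_succ']
            refine Ideal.mul_mem_mul hcm ?_
            rw [hmaxQ, Ideal.span_singleton_pow]
            exact Ideal.mem_span_singleton_self _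
          exact ⟨n, (Ideal.unit_mul_mem_iff_mem _ hu).1 (hc ▸ hy)⟩
        · exact ih h'
    obtain ⟨k, hk⟩ := key n hn
    refine ⟨k, ?_⟩
    rw [← map_pow, Ideal.mem_quotient_iff_mem_sup, sup_eq_left.2 hAB] at hk
    exact hk
  exact ⟨fun a b h => hregQ h, k, hk⟩

variable {A B : Type u} [CommRing A] [CommRing B] [IsNoetherianRing A] [IsLocalRing A] [IsNoetherianRing B]
  [IsLocalRing B] [Algebra A B] [IsLocalHom (algebraMap A B)] [Module.Flat A B]

set_option maxHeartbeats 800000 in
/-- Relative dimension one. The finite free algebra `S` splits the residue extension at `N`. -/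
theorem parafactorial_of_split_point (hd : (2 : ℕ∞) ≤ LocCoh.depth A A)
    (hdim : ringKrullDim (B ⧸ (maximalIdeal A).map (algebraMap A B)) ≠ 0)
    (S : Type u) [CommRing S] [Algebra A S] [Module.Finite A S] [Module.Free A S] [IsLocalRing S]
    (hS : (maximalIdeal A).map (algebraMap A S) = maximalIdeal S)
    (N : Ideal (B ⊗[A] S)) [N.IsPrime]
    (hNB : N.comap (algebraMap B (B ⊗[A] S)) = maximalIdeal B)
    (hres : ∀ z : B ⊗[A] S, ∃ s : S, z - (1 : B) ⊗ₜ[A] s ∈ N)
    (t : B ⊗[A] S) (htN : t ∈ N)
    (hgen : ∀ x ∈ N, ∃ u ∉ N, u * x ∈ (maximalIdeal A).map (algebraMap A (B ⊗[A] S)) ⊔ Ideal.span {t}) :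
    ParaF.IsParafactorialLocalRing B := by
  classical
  haveI : IsNoetherianRing S := Algebra.FiniteType.isNoetherianRing A S
  haveI : Nontrivial S := inferInstance
  haveI : IsLocalHom (algebraMap A S) := ((local_hom_TFAE _).out 0 2 rfl rfl).mpr hS.le
  haveI : IsNoetherianRing (B ⊗[A] S) := Algebra.FiniteType.isNoetherianRing B (B ⊗[A] S)
  let L := Localization.AtPrime N
  haveI : IsNoetherianRing L := IsLocalization.isNoetherianRing N.primeCompl _ inferInstance
  letI : Algebra S (B ⊗[A] S) := Algebra.TensorProduct.rightAlgebra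
  haveI : Module.Flat S (B ⊗[A] S) :=
    Module.Flat.of_linearEquiv (Algebra.TensorProduct.commRight A S B).toLinearEquiv.symm
  haveI : Module.Flat S L := Module.Flat.trans S (B ⊗[A] S) L
  haveI : Module.Flat B L := Module.Flat.trans B (B ⊗[A] S) L
  let mA := (maximalIdeal A).map (algebraMap A L)
  have hNm : ∀ x ∈ N, algebraMap _ L x ∈ maximalIdeal L := fun x hx =>
    (mem_maximalIdeal _).2 fun hu => (IsLocalization.AtPrime.isUnit_to_map_iff L N x).1 hu hx
  haveI : IsLocalHom (algebraMap B L) := ⟨fun b hb => by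
    by_contra hu
    have h1 : algebraMap B (B ⊗[A] S) b ∈ N := hNB.ge ((mem_maximalIdeal b).2 hu)
    rw [IsScalarTower.algebraMap_apply B (B ⊗[A] S) L] at hb
    exact (mem_maximalIdeal _).1 (hNm _ h1) hb⟩
  haveI : IsLocalHom (algebraMap A L) := by
    rw [IsScalarTower.algebraMap_eq A B L]; infer_instance
  have hmA : mA ≤ maximalIdeal L := ((local_hom_TFAE _).out 0 2 rfl rfl).mp inferInstance
  have hSL : (maximalIdeal S).map (algebraMap S L) = mA := by
    rw [← hS, Ideal.map_map, ← IsScalarTower.algebraMap_eq]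
  haveI : IsLocalHom (algebraMap S L) :=
    ((local_hom_TFAE _).out 0 2 rfl rfl).mpr (hSL.le.trans hmA)
  let t' : L := algebraMap _ L t
  have hmax : maximalIdeal L = mA ⊔ Ideal.span {t'} := by
    refine le_antisymm ?_ (sup_le hmA ((Ideal.span_singleton_le_iff_mem _).2 (hNm t htN)))
    rw [← Localization.AtPrime.map_eq_maximalIdeal, Ideal.map_le_iff_le_comap]
    intro x hx
    obtain ⟨u, hu, hux⟩ := hgen x hx
    have h1 := Ideal.mem_map_of_mem (algebraMap _ L) hux
    rw [Ideal.map_sup, Ideal.map_map, ← IsScalarTower.algebraMap_eq, Ideal.map_span, Set.image_singleton,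
      map_mul] at h1
    rwa [Ideal.unit_mul_mem_iff_mem _ (IsLocalization.map_units L (⟨u, hu⟩ : N.primeCompl))] at h1
  haveI : Module.FaithfullyFlat B L := Module.FaithfullyFlat.of_flat_of_isLocalHom
  obtain ⟨hregQ, k, hk⟩ := fibre_data (A := A) (B := B) hdim t' hmax
  have hresL : ∀ x : L, ∃ s : S, x - algebraMap S L s ∈ maximalIdeal L := by
    intro x
    obtain ⟨⟨z, w⟩, hzw⟩ := IsLocalization.surj N.primeCompl x
    obtain ⟨a, ha⟩ := hres z
    obtain ⟨b, hb⟩ := hres w
    have hbu : IsUnit b := by
      by_contra hu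
      refine w.2 ?_
      have h1 : algebraMap S L b ∈ maximalIdeal L := map_nonunit _ b hu
      rw [IsScalarTower.algebraMap_apply S (B ⊗[A] S) L] at h1
      have h2 : algebraMap S (B ⊗[A] S) b ∈ N := by
        by_contra h3
        exact (mem_maximalIdeal _).1 h1 (IsLocalization.map_units L (⟨_, h3⟩ : N.primeCompl))
      have := add_mem hb h2
      rwa [show algebraMap S (B ⊗[A] S) b = (1 : B) ⊗ₜ[A] b from rfl, sub_add_cancel] at this
    obtain ⟨c, hc⟩ := hbu.exists_left_inv
    refine ⟨c * a, ?_⟩
    have h1 : algebraMap _ L (z - (1 : B) ⊗ₜ[A] a) ∈ maximalIdeal L := hNm _ ha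
    have h2 : algebraMap _ L ((w : B ⊗[A] S) - (1 : B) ⊗ₜ[A] b) ∈ maximalIdeal L := hNm _ hb
    have hS' : ∀ s : S, algebraMap _ L ((1 : B) ⊗ₜ[A] s) = algebraMap S L s := fun s => rfl
    rw [map_sub, hS'] at h1 h2
    have h3 : algebraMap S L c * algebraMap S L b = 1 := by rw [← map_mul, hc, map_one]
    rw [show x - algebraMap S L (c * a) = algebraMap S L c * (algebraMap _ L z - algebraMap S L a) -
        algebraMap S L c * x * (algebraMap _ L (w : B ⊗[A] S) - algebraMap S L b) by
      rw [map_mul]
      linear_combination algebraMap S L c * hzw - x * h3]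
    exact sub_mem (Ideal.mul_mem_left _ _ h1) (Ideal.mul_mem_left _ _ h2)
  have hreg' : IsSMulRegular (L ⧸ (maximalIdeal S).map (algebraMap S L)) t' := by
    rw [hSL]
    exact hregQ
  have hL : ParaF.IsParafactorialLocalRing L :=
    parafactorial_of_trivial_residue (le_depth_of_flat hd) t' (hmax.trans (by rw [hSL])) hresL hreg'
  refine parafactorial_of_flat ?_ hL
  let I := (maximalIdeal B).map (algebraMap B L)
  haveI : Nontrivial (L ⧸ I) := Ideal.Quotient.nontrivial_iff.2
    (ne_top_of_le_ne_top (maximalIdeal.isMaximal L).ne_top (Ideal.map_le_iff_le_comap.2 fun x hx => map_nonunit _ x hx))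
  haveI : Ring.KrullDimLE 0 (L ⧸ I) := by
    rw [Ring.krullDimLE_zero_iff]
    intro q hq
    haveI := hq
    suffices h : maximalIdeal L ≤ q.comap (Ideal.Quotient.mk I) from by
      haveI : (q.comap (Ideal.Quotient.mk I)).IsMaximal :=
        (le_antisymm (le_maximalIdeal (Ideal.IsPrime.comap (Ideal.Quotient.mk I)).ne_top) h).symm ▸
          maximalIdeal.isMaximal L
      rw [← Ideal.map_comap_of_surjective _ Ideal.Quotient.mk_surjective q]
      exact Ideal.IsMaximal.map_of_surjective_of_ker_le Ideal.Quotient.mk_surjective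
        (Ideal.mk_ker.le.trans fun x hx => by
          rw [Ideal.mem_comap, Ideal.Quotient.eq_zero_iff_mem.2 hx]; exact zero_mem _)
    have hIq : I ≤ q.comap (Ideal.Quotient.mk I) := fun x hx => by
      rw [Ideal.mem_comap, Ideal.Quotient.eq_zero_iff_mem.2 hx]; exact zero_mem _
    rw [hmax]
    refine sup_le (le_trans ?_ hIq) ?_
    · show (maximalIdeal A).map (algebraMap A L) ≤ _
      rw [IsScalarTower.algebraMap_eq A B L, ← Ideal.map_map]
      exact Ideal.map_mono (Ideal.map_le_iff_le_comap.2 fun x hx => map_nonunit _ x hx)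
    · rw [Ideal.span_singleton_le_iff_mem]
      exact (hq.comap _).mem_of_pow_mem k (hIq hk)
  exact ringKrullDimZero_iff_ringKrullDim_eq_zero.1 inferInstance

end Groth.Agent.ParaF26
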