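import Groth.Agent.ParaF26.Depth
import Groth.Agent.Amp73.Gen
import Mathlib.RingTheory.UniqueFactorizationDomain.Basic

/-!
Invertible modules on open subsets of the spectrum of a factorial ring are trivial.
-/

set_option autoImplicit false
set_option linter.style.haveILetI false

universe u

open CategoryTheory AlgebraicGeometry Opposite TopologicalSpace

noncomputable section

namespace Groth.Agent.ParaF26

open Var76.LineBundle Var76.ZeroScheme

section General

variable {X : Scheme.{u}} {M : X.Modules}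

theorem isUnit_of_frames {W : X.Opens} {e e₁ : Γ(M, W)} (he : IsFrame M W e) (he₁ : IsFrame M W e₁) :
    ∃ u : Γ(X, W), IsUnit u ∧ e = u • e₁ := by
  obtain ⟨u, hu⟩ := (he₁ W le_rfl).2 e
  dsimp only at hu
  rw [Amp73.res_self] at hu
  exact ⟨u, (Amp73.isFrame_smul_iff he₁ u).1 (hu.symm ▸ he), hu.symm⟩

theorem exists_glue_frame {A B : X.Opens} {a : Γ(M, A)} {b : Γ(M, B)} (ha : IsFrame M A a)
    (hb : IsFrame M B b) (h : res M (inf_le_left : A ⊓ B ≤ A) a = res M (inf_le_right : A ⊓ B ≤ B) b) :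
    ∃ c : Γ(M, A ⊔ B), IsFrame M (A ⊔ B) c := by
  obtain ⟨c, hca, hcb⟩ : ∃ c : Γ(M, A ⊔ B), res M le_sup_left c = a ∧ res M le_sup_right c = b := by
    let W : ULift.{u} Bool → X.Opens := fun i => bif i.down then A else B
    have hW : ∀ i, W i ≤ A ⊔ B := by rintro ⟨⟨⟩⟩ <;> simp [W]
    let s : ∀ i, Γ(M, W i) := fun i => match i with
      | ⟨true⟩ => a
      | ⟨false⟩ => b
    have compat : ∀ i j, res M (inf_le_left : W i ⊓ W j ≤ W i) (s i) =
        res M (inf_le_right : W i ⊓ W j ≤ W j) (s j) := by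
      rintro ⟨⟨⟩⟩ ⟨⟨⟩⟩
      · rfl
      · have := congrArg (res M (le_inf inf_le_right inf_le_left : B ⊓ A ≤ A ⊓ B)) h
        rw [res_res, res_res] at this
        exact this.symm
      · exact h
      · rfl
    obtain ⟨c, hc, -⟩ := TopCat.Sheaf.existsUnique_gluing' ⟨M.presheaf, M.isSheaf⟩ W (A ⊔ B)
      (fun i => homOfLE (hW i)) (fun y hy => by
        rcases hy with hy | hy
        · exact Opens.mem_iSup.2 ⟨⟨true⟩, hy⟩
        · exact Opens.mem_iSup.2 ⟨⟨false⟩, hy⟩) s compat
    exact ⟨c, hc ⟨true⟩, hc ⟨false⟩⟩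
  refine ⟨c, Amp73.isFrame_of_locally c fun x hx => ?_⟩
  rcases hx with hx | hx
  · exact ⟨A, le_sup_left, hx, hca.symm ▸ ha⟩
  · exact ⟨B, le_sup_right, hx, hcb.symm ▸ hb⟩

theorem isFrame_bot (e : Γ(M, (⊥ : X.Opens))) : IsFrame M ⊥ e := fun V hV =>
  ⟨fun a a' _ => TopCat.Sheaf.eq_of_locally_eq' X.sheaf (fun i : PEmpty.{u + 1} => i.elim) V
      (fun i => i.elim) (fun y hy => (hV hy).elim) a a' fun i => i.elim,
    fun m => ⟨0, eq_of_locally M _ _ fun y hy => (hV hy).elim⟩⟩

end General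

section UFD

variable {A : CommRingCat.{u}} [IsDomain A] [IsNoetherianRing A] [UniqueFactorizationMonoid A]

omit [IsDomain A] [UniqueFactorizationMonoid A] in
theorem depth_stalk_spec (x : Spec A) (p : Ideal A) [p.IsPrime] (hp : (x : PrimeSpectrum A).asIdeal = p) :
    LocCoh.depth ((Spec A).presheaf.stalk x) ((Spec A).presheaf.stalk x) =
      LocCoh.depth (Localization.AtPrime p) (Localization.AtPrime p) := by
  subst hp
  let y : PrimeSpectrum A := x
  haveI : IsNoetherianRing (Localization.AtPrime y.asIdeal) :=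
    IsLocalization.isNoetherianRing y.asIdeal.primeCompl _ inferInstance
  haveI : IsLocallyNoetherian (Spec A) := inferInstance
  letI : Algebra A ((Spec A).presheaf.stalk x) := StructureSheaf.stalkAlgebra A y
  haveI : IsLocalization.AtPrime ((Spec A).presheaf.stalk x) y.asIdeal :=
    StructureSheaf.IsLocalization.to_stalk A y
  exact CAlg1.depth_eq_of_ringEquiv
    (IsLocalization.algEquiv y.asIdeal.primeCompl _ (Localization.AtPrime y.asIdeal)).toRingEquiv

/-- A point strictly above a prime element has depth two. -/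
theorem two_le_depth_of_prime {π : A} (hπ : Prime π) (x : Spec A) (hmem : π ∈ (x : PrimeSpectrum A).asIdeal)
    (hne : (x : PrimeSpectrum A).asIdeal ≠ Ideal.span {π}) :
    (2 : ℕ∞) ≤ LocCoh.depth ((Spec A).presheaf.stalk x) ((Spec A).presheaf.stalk x) := by
  haveI hx : (x : PrimeSpectrum A).asIdeal.IsPrime := (x : PrimeSpectrum A).2
  rw [depth_stalk_spec x _ rfl]
  haveI : IsNoetherianRing (Localization.AtPrime x.asIdeal) :=
    IsLocalization.isNoetherianRing x.asIdeal.primeCompl _ inferInstance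
  haveI : IsIntegrallyClosed (Localization.AtPrime x.asIdeal) :=
    isIntegrallyClosed_of_isLocalization _ x.asIdeal.primeCompl x.asIdeal.primeCompl_le_nonZeroDivisors
  refine CAlg1.two_le_depth_of_isIntegrallyClosed _ ?_
  rw [IsLocalization.AtPrime.ringKrullDim_eq_height x.asIdeal]
  haveI : (Ideal.span {π}).IsPrime := (Ideal.span_singleton_prime hπ.ne_zero).2 hπ
  have h1 : (Ideal.span {π}).height < x.asIdeal.height := Ideal.height_strict_mono_of_isPrime
    (lt_of_le_of_ne ((Ideal.span_singleton_le_iff_mem _).2 hmem) (Ne.symm hne))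
  have h0 : (⊥ : Ideal A).height < (Ideal.span {π}).height := Ideal.height_strict_mono_of_isPrime
    (bot_lt_iff_ne_bot.2 (by simpa using hπ.ne_zero))
  have h2 : (2 : ℕ∞) ≤ x.asIdeal.height := by
    refine le_trans ?_ (Order.add_one_le_of_lt h1)
    rw [show (2 : ℕ∞) = 1 + 1 from rfl]
    gcongr
    exact Order.one_le_iff_ne_zero.2 fun h => by simp [h] at h0
  exact WithBot.coe_le_coe.2 h2

variable {M : (Spec A).Modules}

/-- A frame away from the zeros of a prime element can be corrected to a frame. -/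
theorem exists_frame_of_prime {V : (Spec A).Opens} (hM : FramedOn M V) {π : A} (hπ : Prime π)
    {e : Γ(M, V ⊓ PrimeSpectrum.basicOpen π)} (he : IsFrame M (V ⊓ PrimeSpectrum.basicOpen π) e) :
    ∃ e' : Γ(M, V), IsFrame M V e' := by
  haveI hP : (Ideal.span {π}).IsPrime := (Ideal.span_singleton_prime hπ.ne_zero).2 hπ
  let ξ : Spec A := ⟨Ideal.span {π}, hP⟩
  let Dπ : (Spec A).Opens := PrimeSpectrum.basicOpen π
  by_cases hξ : ξ ∈ V
  swap
  · refine exists_frame_extend (closed_structure_of_depth fun x hx hxπ => ?_) hM he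
    refine two_le_depth_of_prime hπ x (not_not.1 hxπ) fun h => hξ ?_
    rwa [show ξ = x from PrimeSpectrum.ext h.symm]
  obtain ⟨W, e₁, hξW, hWV, he₁⟩ := hM ξ hξ
  obtain ⟨_, ⟨_, ⟨g, rfl⟩, rfl⟩, hξg, hgW⟩ :=
    PrimeSpectrum.isBasis_basic_opens.exists_subset_of_mem_open hξW W.2
  let Dg : (Spec A).Opens := PrimeSpectrum.basicOpen g
  let O : (Spec A).Opens := PrimeSpectrum.basicOpen (g * π)
  have hOg : O ≤ Dg := PrimeSpectrum.basicOpen_mul_le_left g π
  have hOπ : O ≤ Dπ := PrimeSpectrum.basicOpen_mul_le_right g π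
  have hgW' : Dg ≤ W := hgW
  have hOV : O ≤ V ⊓ Dπ := le_inf ((hOg.trans hgW').trans hWV) hOπ
  obtain ⟨u, hu, heq⟩ := isUnit_of_frames (he.res hOV) (he₁.res (hOg.trans hgW'))
  obtain ⟨⟨a, s⟩, hus⟩ := IsLocalization.surj (Submonoid.powers (g * π)) (u : Γ(Spec A, O))
  obtain ⟨_, k, rfl⟩ := s
  dsimp only at hus
  haveI : Nonempty O := ⟨⟨⟨⊥, Ideal.isPrime_bot⟩, by
    show g * π ∉ (⊥ : Ideal A)
    rw [Ideal.mem_bot]
    exact mul_ne_zero (fun h : g = 0 => hξg (by simp [h])) hπ.ne_zero⟩⟩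
  have ha : a ≠ 0 := by
    rintro rfl
    rw [map_zero] at hus
    have h0 : IsUnit (algebraMap A Γ(Spec A, O) ((g * π) ^ k)) := by
      rw [map_pow]; exact (IsLocalization.Away.algebraMap_isUnit (g * π)).pow k
    have : IsUnit (0 : Γ(Spec A, O)) := hus ▸ hu.mul h0
    exact not_isUnit_zero this
  obtain ⟨r, a', ha', rfl⟩ := WfDvdMonoid.max_power_factor ha hπ.irreducible
  let D' : (Spec A).Opens := PrimeSpectrum.basicOpen (g * a')
  have hD'g : D' ≤ Dg := PrimeSpectrum.basicOpen_mul_le_left g a'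
  obtain ⟨gi, hgi⟩ : ∃ gi : Γ(Spec A, Dg), algebraMap A _ g * gi = 1 :=
    (IsLocalization.Away.algebraMap_isUnit g).exists_right_inv
  obtain ⟨pi, hpi⟩ : ∃ pi : Γ(Spec A, Dπ), algebraMap A _ π * pi = 1 :=
    (IsLocalization.Away.algebraMap_isUnit π).exists_right_inv
  -- the new generator near `ξ` and away from `π`
  let v : Γ(Spec A, Dg) := algebraMap A _ a' * gi ^ k
  let c : Γ(Spec A, Dπ) := algebraMap A _ π ^ k * pi ^ r
  have hmap : ∀ {U₁ U₂ : (Spec A).Opens} (h : U₂ ≤ U₁) (b : A),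
      (Spec A).presheaf.map (homOfLE h).op (algebraMap A Γ(Spec A, U₁) b) = algebraMap A Γ(Spec A, U₂) b :=
    fun h b => rfl
  have hv : IsUnit ((Spec A).presheaf.map (homOfLE hD'g).op v) := by
    rw [map_mul, map_pow, hmap]
    refine IsUnit.mul ?_ ((IsUnit.of_mul_eq_one _ (by
      rw [mul_comm, ← hmap hD'g g, ← map_mul, hgi, map_one] :
        (Spec A).presheaf.map (homOfLE hD'g).op gi * algebraMap A _ g = 1)).pow k)
    exact isUnit_of_mul_isUnit_right (x := algebraMap A _ g) (by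
      rw [← map_mul]; exact IsLocalization.Away.algebraMap_isUnit (g * a'))
  have hc : IsUnit c := (IsLocalization.Away.algebraMap_isUnit π).pow k |>.mul
    ((IsUnit.of_mul_eq_one _ (by rw [mul_comm, hpi])).pow r)
  have fA : IsFrame M (V ⊓ Dπ) ((Spec A).presheaf.map (homOfLE (inf_le_right : V ⊓ Dπ ≤ Dπ)).op c • e) :=
    (Amp73.isFrame_smul_iff he _).2 (hc.map _)
  have fB : IsFrame M D' ((Spec A).presheaf.map (homOfLE hD'g).op v • res M (hD'g.trans hgW') e₁) :=
    (Amp73.isFrame_smul_iff (he₁.res _) _).2 hv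
  have hsub : (V ⊓ Dπ) ⊓ D' ≤ O := fun x hx => by
    show g * π ∉ x.asIdeal
    exact fun h => (x.2.mem_or_mem h).elim (hD'g hx.2) hx.1.2
  have hagree : res M (inf_le_left : (V ⊓ Dπ) ⊓ D' ≤ V ⊓ Dπ)
        ((Spec A).presheaf.map (homOfLE (inf_le_right : V ⊓ Dπ ≤ Dπ)).op c • e) =
      res M (inf_le_right : (V ⊓ Dπ) ⊓ D' ≤ D')
        ((Spec A).presheaf.map (homOfLE hD'g).op v • res M (hD'g.trans hgW') e₁) := by
    have key : (Spec A).presheaf.map (homOfLE hOπ).op c * u = (Spec A).presheaf.map (homOfLE hOg).op v := by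
      have hgu : IsUnit (algebraMap A Γ(Spec A, O) g) :=
        isUnit_of_mul_isUnit_left (y := algebraMap A _ π) (by
          rw [← map_mul]; exact IsLocalization.Away.algebraMap_isUnit (g * π))
      refine (hgu.pow k).mul_right_cancel ?_
      have h1 : algebraMap A Γ(Spec A, O) g * (Spec A).presheaf.map (homOfLE hOg).op gi = 1 := by
        rw [← hmap hOg g, ← map_mul, hgi, map_one]
      have h2 : algebraMap A Γ(Spec A, O) π * (Spec A).presheaf.map (homOfLE hOπ).op pi = 1 := by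
        rw [← hmap hOπ π, ← map_mul, hpi, map_one]
      simp only [c, v, map_mul, map_pow, hmap]
      rw [map_mul, map_pow, map_pow, map_mul, mul_pow] at hus
      set G := algebraMap A Γ(Spec A, O) g
      set P := algebraMap A Γ(Spec A, O) π
      set a₀ := algebraMap A Γ(Spec A, O) a'
      set gi₀ := (Spec A).presheaf.map (homOfLE hOg).op gi
      set pi₀ := (Spec A).presheaf.map (homOfLE hOπ).op pi
      calc P ^ k * pi₀ ^ r * u * G ^ k = pi₀ ^ r * (u * (G ^ k * P ^ k)) := by ring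
        _ = pi₀ ^ r * (P ^ r * a₀) := by rw [hus]
        _ = (P * pi₀) ^ r * a₀ * (G * gi₀) ^ k := by rw [h1, one_pow, mul_one]; ring
        _ = a₀ * gi₀ ^ k * G ^ k := by rw [h2]; ring
    have h3 := congrArg (res M hsub) heq
    rw [res_smul, res_res, res_res] at h3
    rw [res_smul, res_smul, res_res, h3, smul_smul]
    congr 1
    refine Eq.trans ?_ ((congrArg ((Spec A).presheaf.map (homOfLE hsub).op) key).trans ?_)
    · rw [map_mul]
      congr 1
    · simp only [← ConcreteCategory.comp_apply, ← Functor.map_comp, ← op_comp, homOfLE_comp]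
  obtain ⟨e', he'⟩ := exists_glue_frame fA fB hagree
  let V' := (V ⊓ Dπ) ⊔ D'
  have hV'V : V' ≤ V := sup_le inf_le_left ((hD'g.trans hgW').trans hWV)
  refine exists_frame_extend (U := V') (closed_structure_of_depth fun x hx hx' => ?_) hM
    (e := res M inf_le_right e') (he'.res _)
  refine two_le_depth_of_prime hπ x (not_not.1 fun h => hx' (Or.inl ⟨hx, h⟩)) fun h => hx' (Or.inr ?_)
  rw [show x = ξ from PrimeSpectrum.ext h]
  show g * a' ∉ Ideal.span {π}
  intro hh
  rcases hP.mem_or_mem hh with h' | h'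
  · exact hξg h'
  · exact ha' (Ideal.mem_span_singleton.1 h')

theorem exists_frame_of_ufd {U : (Spec A).Opens} (hM : FramedOn M U) : ∃ e : Γ(M, U), IsFrame M U e := by
  by_cases hne : ∃ x, x ∈ U
  swap
  · obtain rfl : U = ⊥ := eq_bot_iff.2 fun x hx => (hne ⟨x, hx⟩).elim
    exact ⟨0, isFrame_bot 0⟩
  obtain ⟨x, hx⟩ := hne
  obtain ⟨W, e, hxW, hWU, he⟩ := hM x hx
  obtain ⟨_, ⟨_, ⟨f, rfl⟩, rfl⟩, hxf, hfW⟩ := PrimeSpectrum.isBasis_basic_opens.exists_subset_of_mem_open hxW W.2
  have key : ∀ f : A, f ≠ 0 → (∃ e : Γ(M, U ⊓ PrimeSpectrum.basicOpen f),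
      IsFrame M (U ⊓ PrimeSpectrum.basicOpen f) e) → ∃ e : Γ(M, U), IsFrame M U e := by
    intro f
    induction f using UniqueFactorizationMonoid.induction_on_prime with
    | h₁ => intro h; exact absurd rfl h
    | h₂ f hf =>
      rintro - ⟨e, he⟩
      have : U ≤ U ⊓ PrimeSpectrum.basicOpen f := by
        rw [show PrimeSpectrum.basicOpen f = (⊤ : (Spec A).Opens) from eq_top_iff.2 fun p _ hp => p.2.ne_top (Ideal.eq_top_of_isUnit_mem _ hp hf), inf_top_eq]
      exact ⟨_, he.res this⟩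
    | h₃ f π hf hπ ih =>
      rintro - ⟨e, he⟩
      have hle : (U ⊓ PrimeSpectrum.basicOpen f) ⊓ PrimeSpectrum.basicOpen π ≤
          U ⊓ PrimeSpectrum.basicOpen (π * f) :=
        fun p hp => ⟨hp.1.1, fun h => (p.2.mem_or_mem h).elim hp.2 hp.1.2⟩
      exact ih hf (exists_frame_of_prime (framedOn_mono inf_le_left hM) hπ (he.res hle))
  refine key f (fun h => hxf (by simp [h])) ⟨_, he.res (inf_le_right.trans hfW)⟩

/-- Invertible modules on open subschemes of a factorial affine scheme are trivial. -/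
theorem nonempty_iso_unit_of_ufd (U : (Spec A).Opens) (L : (U : Scheme.{u}).Modules)
    (hL : PicF.IsInvertible L) : Nonempty (L ≅ Coh.structureModule (U : Scheme.{u})) := by
  obtain ⟨e, he⟩ := exists_frame_of_ufd (framedOn_push U.ι hL (V := U) U.opensRange_ι.ge)
  exact nonempty_iso_unit ((isFrame_of_push U.ι U.opensRange_ι.ge he).res U.ι_preimage_self.ge)

end UFD

end Groth.Agent.ParaF26
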