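import Mathlib.RingTheory.MvPowerSeries.Equiv
import Mathlib.RingTheory.MvPowerSeries.Substitution
import Mathlib.RingTheory.LocalRing.ResidueField.Basic
import Groth.Agent.Cohen12.PowerSeries
import Groth.Agent.S6299

/-!
Changes of variables making a power series regular in the first variable.
-/

set_option autoImplicit false
set_option linter.style.haveILetI false

universe u

open MvPowerSeries IsLocalRing

noncomputable section

namespace Groth.Agent.ParaF26.VarChange

variable {A : Type u} [CommRing A] {n : ℕ}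

/-- The substituted families `X 0 ↦ X 0`, `X i.succ ↦ X i.succ + a * X 0 ^ (c i)`. -/
def shift (a : A) (c : Fin n → ℕ) : Fin (n + 1) → MvPowerSeries (Fin (n + 1)) A :=
  Fin.cases (X 0) fun i => X i.succ + C a * X 0 ^ (c i)

variable {c : Fin n → ℕ} (hc : ∀ i, c i ≠ 0)

include hc in
theorem hasSubst_shift (a : A) : HasSubst (shift a c) := by
  refine hasSubst_of_constantCoeff_zero fun i => ?_
  induction i using Fin.cases with
  | zero => simp [shift]
  | succ i => simp [shift, zero_pow (hc i)]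

include hc in
theorem shift_comp_shift (a b : A) (hab : a + b = 0) (i : Fin (n + 1)) :
    subst (shift b c) (shift a c i) = X i := by
  have h := hasSubst_shift hc b
  rw [← coe_substAlgHom h]
  induction i using Fin.cases with
  | zero => simp [shift, substAlgHom_X h]
  | succ i =>
    have hC : substAlgHom (R := A) h (C a) = C a := by
      rw [show (C a : MvPowerSeries (Fin (n + 1)) A) = algebraMap A _ a from rfl, AlgHom.commutes]
    simp only [shift, Fin.cases_succ, map_add, map_mul, map_pow, hC, substAlgHom_X h, Fin.cases_zero]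
    rw [add_assoc, ← add_mul, ← map_add, add_comm b a, hab, map_zero, zero_mul, add_zero]

include hc in
theorem substAlgHom_shift_comp (a b : A) (hab : a + b = 0) (f : MvPowerSeries (Fin (n + 1)) A) :
    substAlgHom (hasSubst_shift hc b) (substAlgHom (hasSubst_shift hc a) f) = f := by
  rw [coe_substAlgHom, coe_substAlgHom, subst_comp_subst_apply (hasSubst_shift hc a) (hasSubst_shift hc b),
    funext (shift_comp_shift hc a b hab), subst_self, id]

/-- The automorphism. -/
def shiftEquiv : MvPowerSeries (Fin (n + 1)) A ≃ₐ[A] MvPowerSeries (Fin (n + 1)) A :=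
  AlgEquiv.ofAlgHom (substAlgHom (R := A) (hasSubst_shift hc (1 : A)))
    (substAlgHom (R := A) (hasSubst_shift hc (-1 : A)))
    (AlgHom.ext fun f => substAlgHom_shift_comp hc (-1 : A) (1 : A) (neg_add_cancel 1) f)
    (AlgHom.ext fun f => substAlgHom_shift_comp hc (1 : A) (-1 : A) (add_neg_cancel 1) f)

theorem coeff_single_shiftEquiv (f : MvPowerSeries (Fin (n + 1)) A) (e : ℕ) :
    coeff (Finsupp.single 0 e) (shiftEquiv hc f) =
      ∑ᶠ d : Fin (n + 1) →₀ ℕ, if (∑ i, d i * (Fin.cases 1 c : Fin (n + 1) → ℕ) i) = e then coeff d f else 0 := by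
  classical
  show coeff _ (substAlgHom (hasSubst_shift hc 1) f) = _
  rw [coe_substAlgHom, coeff_subst (hasSubst_shift hc 1)]
  refine finsum_congr fun d => ?_
  let emb : Unit ↪ Fin (n + 1) := ⟨fun _ => 0, fun _ _ _ => Subsingleton.elim _ _⟩
  let π := killCompl (R := A) emb
  have hπ : ∀ i, π (shift 1 c i) = X () ^ (Fin.cases 1 c : Fin (n + 1) → ℕ) i := by
    intro i
    have h0 : π (X 0) = X () := killCompl_X (e := emb) ()
    induction i using Fin.cases with
    | zero => simpa [shift] using h0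
    | succ i =>
      have h1 : π (X i.succ) = 0 := killCompl_X_eq_zero (e := emb) (fun ⟨_, h⟩ => Fin.succ_ne_zero i h.symm)
      simp [shift, h0, h1]
  rw [show Finsupp.single (0 : Fin (n + 1)) e = Finsupp.embDomain emb (Finsupp.single () e) from
    (Finsupp.embDomain_single emb () e).symm, ← coeff_killCompl (e := emb), map_finsuppProd]
  simp only [map_pow]
  rw [show (d.prod fun s k => π (shift 1 c s) ^ k) =
      X () ^ (∑ i, d i * (Fin.cases 1 c : Fin (n + 1) → ℕ) i) by
    rw [Finsupp.prod_fintype _ _ (fun i => pow_zero _), ← Finset.prod_pow_eq_pow_sum]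
    exact Finset.prod_congr rfl fun i _ => by rw [hπ, ← pow_mul, mul_comm]]
  rw [coeff_X_pow]
  by_cases h : (∑ i, d i * (Fin.cases 1 c : Fin (n + 1) → ℕ) i) = e <;> simp [h, Finsupp.single_eq_single_iff, Ne.symm]

/-- Weights separating one exponent from the lexicographically larger ones. -/
theorem exists_weights (S : Set (Fin (n + 1) →₀ ℕ)) (hS : S.Nonempty) :
    ∃ (c : Fin n → ℕ) (_ : ∀ i, c i ≠ 0), ∃ d₀ ∈ S, ∀ d ∈ S,
      (∑ i, d i * (Fin.cases 1 c : Fin (n + 1) → ℕ) i) = ∑ i, d₀ i * (Fin.cases 1 c : Fin (n + 1) → ℕ) i →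
        d = d₀ := by
  classical
  let key : (Fin (n + 1) →₀ ℕ) → Lex (Fin (n + 1) → ℕ) := fun d => toLex fun i => d i.rev
  obtain ⟨d₀, hd₀, hmin⟩ := (InvImage.wf key (wellFounded_lt (α := Lex (Fin (n + 1) → ℕ)))).has_min S hS
  let K := (∑ i, d₀ i) + 1
  refine ⟨fun i => K ^ (i.1 + 1), fun i => pow_ne_zero _ (Nat.succ_ne_zero _), d₀, hd₀, fun d hd he => ?_⟩
  have hw : ∀ i : Fin (n + 1), (Fin.cases 1 fun i => K ^ (i.1 + 1) : Fin (n + 1) → ℕ) i = K ^ i.1 := fun i => by
    induction i using Fin.cases with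
    | zero => simp
    | succ i => simp
  simp only [hw] at he
  by_contra hne
  have hlt : key d₀ < key d := lt_of_le_of_ne (not_lt.1 (hmin d hd)) fun h => hne (Finsupp.ext fun i => by
    have := congrFun (congrArg ofLex h) i.rev
    simpa [key] using this.symm)
  obtain ⟨i, hi, hilt⟩ := hlt
  let j := i.rev
  have hgt : ∀ l : Fin (n + 1), j < l → d₀ l = d l := fun l hl => by
    have hl' : l.rev < i := by
      rw [← Fin.rev_rev i]
      exact Fin.rev_lt_rev.2 hl
    have := hi l.rev hl'
    simpa [key] using this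
  have hjlt : d₀ j < d j := hilt
  -- the lower digits of `d₀` weigh less than one unit at `j`
  have hlow : ∀ l : Fin (n + 1), l < j → d₀ l * K ^ l.1 * K ≤ d₀ l * K ^ j.1 := fun l hl => by
    rw [mul_assoc, ← pow_succ]
    exact Nat.mul_le_mul_left _ (Nat.pow_le_pow_right (Nat.succ_pos _) hl)
  have h1 : (∑ l, d₀ l * K ^ l.1) + K ^ j.1 ≤
      (∑ l ∈ Finset.univ.filter (fun l => l < j), d₀ l * K ^ l.1) + ∑ l, d l * K ^ l.1 := by
    rw [← Finset.sum_filter_add_sum_filter_not Finset.univ (fun l => l < j) (fun l => d₀ l * K ^ l.1), add_assoc]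
    refine Nat.add_le_add_left ?_ _
    refine le_trans ?_ (Finset.sum_le_sum_of_subset (f := fun l => d l * K ^ l.1)
      (Finset.subset_univ (Finset.univ.filter fun l => ¬ l < j)))
    have hj : j ∈ Finset.univ.filter (fun l => ¬ l < j) := by simp
    rw [← Finset.add_sum_erase _ _ hj, ← Finset.add_sum_erase _ _ hj]
    have : ∀ l ∈ (Finset.univ.filter (fun l => ¬ l < j)).erase j, d₀ l * K ^ l.1 = d l * K ^ l.1 := fun l hl => by
      rw [Finset.mem_erase, Finset.mem_filter, not_lt] at hl
      rw [hgt l (lt_of_le_of_ne hl.2.2 (Ne.symm hl.1))]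
    rw [Finset.sum_congr rfl this]
    have := Nat.mul_le_mul_right (K ^ j.1) hjlt
    rw [Nat.succ_mul] at this
    omega
  have h2 : (∑ l ∈ Finset.univ.filter (fun l => l < j), d₀ l * K ^ l.1) * K ≤ (K - 1) * K ^ j.1 := by
    rw [Finset.sum_mul]
    refine (Finset.sum_le_sum fun l hl => hlow l (Finset.mem_filter.1 hl).2).trans ?_
    rw [← Finset.sum_mul]
    exact Nat.mul_le_mul_right _ ((Finset.sum_le_sum_of_subset (f := fun l => d₀ l) (Finset.filter_subset _ _)).trans
      (by simp [K]))
  have h3 : K ^ j.1 ≤ ∑ l ∈ Finset.univ.filter (fun l => l < j), d₀ l * K ^ l.1 := by omega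
  have hK : 0 < K ^ j.1 := pow_pos (Nat.succ_pos _) _
  have h4 := (Nat.mul_le_mul_right K h3).trans h2
  rw [mul_comm] at h4
  have := Nat.le_of_mul_le_mul_right h4 hK
  omega

/-- A series with nonzero reduction becomes regular in the first variable. -/
theorem exists_regular_change [IsLocalRing A] (f : MvPowerSeries (Fin (n + 1)) A)
    (hf : ∃ d, coeff d f ∉ maximalIdeal A) :
    ∃ (c : Fin n → ℕ) (hc : ∀ i, c i ≠ 0) (e : ℕ),
      coeff (Finsupp.single 0 e) (shiftEquiv hc f) ∉ maximalIdeal A := by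
  classical
  obtain ⟨c, hc, d₀, hd₀, huniq⟩ := exists_weights {d | coeff d f ∉ maximalIdeal A} hf
  refine ⟨c, hc, ∑ i, d₀ i * (Fin.cases 1 c : Fin (n + 1) → ℕ) i, ?_⟩
  rw [coeff_single_shiftEquiv]
  let w : (Fin (n + 1) →₀ ℕ) → A := fun d =>
    if (∑ i, d i * (Fin.cases 1 c : Fin (n + 1) → ℕ) i) =
      ∑ i, d₀ i * (Fin.cases 1 c : Fin (n + 1) → ℕ) i then coeff d f else 0
  show (∑ᶠ d, w d) ∉ maximalIdeal A
  have hfin : Set.Finite {d : Fin (n + 1) →₀ ℕ | (∑ i, d i * (Fin.cases 1 c : Fin (n + 1) → ℕ) i) =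
      ∑ i, d₀ i * (Fin.cases 1 c : Fin (n + 1) → ℕ) i} := by
    set W := ∑ i, d₀ i * (Fin.cases 1 c : Fin (n + 1) → ℕ) i
    refine (Set.finite_Iic (Finsupp.equivFunOnFinite.symm fun _ => W)).subset fun d hd i => ?_
    have hpos : 1 ≤ (Fin.cases 1 c : Fin (n + 1) → ℕ) i := by
      induction i using Fin.cases with
      | zero => simp
      | succ i => simpa [Nat.one_le_iff_ne_zero] using hc i
    calc d i ≤ d i * (Fin.cases 1 c : Fin (n + 1) → ℕ) i := Nat.le_mul_of_pos_right _ hpos
      _ ≤ _ := Finset.single_le_sum (f := fun i => d i * (Fin.cases 1 c : Fin (n + 1) → ℕ) i)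
        (fun _ _ => Nat.zero_le _) (Finset.mem_univ i)
      _ = W := hd
      _ = _ := by simp
  have hsupp : Function.support w ⊆ (hfin.toFinset : Set (Fin (n + 1) →₀ ℕ)) := fun d hd => by
    rw [Set.Finite.coe_toFinset]
    by_contra h
    exact hd (if_neg h)
  rw [finsum_eq_finsetSum_of_support_subset w hsupp, ← Finset.add_sum_erase _ _ (hfin.mem_toFinset.2 rfl)]
  intro h
  have hrest : ∑ d ∈ hfin.toFinset.erase d₀, w d ∈ maximalIdeal A := Ideal.sum_mem _ fun d hd => by
    rw [Finset.mem_erase, Set.Finite.mem_toFinset] at hd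
    by_contra hd'
    rw [show w d = coeff d f from if_pos hd.2] at hd'
    exact hd.1 (huniq d hd' hd.2)
  have := sub_mem h hrest
  rw [add_sub_cancel_right, show w d₀ = coeff d₀ f from if_pos rfl] at this
  exact hd₀ this

theorem isDomain_mvPowerSeries [IsDomain A] (n : ℕ) : IsDomain (MvPowerSeries (Fin n) A) :=
  NoZeroDivisors.to_isDomain _

theorem isIntegrallyClosed_mvPowerSeries [IsDomain A] [IsNoetherianRing A] [IsIntegrallyClosed A] :
    ∀ n : ℕ, IsIntegrallyClosed (MvPowerSeries (Fin n) A)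
  | 0 => IsIntegrallyClosed.of_equiv (MvPowerSeries.isEmptyEquiv (Fin 0) A).symm.toRingEquiv
  | n + 1 => by
    haveI := isIntegrallyClosed_mvPowerSeries n
    haveI := isDomain_mvPowerSeries (A := A) n
    haveI := Cohen12.isNoetherianRing_powerSeries A n
    haveI := (S6299.result (MvPowerSeries (Fin n) A)).1
    exact IsIntegrallyClosed.of_equiv (MvPowerSeries.finSuccEquiv A n).symm.toRingEquiv

end Groth.Agent.ParaF26.VarChange
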