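import Groth.Agent.ParaF26.Generator
import Groth.Agent.ParaF26.VarChange
import Groth.Agent.ML3.Flat
import Groth.Agent.CAlg1.SerreNormal
import Groth.Agent.S2821
import Groth.Agent.S2834

/-!
Localisations of power series rings over complete normal local domains at primes outside the closed
fibre are parafactorial.
-/

set_option autoImplicit false
set_option linter.style.haveILetI false
set_option backward.isDefEq.respectTransparency.types false

universe u

open IsLocalRing

noncomputable section

namespace Groth.Agent.ParaF26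

theorem flat_powerSeries (A : Type u) [CommRing A] [IsNoetherianRing A] : Module.Flat A (PowerSeries A) := by
  haveI : Module.Flat A (ULift.{u} (Unit →₀ ℕ) → A) := ML3.flat_pi (R := A) _
  exact Module.Flat.of_linearEquiv (LinearEquiv.funCongrLeft A A (Equiv.ulift.{u} (α := Unit →₀ ℕ)))

/-- One generator over a normal base of dimension at most one gives a regular ring. -/
theorem isRegularLocalRing_of_generator {A B : Type u} [CommRing A] [CommRing B] [IsLocalRing A] [IsLocalRing B]
    [Algebra A B] [IsLocalHom (algebraMap A B)] [IsNoetherianRing A] [IsNoetherianRing B]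
    [IsDomain A] [IsIntegrallyClosed A] (h1 : ringKrullDim A ≤ 1) (hdimB : (2 : WithBot ℕ∞) ≤ ringKrullDim B)
    (x : B) (hx : GenModFibre (A := A) x) (hP : ∃ P : Polynomial A, P.Monic ∧ Polynomial.aeval x P ∈ maximalIdeal B) :
    IsRegularLocalRing B := by
  classical
  haveI := CAlg1.regular_of_isIntegrallyClosed_dim_le_one A h1
  obtain ⟨g, -, -, hmax, -, -⟩ := exists_minpoly_lift x hx hP
  obtain ⟨s, hs, hcard, hspan⟩ : ∃ s : Set A, s.Finite ∧ (s.ncard : WithBot ℕ∞) ≤ 1 ∧ Ideal.span s = maximalIdeal A := by
    obtain ⟨s, hs, hspan⟩ := Submodule.FG.exists_span_finset_card_eq_spanFinrank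
      (IsNoetherian.noetherian (maximalIdeal A))
    refine ⟨(s : Set A), s.finite_toSet, ?_, hspan⟩
    rw [Set.ncard_coe_finset, hs]
    exact (IsRegularLocalRing.spanFinrank_maximalIdeal (R := A)).le.trans h1
  refine IsRegularLocalRing.of_spanFinrank_maximalIdeal_le B (le_trans ?_ hdimB)
  have e : maximalIdeal B = Ideal.span (insert (Polynomial.aeval x g) (algebraMap A B '' s)) := by
    rw [hmax, ← hspan, Ideal.map_span, sup_comm, Ideal.span_insert]
  have h3 : (maximalIdeal B).spanFinrank ≤ s.ncard + 1 := by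
    rw [e]
    refine (Submodule.spanFinrank_span_le_ncard_of_finite ((hs.image _).insert _)).trans ?_
    exact (Set.ncard_insert_le _ _).trans (Nat.add_le_add_right (Set.ncard_image_le hs) 1)
  calc ((maximalIdeal B).spanFinrank : WithBot ℕ∞) ≤ ((s.ncard + 1 : ℕ) : WithBot ℕ∞) := by exact_mod_cast h3
    _ = (s.ncard : WithBot ℕ∞) + 1 := by push_cast; rfl
    _ ≤ 1 + 1 := by gcongr
    _ = 2 := rfl

/-- Parafactoriality over a normal base: the case of one generator. -/
theorem parafactorial_of_generator_normal {A B : Type u} [CommRing A] [CommRing B] [IsLocalRing A] [IsLocalRing B]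
    [Algebra A B] [IsLocalHom (algebraMap A B)] [IsNoetherianRing A] [IsNoetherianRing B] [Module.Flat A B]
    [IsDomain A] [IsIntegrallyClosed A] (hdimB : (2 : WithBot ℕ∞) ≤ ringKrullDim B)
    (hdim : ringKrullDim (B ⧸ (maximalIdeal A).map (algebraMap A B)) ≠ 0)
    (x : B) (hx : GenModFibre (A := A) x) (hP : ∃ P : Polynomial A, P.Monic ∧ Polynomial.aeval x P ∈ maximalIdeal B) :
    ParaF.IsParafactorialLocalRing B := by
  classical
  by_cases h2 : (2 : WithBot ℕ∞) ≤ ringKrullDim A
  · exact parafactorial_of_generator (CAlg1.two_le_depth_of_isIntegrallyClosed A h2) hdim x hx hP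
  have h1 : ringKrullDim A ≤ 1 := by
    have hlt := not_le.1 h2
    exact Order.le_of_lt_succ (by simpa [show (2 : WithBot ℕ∞) = Order.succ (1 : WithBot ℕ∞) from rfl] using hlt)
  haveI := isRegularLocalRing_of_generator h1 hdimB x hx hP
  obtain ⟨_, hufd⟩ := S2821.result B
  exact S2834.result B hufd hdimB

/-- One variable over a complete normal local domain. -/
theorem parafactorial_atPrime_powerSeries (A : Type u) [CommRing A] [IsDomain A] [IsNoetherianRing A]
    [IsLocalRing A] [IsIntegrallyClosed A] [IsAdicComplete (maximalIdeal A) A]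
    (q : Ideal (PowerSeries A)) [q.IsPrime] (f : PowerSeries A) (hf : f ∈ q) (hfr : f.map (residue A) ≠ 0)
    (hdim : (2 : WithBot ℕ∞) ≤ ringKrullDim (Localization.AtPrime q)) :
    ParaF.IsParafactorialLocalRing (Localization.AtPrime q) := by
  classical
  let p := q.under A
  letI := Localization.AtPrime.algebraOfLiesOver p q
  let Ap := Localization.AtPrime p
  let Bq := Localization.AtPrime q
  haveI : IsNoetherianRing Ap := IsLocalization.isNoetherianRing p.primeCompl _ inferInstance
  haveI : IsNoetherianRing Bq := IsLocalization.isNoetherianRing q.primeCompl _ inferInstance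
  haveI : IsLocalHom (algebraMap Ap Bq) := Localization.isLocalHom_localRingHom p q _ _
  haveI := flat_powerSeries A
  haveI : Module.Flat Ap Bq := inferInstance
  haveI : IsDomain Ap := IsLocalization.isDomain_localization p.primeCompl_le_nonZeroDivisors
  haveI : IsIntegrallyClosed Ap := isIntegrallyClosed_of_isLocalization Ap p.primeCompl p.primeCompl_le_nonZeroDivisors
  let ι : Polynomial A →+* PowerSeries A := Polynomial.coeToPowerSeries.ringHom
  let X' : Bq := algebraMap (PowerSeries A) Bq PowerSeries.X
  have haev : ∀ r : Polynomial A, algebraMap (PowerSeries A) Bq (r : PowerSeries A) =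
      Polynomial.aeval X' (r.map (algebraMap A Ap)) := fun r => by
    rw [Polynomial.aeval_map_algebraMap]
    induction r using Polynomial.induction_on' with
    | add a b ha hb => rw [Polynomial.coe_add, map_add, ha, hb, map_add]
    | monomial n a =>
      rw [← Polynomial.C_mul_X_pow_eq_monomial, Polynomial.coe_mul, Polynomial.coe_pow, Polynomial.coe_C,
        Polynomial.coe_X, map_mul, map_pow, map_mul, map_pow, Polynomial.aeval_X, Polynomial.aeval_C,
        show PowerSeries.C a = algebraMap A (PowerSeries A) a from rfl, ← IsScalarTower.algebraMap_apply]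
  let P := f.weierstrassDistinguished hfr
  have hPd : P.IsDistinguishedAt (maximalIdeal A) := PowerSeries.isDistinguishedAt_weierstrassDistinguished hfr
  obtain ⟨v, hv⟩ := (PowerSeries.isUnit_weierstrassUnit hfr).exists_right_inv
  have hPf : (P : PowerSeries A) = f * v := by
    conv_rhs => rw [PowerSeries.eq_weierstrassDistinguished_mul_weierstrassUnit hfr]
    rw [mul_assoc, hv, mul_one]
  have hPq : (P : PowerSeries A) ∈ q := hPf ▸ q.mul_mem_right v hf
  have hPm : Polynomial.aeval X' (P.map (algebraMap A Ap)) ∈ maximalIdeal Bq := by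
    rw [← haev]
    exact (IsLocalization.AtPrime.to_map_mem_maximal_iff Bq q _).2 hPq
  let J := (maximalIdeal Ap).map (algebraMap Ap Bq) ⊔
      Ideal.span ((Polynomial.aeval X' : Polynomial Ap →ₐ[Ap] Bq) '' {h | Polynomial.aeval X' h ∈ maximalIdeal Bq})
  have hJ : J ≤ maximalIdeal Bq := sup_le (Ideal.map_le_iff_le_comap.2 fun c hc => map_nonunit _ c hc)
    (Ideal.span_le.2 (by rintro _ ⟨h, hh, rfl⟩; exact hh))
  have hred : ∀ b : PowerSeries A, ∃ r : Polynomial A,
      algebraMap (PowerSeries A) Bq b - Polynomial.aeval X' (r.map (algebraMap A Ap)) ∈ J := by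
    intro b
    obtain ⟨r, hr⟩ := (hPd.algEquivQuotient).surjective (Ideal.Quotient.mk _ b)
    obtain ⟨r, rfl⟩ := Ideal.Quotient.mk_surjective r
    have h1 : b - (r : PowerSeries A) ∈ Ideal.span {(P : PowerSeries A)} := Ideal.Quotient.eq.1 hr.symm
    obtain ⟨w, hw⟩ := Ideal.mem_span_singleton'.1 h1
    refine ⟨r, ?_⟩
    rw [← haev, ← map_sub, ← hw, map_mul, haev]
    exact Ideal.mul_mem_left _ _ (Submodule.mem_sup_right (Ideal.subset_span ⟨_, hPm, rfl⟩))
  have hgen : GenModFibre (A := Ap) X' := by
    intro b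
    obtain ⟨⟨b₀, w⟩, hbw⟩ := IsLocalization.surj q.primeCompl b
    obtain ⟨r, hr⟩ := hred b₀
    obtain ⟨s, hs⟩ := hred w
    have hu : IsUnit (Polynomial.aeval X' (s.map (algebraMap A Ap))) := by
      by_contra hu
      have := add_mem (hJ hs) ((mem_maximalIdeal _).2 hu)
      rw [sub_add_cancel] at this
      exact (mem_maximalIdeal _).1 this (IsLocalization.map_units Bq w)
    refine ⟨r.map (algebraMap A Ap), s.map (algebraMap A Ap), hu, ?_⟩
    show _ ∈ J
    have := sub_mem hr (Ideal.mul_mem_left J b hs)
    rw [mul_sub] at this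
    convert this using 1
    linear_combination hbw
  -- the closed fibre has positive dimension
  have hfib : ringKrullDim (Bq ⧸ (maximalIdeal Ap).map (algebraMap Ap Bq)) ≠ 0 := by
    intro h0
    let P₀ : Ideal (PowerSeries A) := RingHom.ker (PowerSeries.map (Ideal.Quotient.mk p))
    haveI : P₀.IsPrime := RingHom.ker_isPrime _
    have hpq : p.map (PowerSeries.C : A →+* PowerSeries A) ≤ q := Ideal.map_comap_le
    have hP₀ : P₀ ≤ p.map (PowerSeries.C : A →+* PowerSeries A) := by
      intro b hb
      obtain ⟨s, hs⟩ := IsNoetherian.noetherian p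
      have hc : ∀ i, ∃ c : A → A, ∑ g ∈ s, c g * g = PowerSeries.coeff i b := fun i => by
        have h1 : PowerSeries.coeff i b ∈ p := by
          rw [← Ideal.Quotient.eq_zero_iff_mem, ← PowerSeries.coeff_map, show PowerSeries.map _ b = 0 from hb, map_zero]
        rw [← hs, Submodule.mem_span_finset] at h1
        obtain ⟨c, -, hc⟩ := h1
        exact ⟨c, by simpa [smul_eq_mul] using hc⟩
      choose c hc using hc
      have hb' : b = ∑ g ∈ s, PowerSeries.mk (fun i => c i g) * PowerSeries.C g := by
        ext i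
        rw [map_sum, ← hc i]
        exact Finset.sum_congr rfl fun g _ => by rw [PowerSeries.coeff_mul_C, PowerSeries.coeff_mk]
      rw [hb']
      exact Ideal.sum_mem _ fun g hg => Ideal.mul_mem_left _ _ (Ideal.mem_map_of_mem _ (hs ▸ Submodule.subset_span hg))
    have hP₀q : P₀ ≤ q := hP₀.trans hpq
    have hd0 : Disjoint (q.primeCompl : Set (PowerSeries A)) (P₀ : Set (PowerSeries A)) :=
      Set.disjoint_left.2 fun r hr hr' => hr (hP₀q hr')
    let I := (maximalIdeal Ap).map (algebraMap Ap Bq)
    haveI hQ0 : (P₀.map (algebraMap (PowerSeries A) Bq)).IsPrime :=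
      IsLocalization.isPrime_of_isPrime_disjoint q.primeCompl Bq P₀ inferInstance hd0
    have hI : I ≤ P₀.map (algebraMap (PowerSeries A) Bq) := by
      show (maximalIdeal Ap).map (algebraMap Ap Bq) ≤ _
      rw [← Localization.AtPrime.map_eq_maximalIdeal, Ideal.map_map, ← IsScalarTower.algebraMap_eq,
        Ideal.map_le_iff_le_comap]
      intro a ha
      rw [Ideal.mem_comap, IsScalarTower.algebraMap_apply A (PowerSeries A) Bq]
      refine Ideal.mem_map_of_mem _ ?_
      show PowerSeries.map (Ideal.Quotient.mk p) (PowerSeries.C a) = 0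
      rw [PowerSeries.map_C, Ideal.Quotient.eq_zero_iff_mem.2 ha, map_zero]
    haveI : (P₀.map (algebraMap (PowerSeries A) Bq)).map (Ideal.Quotient.mk I) |>.IsPrime :=
      Ideal.map_isPrime_of_surjective Ideal.Quotient.mk_surjective (by rwa [Ideal.mk_ker])
    haveI : Nontrivial (Bq ⧸ I) := Ideal.Quotient.nontrivial_iff.2 (ne_top_of_le_ne_top hQ0.ne_top hI)
    haveI : Ring.KrullDimLE 0 (Bq ⧸ I) := ringKrullDimZero_iff_ringKrullDim_eq_zero.2 h0
    haveI hmax := Ideal.isMaximal_of_isPrime
      ((P₀.map (algebraMap (PowerSeries A) Bq)).map (Ideal.Quotient.mk I))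
    have h1 := (Ideal.comap_isMaximal_of_surjective (Ideal.Quotient.mk I) Ideal.Quotient.mk_surjective (K :=
      (P₀.map (algebraMap (PowerSeries A) Bq)).map (Ideal.Quotient.mk I)))
    rw [Ideal.comap_map_of_surjective _ Ideal.Quotient.mk_surjective, ← RingHom.ker_eq_comap_bot, Ideal.mk_ker,
      sup_eq_left.2 hI] at h1
    have h2 : f ∈ P₀ := by
      have h3 : algebraMap (PowerSeries A) Bq f ∈ P₀.map (algebraMap (PowerSeries A) Bq) := by
        rw [IsLocalRing.eq_maximalIdeal h1]
        exact (IsLocalization.AtPrime.to_map_mem_maximal_iff Bq q _).2 hf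
      rwa [← Ideal.mem_comap, ← Ideal.under_def,
        IsLocalization.under_map_of_isPrime_disjoint q.primeCompl Bq inferInstance hd0] at h3
    refine hfr (PowerSeries.ext fun i => ?_)
    rw [PowerSeries.coeff_map, map_zero, residue_eq_zero_iff]
    refine le_maximalIdeal (Ideal.IsPrime.under A q).ne_top ?_
    show PowerSeries.coeff i f ∈ p
    rw [← Ideal.Quotient.eq_zero_iff_mem, ← PowerSeries.coeff_map, show PowerSeries.map _ f = 0 from h2, map_zero]
  exact parafactorial_of_generator_normal hdim hfib X' hgen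
    ⟨P.map (algebraMap A Ap), hPd.monic.map _, hPm⟩

theorem C_mem_map_iff {A : Type u} [CommRing A] [IsNoetherianRing A] (I : Ideal A) {σ : Type} 
    (f : MvPowerSeries σ A) (hf : ∀ d, MvPowerSeries.coeff d f ∈ I) :
    f ∈ I.map (MvPowerSeries.C : A →+* MvPowerSeries σ A) := by
  classical
  obtain ⟨s, hs⟩ := IsNoetherian.noetherian I
  have hc : ∀ d, ∃ c : A → A, ∑ g ∈ s, c g * g = MvPowerSeries.coeff d f := fun d => by
    have h1 := hf d
    rw [← hs, Submodule.mem_span_finset] at h1
    obtain ⟨c, -, hc⟩ := h1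
    exact ⟨c, by simpa [smul_eq_mul] using hc⟩
  choose c hc using hc
  have hb' : f = ∑ g ∈ s, (show MvPowerSeries σ A from fun d => c d g) * MvPowerSeries.C g := by
    ext d
    rw [map_sum, ← hc d]
    exact Finset.sum_congr rfl fun g _ => by rw [MvPowerSeries.coeff_mul_C]; rfl
  rw [hb']
  exact Ideal.sum_mem _ fun g hg => Ideal.mul_mem_left _ _ (Ideal.mem_map_of_mem _ (hs ▸ Submodule.subset_span hg))

theorem parafactorial_atPrime_mvPowerSeries (A : Type u) [CommRing A] [IsDomain A] [IsNoetherianRing A]
    [IsLocalRing A] [IsIntegrallyClosed A] [IsAdicComplete (maximalIdeal A) A] (n : ℕ)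
    (q : Ideal (MvPowerSeries (Fin n) A)) [q.IsPrime]
    (hqm : ¬ q ≤ (maximalIdeal A).map (MvPowerSeries.C : A →+* MvPowerSeries (Fin n) A))
    (hdim : (2 : WithBot ℕ∞) ≤ ringKrullDim (Localization.AtPrime q)) :
    ParaF.IsParafactorialLocalRing (Localization.AtPrime q) := by
  classical
  obtain ⟨f, hfq, hfm⟩ := SetLike.not_le_iff_exists.1 hqm
  obtain ⟨d, hd⟩ : ∃ d, MvPowerSeries.coeff d f ∉ maximalIdeal A := by
    by_contra! h
    exact hfm (C_mem_map_iff _ f h)
  obtain _ | n := n
  · exfalso
    rw [Subsingleton.elim d 0, MvPowerSeries.coeff_zero_eq_constantCoeff_apply] at hd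
    exact ‹q.IsPrime›.ne_top (Ideal.eq_top_of_isUnit_mem q hfq
      (MvPowerSeries.isUnit_iff_constantCoeff.2 (by_contra fun hu => hd ((mem_maximalIdeal _).2 hu))))
  obtain ⟨c, hc, e, he⟩ := VarChange.exists_regular_change f ⟨d, hd⟩
  let A' := MvPowerSeries (Fin n) A
  haveI : IsDomain A' := VarChange.isDomain_mvPowerSeries n
  haveI : IsNoetherianRing A' := Cohen12.isNoetherianRing_powerSeries A n
  haveI : IsIntegrallyClosed A' := VarChange.isIntegrallyClosed_mvPowerSeries n
  haveI : IsAdicComplete (maximalIdeal A') A' := Cohen12.isAdicComplete_powerSeries n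
  haveI : IsNoetherianRing (MvPowerSeries (Fin (n + 1)) A) := Cohen12.isNoetherianRing_powerSeries A (n + 1)
  let E := ((VarChange.shiftEquiv hc).trans (MvPowerSeries.finSuccEquiv A n)).toRingEquiv
  let q' : Ideal (PowerSeries A') := q.comap E.symm.toRingHom
  have hq' : q'.primeCompl = q.primeCompl.map E.toRingHom.toMonoidHom := by
    ext y
    constructor
    · exact fun hy => ⟨E.symm y, hy, E.apply_symm_apply y⟩
    · rintro ⟨x, hx, rfl⟩ h
      exact hx (by
        have h' : E.symm (E x) ∈ q := h
        rwa [E.symm_apply_apply] at h')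
  let el : Localization.AtPrime q ≃+* Localization.AtPrime q' :=
    IsLocalization.ringEquivOfRingEquiv (Localization.AtPrime q) (Localization.AtPrime q') E hq'.symm
  haveI : IsNoetherianRing (Localization.AtPrime q) := IsLocalization.isNoetherianRing q.primeCompl _ inferInstance
  haveI : IsNoetherianRing (Localization.AtPrime q') := IsLocalization.isNoetherianRing q'.primeCompl _ inferInstance
  refine parafactorial_of_ringEquiv el (parafactorial_atPrime_powerSeries A' q' (E f) ?_ ?_ ?_)
  · show E.symm (E f) ∈ q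
    rwa [E.symm_apply_apply]
  · intro h
    have h1 := congrArg (PowerSeries.coeff e) h
    rw [PowerSeries.coeff_map, map_zero, residue_eq_zero_iff, Cohen12.mem_maximalIdeal_powerSeries,
      ← MvPowerSeries.coeff_zero_eq_constantCoeff_apply] at h1
    refine he ?_
    have h2 : MvPowerSeries.coeff (0 : Fin n →₀ ℕ) (PowerSeries.coeff e (MvPowerSeries.finSuccEquiv A n
        (VarChange.shiftEquiv hc f))) ∈ maximalIdeal A := h1
    rw [MvPowerSeries.coeff_coeff_finSuccEquiv] at h2
    convert h2 using 3
    ext i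
    induction i using Fin.cases with
    | zero => simp
    | succ i => simp
  · exact hdim.trans (ringKrullDim_eq_of_ringEquiv el).le

end Groth.Agent.ParaF26
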