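import Groth.Agent.ParaF26.Open
import Groth.Agent.Div89.DepthTwo
import Groth.Agent.Div89.DepthExt
import Groth.Agent.Div89.RefIso
import Groth.Agent.CAlg1.SerreNormal
import Groth.Agent.QC70.UnitSub

/-!
Depth two and determination outside a closed subset.
-/

set_option autoImplicit false
set_option linter.style.haveILetI false

universe u

open CategoryTheory AlgebraicGeometry Opposite TopologicalSpace

noncomputable section

namespace Groth.Agent.ParaF26

open Var76.LineBundle Var76.ZeroScheme

variable {X : Scheme.{u}}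

theorem depth_structureModule (x : X) :
    LocCoh.depth (X.presheaf.stalk x) ((Coh.structureModule X).presheaf.stalk x) =
      LocCoh.depth (X.presheaf.stalk x) (X.presheaf.stalk x) :=
  (EGA4Alg4.depth_eq_of_equiv (QC70.unitStalkEquiv x)).symm

theorem resBij_of_depth [IsLocallyNoetherian X] {U : X.Opens}
    (h : ∀ x : X, x ∉ U → (2 : ℕ∞) ≤ LocCoh.depth (X.presheaf.stalk x) (X.presheaf.stalk x)) :
    ResBij X U := fun V =>
  Div89.res_bijective_of_depth_two (Coh.structureModule X) Div89.isCoh_structureModule U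
    (fun x hx => (h x hx).trans (depth_structureModule x).ge) V

theorem two_le_depth_of_resBij [IsLocallyNoetherian X] {U : X.Opens} (h : ResBij X U) (x : X)
    (hx : x ∉ U) : (2 : ℕ∞) ≤ LocCoh.depth (X.presheaf.stalk x) (X.presheaf.stalk x) :=
  (Div89.two_le_depth_of_res_bijective (Coh.structureModule X) Div89.isCoh_structureModule U h x hx).trans
    (depth_structureModule x).le

/-- Only the points of `V` outside `U` matter. -/
theorem closed_structure_of_depth [IsLocallyNoetherian X] {U V : X.Opens}
    (h : ∀ x ∈ V, x ∉ U → (2 : ℕ∞) ≤ LocCoh.depth (X.presheaf.stalk x) (X.presheaf.stalk x)) :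
    Closed (Coh.structureModule X) U V := by
  haveI : IsLocallyNoetherian (V : Scheme.{u}) := isLocallyNoetherian_of_isOpenImmersion V.ι
  have hV : ResBij (V : Scheme.{u}) (V.ι ⁻¹ᵁ U) := resBij_of_depth fun v hv => by
    rw [CAlg1.depth_eq_of_ringEquiv (V.stalkIso v).commRingCatIsoToRingEquiv]
    exact h v.1 v.2 hv
  intro T hT
  have h1 := (structure_res_bijective_iff V U (V.ι ⁻¹ᵁ T)).1 (hV _)
  revert h1
  generalize hT' : V.ι ''ᵁ (V.ι ⁻¹ᵁ T) = T'
  obtain rfl : T' = T := hT'.symm.trans (image_preimage_of_le _ _ hT)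
  exact id

theorem closed_of_frame' {U : X.Opens} {M : X.Modules} {W : X.Opens} {e : Γ(M, W)}
    (hU : Closed (Coh.structureModule X) U W) (he : IsFrame M W e) : Closed M U W := fun W' hW' => by
  refine (Function.Bijective.of_comp_iff _ (he W' hW')).1 ?_
  have key : res M (inf_le_left : W' ⊓ U ≤ W') ∘ (fun a : Γ(X, W') => a • res M hW' e) =
      (fun a : Γ(X, W' ⊓ U) => a • res M (inf_le_left.trans hW') e) ∘
        X.presheaf.map (homOfLE (inf_le_left : W' ⊓ U ≤ W')).op := by
    funext a
    simp only [Function.comp_apply, res_smul, res_res]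
  rw [key]
  exact (he _ _).comp (hU W' hW')

theorem closed_of_framedOn' {U V : X.Opens} {M : X.Modules}
    (hU : Closed (Coh.structureModule X) U V) (h : FramedOn M V) : Closed M U V :=
  closed_of_locally fun x hx => by
    obtain ⟨W, e, hxW, hW, he⟩ := h x hx
    exact ⟨W, hxW, closed_of_frame' (fun T hT => hU T (hT.trans hW)) he⟩

theorem isFrame_of_closed' {M : X.Modules} {U W : X.Opens} {e : Γ(M, W)}
    (hres : Closed (Coh.structureModule X) U W) (hc : Closed M U W)
    (he : IsFrame M (W ⊓ U) (res M inf_le_left e)) : IsFrame M W e := by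
  intro T hT
  refine (Function.Bijective.of_comp_iff' (hc T hT) _).1 ?_
  have key : res M (inf_le_left : T ⊓ U ≤ T) ∘ (fun a : Γ(X, T) => a • res M hT e) =
      (fun a : Γ(X, T ⊓ U) => a • res M (inf_le_inf_right U hT) (res M inf_le_left e)) ∘
        X.presheaf.map (homOfLE (inf_le_left : T ⊓ U ≤ T)).op := by
    funext a
    simp only [Function.comp_apply, res_smul, res_res]
  rw [key]
  exact (he _ _).comp (hres T hT)

/-- A frame on `V ⊓ U` extends over `V`. -/
theorem exists_frame_extend {M : X.Modules} {U V : X.Opens}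
    (hres : Closed (Coh.structureModule X) U V) (hM : FramedOn M V) {e : Γ(M, V ⊓ U)}
    (he : IsFrame M (V ⊓ U) e) : ∃ e' : Γ(M, V), IsFrame M V e' := by
  have hc := closed_of_framedOn' hres hM
  obtain ⟨e', he'⟩ := (hc V le_rfl).2 e
  exact ⟨e', isFrame_of_closed' hres hc (by rw [he']; exact he)⟩

end Groth.Agent.ParaF26
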