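import Groth.Agent.ParaF26.Spread
import Groth.Agent.QC70.Sections

/-!
Regular sections of invertible modules on open subschemes of affine schemes, generating at given points.
-/

set_option autoImplicit false
set_option linter.style.haveILetI false
set_option backward.isDefEq.respectTransparency.types false

universe u

open CategoryTheory AlgebraicGeometry Opposite TopologicalSpace

noncomputable section

namespace Groth.Agent.ParaF26

open Var76.LineBundle Var76.ZeroScheme

/-- Changing a generator by a coefficient. -/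
theorem bijAway_of_smul_eq {R : Type*} [CommRing R] {T : Type*} [AddCommGroup T] [Module R T] {g a : R}
    {x t : T} {k : ℕ} (hx : BijAway (LinearMap.toSpanSingleton R T x) g) (h : g ^ k • t = a • x) :
    BijAway (LinearMap.toSpanSingleton R T t) (g * a) := by
  refine ⟨fun b hb => ?_, fun y => ?_⟩
  · rw [LinearMap.toSpanSingleton_apply] at hb
    obtain ⟨m, hm⟩ := hx.inj (b * a) (by
      show (b * a) • x = 0
      rw [mul_smul, ← h, smul_comm, hb, smul_zero])
    refine ⟨m + 1, ?_⟩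
    rw [smul_eq_mul] at hm ⊢
    rw [show (g * a) ^ (m + 1) * b = g * a ^ m * (g ^ m * (b * a)) by ring, hm, mul_zero]
  · obtain ⟨m, r, hr⟩ := hx.surj y
    rw [LinearMap.toSpanSingleton_apply] at hr
    refine ⟨m + 1, r * g * g ^ k * a ^ m, ?_⟩
    rw [LinearMap.toSpanSingleton_apply, mul_smul, mul_smul, mul_smul, smul_comm (g ^ k) (a ^ m) t, h, smul_smul,
      smul_smul, smul_smul,
      show r * g * a ^ m * a = (g * a ^ (m + 1)) * r by ring, mul_smul, hr, smul_smul]
    congr 1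
    ring

/-- An element generating at finitely many primes. -/
theorem exists_gen_at {R : Type*} [CommRing R] {T : Type*} [AddCommGroup T] [Module R T]
    (F : Finset (PrimeSpectrum R))
    (h : ∀ p ∈ F, ∃ (g : R) (x : T), g ∉ p.asIdeal ∧ BijAway (LinearMap.toSpanSingleton R T x) g) :
    ∃ t : T, ∀ p ∈ F, ∃ g : R, g ∉ p.asIdeal ∧ BijAway (LinearMap.toSpanSingleton R T t) g := by
  classical
  choose! g x hg hx using h
  let M := F.filter fun p => ∀ q ∈ F, p ≤ q → q = p
  have hM : ∀ p ∈ F, ∃ m ∈ M, p ≤ m := fun p hp => by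
    obtain ⟨m, hpm, hm⟩ := (F.finite_toSet).exists_le_maximal hp
    exact ⟨m, Finset.mem_filter.2 ⟨hm.1, fun q hq hmq => le_antisymm (hm.2 hq hmq) hmq⟩, hpm⟩
  have hc : ∀ p ∈ M, ∃ c : R, c ∉ p.asIdeal ∧ ∀ q ∈ M, q ≠ p → c ∈ q.asIdeal := by
    intro p hp
    have hne : ∀ q ∈ M.erase p, ∃ c ∈ q.asIdeal, c ∉ p.asIdeal := fun q hq =>
      SetLike.not_le_iff_exists.1 fun hle => (Finset.ne_of_mem_erase hq)
        ((Finset.mem_filter.1 (Finset.mem_of_mem_erase hq)).2 p (Finset.mem_filter.1 hp).1 hle).symm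
    choose! c hc hc' using hne
    refine ⟨∏ q ∈ M.erase p, c q, fun h => ?_, fun q hq hqp => ?_⟩
    · obtain ⟨q, hq, hq'⟩ := p.2.prod_mem_iff.1 h
      exact hc' q hq hq'
    · obtain ⟨d, hd⟩ := Finset.dvd_prod_of_mem c (Finset.mem_erase.2 ⟨hqp, hq⟩)
      rw [hd]
      exact q.asIdeal.mul_mem_right d (hc q (Finset.mem_erase.2 ⟨hqp, hq⟩))
  choose! c hc hc' using hc
  refine ⟨∑ m ∈ M, c m • x m, fun p hp => ?_⟩
  obtain ⟨m₀, hm₀, hpm⟩ := hM p hp
  have hF := (Finset.mem_filter.1 hm₀).1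
  choose k r hr using (hx m₀ hF).surj
  let K := M.sup fun m => k (x m)
  have hterm : ∀ m ∈ M, g m₀ ^ K • x m = (g m₀ ^ (K - k (x m)) * r (x m)) • x m₀ := fun m hm => by
    have h1 : r (x m) • x m₀ = g m₀ ^ k (x m) • x m := hr (x m)
    rw [mul_smul, h1, smul_smul, ← pow_add, Nat.sub_add_cancel (Finset.le_sup (f := fun m => k (x m)) hm)]
  have key : g m₀ ^ K • ∑ m ∈ M, c m • x m =
      (c m₀ * g m₀ ^ K + ∑ m ∈ M.erase m₀, c m * (g m₀ ^ (K - k (x m)) * r (x m))) • x m₀ := by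
    rw [← Finset.add_sum_erase _ _ hm₀, smul_add, add_smul, smul_comm, ← mul_smul, Finset.smul_sum, Finset.sum_smul]
    refine congrArg _ (Finset.sum_congr rfl fun m hm => ?_)
    rw [smul_comm, hterm m (Finset.mem_of_mem_erase hm), smul_smul]
  refine ⟨_, fun hmem => ?_, bijAway_of_smul_eq (hx m₀ hF) key⟩
  rcases p.2.mem_or_mem hmem with h' | h'
  · exact hg m₀ hF (hpm h')
  have hsum : ∑ m ∈ M.erase m₀, c m * (g m₀ ^ (K - k (x m)) * r (x m)) ∈ m₀.asIdeal := Ideal.sum_mem _ fun m hm =>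
    m₀.asIdeal.mul_mem_right _ (hc' m (Finset.mem_of_mem_erase hm) m₀ hm₀ (Finset.ne_of_mem_erase hm).symm)
  have := sub_mem (hpm h') hsum
  rw [add_sub_cancel_right] at this
  rcases m₀.2.mem_or_mem this with h1 | h1
  · exact hc m₀ hm₀ h1
  · exact hg m₀ hF (m₀.2.mem_of_pow_mem _ h1)

variable {R : CommRingCat.{u}} [IsNoetherianRing R]

/-- An element generating at the associated primes gives an injective map on sections. -/
theorem app_injective_of_gen {T : ModuleCat.{u} R} {V : (Spec R).Opens} (t : T)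
    (h : ∀ p : PrimeSpectrum R, p ∈ V → p.asIdeal ∈ associatedPrimes R R →
      ∃ g : R, g ∉ p.asIdeal ∧ BijAway (LinearMap.toSpanSingleton R T t) g)
    {W : (Spec R).Opens} (hW : W ≤ V) :
    Function.Injective fun a : Γ(Spec R, W) => a • elt T W t := by
  classical
  intro a b hab
  simp only at hab
  refine sub_eq_zero.1 (eq_of_locally (Coh.structureModule (Spec R)) (a - b) 0 fun q hq => ?_)
  obtain ⟨_, ⟨_, ⟨g, rfl⟩, rfl⟩, hqg, hgW⟩ := PrimeSpectrum.isBasis_basic_opens.exists_subset_of_mem_open hq W.2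
  refine ⟨PrimeSpectrum.basicOpen g, hgW, hqg, ?_⟩
  rw [show res (Coh.structureModule (Spec R)) hgW 0 = 0 from map_zero _]
  let z : Γ(Spec R, PrimeSpectrum.basicOpen g) := (Spec R).presheaf.map (homOfLE hgW).op (a - b)
  show z = 0
  obtain ⟨k, c, hc⟩ := exists_algebraMap_eq g z
  have hct : elt T (PrimeSpectrum.basicOpen g) (c • t) = 0 := by
    rw [elt_smul, ← hc, ← elt_res hgW, mul_smul,
      show z • res (tilde T) hgW (elt T W t) = res (tilde T) hgW ((a - b) • elt T W t) from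
        (res_smul (tilde T) hgW _ _).symm, sub_smul, hab, sub_self,
      show res (tilde T) hgW (0 : Γ(tilde T, W)) = 0 from map_zero _, smul_zero]
  obtain ⟨l, hl⟩ := (eq_zero_iff_elt g _).1 hct
  refine (isUnit_algebraMap_pow g k).mul_right_eq_zero.1 (hc.trans ?_)
  rw [← map_zero (algebraMap R Γ(Spec R, PrimeSpectrum.basicOpen g)), algebraMap_eq_iff]
  by_contra hne
  simp only [mul_zero, not_exists] at hne
  let I : Ideal R := LinearMap.ker (LinearMap.toSpanSingleton R R c)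
  have hgI : g ∉ I.radical := fun ⟨n, hn⟩ => hne n (show g ^ n • c = 0 from hn)
  rw [Ideal.radical_eq_sInf, Ideal.mem_sInf] at hgI
  push Not at hgI
  obtain ⟨P, ⟨hIP, hP⟩, hgP⟩ := hgI
  obtain ⟨Q, hQ, hQP⟩ := Ideal.exists_minimalPrimes_le hIP
  let N : Submodule R R := Submodule.span R {c}
  have hann : Module.annihilator R N = I := by
    rw [show Module.annihilator R N = N.annihilator from rfl, Submodule.annihilator_span_singleton]
  have hQass : Q ∈ associatedPrimes R R :=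
    associatedPrimes.subset_of_injective N.injective_subtype
      (Module.associatedPrimes.minimalPrimes_annihilator_subset_associatedPrimes (R := R) (M := N) (hann.symm ▸ hQ))
  let q' : PrimeSpectrum R := ⟨Q, hQ.1.1⟩
  have hgQ : g ∉ Q := fun hh => hgP (hQP hh)
  obtain ⟨g', hg', hbij⟩ := h q' (hW (hgW hgQ)) hQass
  obtain ⟨n, hn⟩ := hbij.inj (g ^ l * c) (by
    show (g ^ l * c) • t = 0
    rw [mul_smul, hl])
  have : g' ^ n * g ^ l ∈ Q := hQ.1.2 (show (g' ^ n * g ^ l) • c = 0 by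
    rw [smul_eq_mul, mul_assoc]; exact hn)
  rcases hQ.1.1.mem_or_mem this with h1 | h1
  · exact hg' (hQ.1.1.mem_of_pow_mem _ h1)
  · exact hgQ (hQ.1.1.mem_of_pow_mem _ h1)

theorem isIso_of_app_bijective {X : Scheme.{u}} {M N : X.Modules} (φ : M ⟶ N)
    (h : ∀ U, Function.Bijective (φ.app U)) : IsIso φ :=
  Scheme.Modules.Hom.isIso_iff_isIso_app.2 fun U => (ConcreteCategory.isIso_iff_bijective _).2 (h U)

theorem exists_regular_section (V : (Spec R).Opens) (E : Set ↥V) (hE : E.Finite)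
    (L : (V : Scheme.{u}).Modules) (hL : PicF.IsInvertible L) :
    ∃ φ : Coh.structureModule (V : Scheme.{u}) ⟶ L, Mono φ ∧
      ∀ x ∈ E, ∃ W : (V : Scheme.{u}).Opens, x ∈ W ∧ IsIso ((Scheme.Modules.restrictFunctor W.ι).map φ) := by
  classical
  obtain ⟨T, ⟨i⟩, s, hs, hcov⟩ := exists_finite_model V L hL
  obtain ⟨F, hF⟩ : ∃ F : Finset (PrimeSpectrum R),
      ∀ p, p ∈ F ↔ p ∈ V ∧ (p ∈ Subtype.val '' E ∨ p.asIdeal ∈ associatedPrimes R R) := by
    have hfin : ({p : PrimeSpectrum R | p ∈ Subtype.val '' E ∨ p.asIdeal ∈ associatedPrimes R R}).Finite :=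
      ((hE.image _).union ((associatedPrimes.finite R R).preimage
        (fun p _ q _ h => PrimeSpectrum.ext h))).subset fun p hp => hp
    exact ⟨(hfin.subset (t := {p | p ∈ V ∧ (p ∈ Subtype.val '' E ∨ p.asIdeal ∈ associatedPrimes R R)})
      fun p hp => hp.2).toFinset, fun p => Set.Finite.mem_toFinset _⟩
  obtain ⟨t, ht⟩ := exists_gen_at F fun p hp => by
    obtain ⟨x, hx, hxp⟩ := hcov p ((hF p).1 hp).1
    exact ⟨x.1, x.2, hxp, (hs x hx).2⟩
  let f : ModuleCat.of R R ⟶ T := ModuleCat.ofHom (LinearMap.toSpanSingleton R T t)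
  obtain ⟨u⟩ := nonempty_restrict_iso_unit.unitIso V
  let ψ := (Scheme.Modules.restrictFunctor V.ι).map (tilde.map f)
  have happ : ∀ (W : (Spec R).Opens), ⇑((tilde.map f).app W) = fun a : Γ(Spec R, W) => a • elt T W t := by
    intro W
    funext a
    change Γ(Spec R, W) at a
    have h1 : ∀ b : Γ(Spec R, W), b • elt (ModuleCat.of R R) W (1 : R) = (b : Γ(tilde (ModuleCat.of R R), W)) :=
      fun b => by
        show b * algebraMap R Γ(Spec R, W) 1 = b
        rw [map_one, mul_one]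
    conv_lhs => rw [← h1 a, Scheme.Modules.Hom.app_smul]
    refine congrArg ((a : Γ(Spec R, W)) • ·) ?_
    exact (ConcreteCategory.congr_hom (tilde.toOpen_map_app f W) (1 : R)).trans
      (congrArg (elt T W) (one_smul R t))
  have hψ : Mono ψ := QC70.mono_of_app_injective ψ fun U => by
    show Function.Injective ((tilde.map f).app (V.ι ''ᵁ U))
    rw [happ]
    exact app_injective_of_gen t (fun p hp hass => ht p ((hF p).2 ⟨hp, Or.inr hass⟩)) (V.ι_image_le U)
  refine ⟨u.inv ≫ ψ ≫ i.inv, inferInstance, fun x hx => ?_⟩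
  obtain ⟨g, hg, hb⟩ := ht x.1 ((hF x.1).2 ⟨x.2, Or.inl ⟨x, hx, rfl⟩⟩)
  refine ⟨V.ι ⁻¹ᵁ PrimeSpectrum.basicOpen g, hg, ?_⟩
  rw [Functor.map_comp, Functor.map_comp]
  haveI : IsIso ((Scheme.Modules.restrictFunctor (V.ι ⁻¹ᵁ PrimeSpectrum.basicOpen g).ι).map ψ) :=
    isIso_of_app_bijective _ fun U => by
      show Function.Bijective ((tilde.map f).app (V.ι ''ᵁ ((V.ι ⁻¹ᵁ PrimeSpectrum.basicOpen g).ι ''ᵁ U)))
      rw [happ]
      have hle : V.ι ''ᵁ ((V.ι ⁻¹ᵁ PrimeSpectrum.basicOpen g).ι ''ᵁ U) ≤ PrimeSpectrum.basicOpen g :=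
        (V.ι.image_mono (Scheme.Opens.ι_image_le _ U)).trans (V.ι.image_preimage_le _)
      have h2 := isFrame_elt hb hle _ le_rfl
      exact (by simpa only [Amp73.res_self] using h2 : Function.Bijective fun a : Γ(Spec R, _) => a • elt T _ t)
  infer_instance

end Groth.Agent.ParaF26
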