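import Mathlib

/-!
Linear maps which are bijective after inverting an element; spreading out from a localization.
-/

set_option autoImplicit false

noncomputable section

namespace Groth.Agent.ParaF26

variable {R : Type*} [CommRing R] {P Q : Type*} [AddCommGroup P] [Module R P] [AddCommGroup Q] [Module R Q]

/-- Bijective after inverting `g`, on elements. -/
structure BijAway (φ : P →ₗ[R] Q) (g : R) : Prop where
  inj : ∀ x, φ x = 0 → ∃ k : ℕ, g ^ k • x = 0
  surj : ∀ y, ∃ (k : ℕ) (x : P), φ x = g ^ k • y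

theorem BijAway.localized {φ : P →ₗ[R] Q} {g : R} (h : BijAway φ g) :
    Function.Bijective (LocalizedModule.map (Submonoid.powers g) φ) := by
  constructor
  · refine (injective_iff_map_eq_zero _).2 fun z hz => ?_
    induction z using LocalizedModule.induction_on with
    | h x s =>
      rw [LocalizedModule.map_mk, ← LocalizedModule.zero_mk s, LocalizedModule.mk_eq] at hz
      obtain ⟨⟨_, n, rfl⟩, hn⟩ := hz
      simp only [Submonoid.smul_def, smul_zero] at hn
      rw [← φ.map_smul, ← φ.map_smul] at hn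
      obtain ⟨k, hk⟩ := h.inj _ hn
      rw [← LocalizedModule.zero_mk s, LocalizedModule.mk_eq]
      refine ⟨⟨g ^ (k + n), k + n, rfl⟩, ?_⟩
      simp only [Submonoid.smul_def, smul_zero]
      rw [pow_add, mul_smul]
      exact hk
  · intro z
    induction z using LocalizedModule.induction_on with
    | h y s =>
      obtain ⟨k, x, hx⟩ := h.surj y
      refine ⟨LocalizedModule.mk x (⟨g ^ k, k, rfl⟩ * s), ?_⟩
      rw [LocalizedModule.map_mk, hx, LocalizedModule.mk_eq]
      refine ⟨1, ?_⟩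
      simp only [Submonoid.smul_def, Submonoid.coe_mul, Submonoid.coe_one, one_smul, mul_smul]
      exact smul_comm _ _ _

theorem BijAway.mul_right {φ : P →ₗ[R] Q} {g : R} (h : BijAway φ g) (c : R) : BijAway φ (g * c) where
  inj x hx := by
    obtain ⟨k, hk⟩ := h.inj x hx
    exact ⟨k, by rw [mul_pow, mul_comm, mul_smul, hk, smul_zero]⟩
  surj y := by
    obtain ⟨k, x, hx⟩ := h.surj y
    exact ⟨k, c ^ k • x, by rw [map_smul, hx, smul_smul, mul_pow, mul_comm]⟩

section Spread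

variable (S : Submonoid R) {A : Type*} [CommRing A] [Algebra R A]
  {P' Q' : Type*} [AddCommGroup P'] [Module A P'] [Module R P'] [IsScalarTower R A P']
  [AddCommGroup Q'] [Module A Q'] [Module R Q'] [IsScalarTower R A Q']
  (f : P →ₗ[R] P') (f' : Q →ₗ[R] Q') [IsLocalizedModule S f] [IsLocalizedModule S f']

include S in
theorem spread_ker [IsNoetherianRing R] [Module.Finite R P] (φ : P →ₗ[R] Q)
    (φ' : P' →ₗ[A] Q') (hcomm : ∀ x, φ' (f x) = f' (φ x)) {g : R}
    (h : BijAway φ' (algebraMap R A g)) :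
    ∃ a ∈ S, ∀ x, φ x = 0 → ∃ k : ℕ, (g * a) ^ k • x = 0 := by
  classical
  obtain ⟨t, ht⟩ := (inferInstance : IsNoetherian R P).noetherian (LinearMap.ker φ)
  have key : ∀ x ∈ t, ∃ a ∈ S, ∃ k : ℕ, (a * g ^ k) • x = 0 := fun x hx => by
    have hx0 : φ x = 0 := LinearMap.mem_ker.1 (ht.le (Submodule.subset_span hx))
    obtain ⟨k, hk⟩ := h.inj (f x) (by rw [hcomm, hx0, map_zero])
    rw [← map_pow, algebraMap_smul, ← map_smul, IsLocalizedModule.eq_zero_iff S f] at hk
    obtain ⟨⟨a, ha⟩, hax⟩ := hk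
    exact ⟨a, ha, k, by rw [mul_smul]; exact hax⟩
  choose! a ha k hk using key
  refine ⟨∏ x ∈ t, a x, S.prod_mem fun x hx => ha x hx, fun x hx => ⟨t.sum k + 1, ?_⟩⟩
  have hxs : x ∈ Submodule.span R (t : Set P) := ht.ge hx
  clear hx
  induction hxs using Submodule.span_induction with
  | mem x hx =>
    obtain ⟨c, hc⟩ : a x * g ^ k x ∣ (g * ∏ z ∈ t, a z) ^ (t.sum k + 1) := by
      rw [mul_pow, mul_comm (g ^ _)]
      refine mul_dvd_mul ((Finset.dvd_prod_of_mem a hx).trans (dvd_pow_self _ (Nat.succ_ne_zero _))) ?_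
      exact pow_dvd_pow g ((Finset.single_le_sum (fun _ _ => Nat.zero_le _) hx).trans (Nat.le_succ _))
    rw [hc, mul_comm, mul_smul, hk x hx, smul_zero]
  | zero => rw [smul_zero]
  | add x y hx hy ihx ihy =>
    rw [smul_add, ihx, ihy, add_zero]
  | smul r x hx ihx => rw [smul_comm, ihx, smul_zero]

include S in
theorem spread_range [Module.Finite R Q] (φ : P →ₗ[R] Q)
    (φ' : P' →ₗ[A] Q') (hcomm : ∀ x, φ' (f x) = f' (φ x)) {g : R}
    (h : BijAway φ' (algebraMap R A g)) :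
    ∃ a ∈ S, ∀ y, ∃ (k : ℕ) (x : P), φ x = (g * a) ^ k • y := by
  classical
  obtain ⟨t, ht⟩ := (inferInstance : Module.Finite R Q).fg_top
  have key : ∀ y ∈ t, ∃ a ∈ S, ∃ k : ℕ, (a * g ^ k) • y ∈ LinearMap.range φ := fun y _ => by
    obtain ⟨k, x', hx'⟩ := h.surj (f' y)
    obtain ⟨⟨x, ⟨s, hs⟩⟩, hxs⟩ := IsLocalizedModule.surj S f x'
    simp only [Submonoid.smul_def] at hxs
    have h1 : f' (φ x) = f' ((s * g ^ k) • y) := by
      rw [← hcomm, ← hxs, ← algebraMap_smul A s x', map_smul, hx', ← map_pow,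
        smul_smul, ← map_mul, algebraMap_smul, map_smul]
    obtain ⟨⟨b, hb⟩, hbx⟩ := (IsLocalizedModule.eq_iff_exists S f').1 h1
    simp only [Submonoid.smul_def] at hbx
    refine ⟨b * s, S.mul_mem hb hs, k, b • x, ?_⟩
    rw [map_smul, hbx, smul_smul, mul_assoc]
  choose! a ha k hk using key
  refine ⟨∏ y ∈ t, a y, S.prod_mem fun y hy => ha y hy, fun y => ⟨t.sum k + 1, ?_⟩⟩
  have hy : y ∈ Submodule.span R (t : Set Q) := ht ▸ trivial
  change (g * ∏ z ∈ t, a z) ^ (t.sum k + 1) • y ∈ LinearMap.range φ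
  induction hy using Submodule.span_induction with
  | mem y hy =>
    obtain ⟨c, hc⟩ : a y * g ^ k y ∣ (g * ∏ z ∈ t, a z) ^ (t.sum k + 1) := by
      rw [mul_pow, mul_comm (g ^ _)]
      refine mul_dvd_mul ((Finset.dvd_prod_of_mem a hy).trans (dvd_pow_self _ (Nat.succ_ne_zero _))) ?_
      exact pow_dvd_pow g ((Finset.single_le_sum (fun _ _ => Nat.zero_le _) hy).trans (Nat.le_succ _))
    rw [hc, mul_comm, mul_smul]
    exact Submodule.smul_mem _ _ (hk y hy)
  | zero => rw [smul_zero]; exact zero_mem _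
  | add x y _ _ ihx ihy => rw [smul_add]; exact add_mem ihx ihy
  | smul r x _ ihx => rw [smul_comm]; exact Submodule.smul_mem _ _ ihx

include S in
/-- Bijectivity after inverting spreads out. -/
theorem BijAway.spread [IsNoetherianRing R] [Module.Finite R P] [Module.Finite R Q] (φ : P →ₗ[R] Q)
    (φ' : P' →ₗ[A] Q') (hcomm : ∀ x, φ' (f x) = f' (φ x)) {g : R}
    (h : BijAway φ' (algebraMap R A g)) : ∃ a ∈ S, BijAway φ (g * a) := by
  obtain ⟨a, ha, hinj⟩ := spread_ker S f f' φ φ' hcomm h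
  obtain ⟨b, hb, hsurj⟩ := spread_range S f f' φ φ' hcomm h
  refine ⟨a * b, S.mul_mem ha hb, ⟨fun x hx => ?_, fun y => ?_⟩⟩
  · obtain ⟨k, hk⟩ := hinj x hx
    exact ⟨k, by rw [← mul_assoc, mul_pow, mul_comm, mul_smul, hk, smul_zero]⟩
  · obtain ⟨k, x, hx⟩ := hsurj y
    exact ⟨k, a ^ k • x, by rw [map_smul, hx, smul_smul, ← mul_pow]; ring_nf⟩

include S in
theorem BijAway.spread_finset [IsNoetherianRing R] [Module.Finite R P] [Module.Finite R Q] (φ : P →ₗ[R] Q)
    (φ' : P' →ₗ[A] Q') (hcomm : ∀ x, φ' (f x) = f' (φ x)) (t : Finset R)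
    (h : ∀ g ∈ t, BijAway φ' (algebraMap R A g)) : ∃ a ∈ S, ∀ g ∈ t, BijAway φ (g * a) := by
  classical
  choose! a ha hb using fun g (hg : g ∈ t) => BijAway.spread S f f' φ φ' hcomm (h g hg)
  refine ⟨∏ g ∈ t, a g, S.prod_mem fun g hg => ha g hg, fun g hg => ?_⟩
  rw [← Finset.mul_prod_erase t a hg, ← mul_assoc]
  exact (hb g hg).mul_right _

end Spread

/-- Other minimal primes are removed by inverting an element. -/
theorem exists_shrink [IsNoetherianRing R] (I p : Ideal R) [hp : p.IsPrime]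
    (h : ∀ q : Ideal R, q.IsPrime → I ≤ q → q ≤ p → q = p) :
    ∃ b, b ∉ p ∧ ∀ q : Ideal R, q.IsPrime → I ≤ q → b ∉ q → p ≤ q := by
  classical
  have hfin := I.finite_minimalPrimes_of_isNoetherianRing
  have key : ∀ P ∈ hfin.toFinset.filter (fun P => P ≠ p), ∃ b, b ∈ P ∧ b ∉ p := by
    intro P hP
    rw [Finset.mem_filter, Set.Finite.mem_toFinset] at hP
    exact SetLike.not_le_iff_exists.1 fun hle => hP.2 (h P hP.1.1.1 hP.1.1.2 hle)
  choose! b hbP hbp using key
  refine ⟨∏ P ∈ hfin.toFinset.filter (fun P => P ≠ p), b P, fun hmem => ?_, fun q hq hIq hbq => ?_⟩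
  · obtain ⟨P, hP, hbP'⟩ := (hp.prod_mem_iff).1 hmem
    exact hbp P hP hbP'
  · haveI := hq
    obtain ⟨P, hP, hPq⟩ := Ideal.exists_minimalPrimes_le hIq
    by_cases hPp : P = p
    · exact hPp ▸ hPq
    · have hP' : P ∈ hfin.toFinset.filter (fun P => P ≠ p) :=
        Finset.mem_filter.2 ⟨hfin.mem_toFinset.2 hP, hPp⟩
      exact absurd (hq.prod_mem_iff.2 ⟨P, hP', hPq (hbP P hP')⟩) hbq

end Groth.Agent.ParaF26
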