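import Groth.Agent.ParaF26.LocPrinc
import Groth.Agent.ParaF26.Spread
import Groth.Agent.Pure83.FormalApps

/-!
Parafactoriality lifts along an ideal with free graded pieces and quotient of depth three.
-/

set_option autoImplicit false
set_option linter.style.haveILetI false
set_option backward.isDefEq.respectTransparency.types false

universe u

open CategoryTheory AlgebraicGeometry Opposite TopologicalSpace IsLocalRing TensorProduct

noncomputable section

namespace Groth.Agent.ParaF26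

open Var76.LineBundle Var76.ZeroScheme Pure83

variable {A : Type u} [CommRing A] [IsLocalRing A]

/-- Membership in the punctured spectrum. -/
theorem basicOpen_le_punctured_of_mem {b : A} (hb : b ∈ maximalIdeal A) :
    (PrimeSpectrum.basicOpen b : (Spec (CommRingCat.of A)).Opens) ≤ FEt.puncturedSpec A :=
  fun x hx (hx' : x = closedPoint A) => hx (hx' ▸ hb)

variable [IsNoetherianRing A]

/-- A generator away from `g` gives a coordinate. -/
theorem locPrinc_of_bijAway {N : Type u} [AddCommGroup N] [Module A N] [Module.Finite A N]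
    (h : ∀ p : Ideal A, p.IsPrime → p ≠ maximalIdeal A → ∃ (g : A) (e : N),
      g ∉ p ∧ BijAway (LinearMap.toSpanSingleton A N e) g) : LocPrinc (A := A) N := by
  classical
  intro p hp hne
  obtain ⟨g, e, hg, hb⟩ := h p hp hne
  obtain ⟨G, hG⟩ := (inferInstance : Module.Finite A N).fg_top
  choose k a ha using hb.surj
  have hsurj : ∀ m : N, g ^ (∑ i ∈ G, k i) • m ∈ LinearMap.range (LinearMap.toSpanSingleton A N e) := by
    intro m
    have hm : m ∈ Submodule.span A (G : Set N) := hG ▸ trivial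
    induction hm using Submodule.span_induction with
    | mem i hi =>
      rw [← Nat.sub_add_cancel (Finset.single_le_sum (fun i _ => Nat.zero_le (k i)) (Finset.mem_coe.1 hi)),
        pow_add, mul_smul]
      exact Submodule.smul_mem _ _ ⟨a i, ha i⟩
    | zero => rw [smul_zero]; exact zero_mem _
    | add _ _ _ _ h₁ h₂ => rw [smul_add]; exact add_mem h₁ h₂
    | smul r _ _ h₁ => rw [smul_comm]; exact Submodule.smul_mem _ r h₁
  choose c hc using hsurj
  obtain ⟨T, hT⟩ := IsNoetherian.noetherian (LinearMap.ker (LinearMap.toSpanSingleton A N e))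
  choose! j hj using hb.inj
  let J' := ∑ i ∈ T, j i
  have hker : ∀ r : A, r • e = 0 → g ^ J' * r = 0 := by
    intro r hr
    have hr' : r ∈ Submodule.span A (T : Set A) := hT ▸ (show LinearMap.toSpanSingleton A N e r = 0 from hr)
    clear hr
    induction hr' using Submodule.span_induction with
    | mem i hi =>
      have hi' : LinearMap.toSpanSingleton A N e i = 0 :=
        LinearMap.mem_ker.1 (hT ▸ Submodule.subset_span hi)
      show g ^ (∑ w ∈ T, j w) * i = 0
      rw [← Nat.sub_add_cancel (Finset.single_le_sum (fun w _ => Nat.zero_le (j w)) (Finset.mem_coe.1 hi)),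
        pow_add, mul_assoc]
      exact mul_eq_zero_of_right _ (hj i hi')
    | zero => rw [mul_zero]
    | add _ _ _ _ h₁ h₂ => rw [mul_add, h₁, h₂, add_zero]
    | smul r _ _ h₁ => rw [smul_eq_mul, mul_left_comm, h₁, mul_zero]
  have hc' : ∀ m, c m • e = g ^ (∑ i ∈ G, k i) • m := hc
  have hker2 : ∀ r r' : A, r • e = r' • e → g ^ J' * r = g ^ J' * r' := fun r r' h => by
    rw [← sub_eq_zero, ← mul_sub]
    exact hker _ (by rw [sub_smul, h, sub_self])
  let lam : N →ₗ[A] A :=
    { toFun := fun m => g ^ J' * c m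
      map_add' := fun m₁ m₂ => by
        rw [← mul_add]
        exact hker2 _ _ (by rw [add_smul, hc', hc', hc', smul_add])
      map_smul' := fun r m => by
        rw [RingHom.id_apply, smul_eq_mul, mul_left_comm]
        exact hker2 _ _ (by rw [mul_smul, hc', hc', smul_comm]) }
  refine ⟨e, lam, g ^ J' * g ^ (∑ i ∈ G, k i),
    fun hmem => (hp.mem_or_mem hmem).elim (fun h => hg (hp.mem_of_pow_mem _ h)) (fun h => hg (hp.mem_of_pow_mem _ h)),
    hker2 _ _ (hc' e), fun m => ?_⟩
  show (g ^ J' * c m) • e = _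
  rw [mul_smul, hc', smul_smul]

theorem preimage_punctured_quotient (J : Ideal A) [IsLocalRing (A ⧸ J)] :
    (Spec.map (CommRingCat.ofHom (algebraMap A (A ⧸ J)))) ⁻¹ᵁ FEt.puncturedSpec A = FEt.puncturedSpec (A ⧸ J) := by
  let g : Spec (CommRingCat.of (A ⧸ J)) ⟶ Spec (CommRingCat.of A) :=
    Spec.map (CommRingCat.ofHom (algebraMap A (A ⧸ J)))
  haveI : IsLocalHom (algebraMap A (A ⧸ J)) := IsLocalHom.of_surjective _ Ideal.Quotient.mk_surjective
  show g ⁻¹ᵁ FEt.puncturedSpec A = FEt.puncturedSpec (A ⧸ J)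
  ext q
  refine ⟨fun hq (hq' : q = closedPoint (A ⧸ J)) => hq ?_, fun hq hq' => hq ?_⟩
  · subst hq'
    exact (comap_closedPoint (algebraMap A (A ⧸ J)))
  · exact PrimeSpectrum.comap_injective_of_surjective _ Ideal.Quotient.mk_surjective
      ((hq' : PrimeSpectrum.comap (algebraMap A (A ⧸ J)) q = closedPoint A).trans
        (comap_closedPoint (algebraMap A (A ⧸ J))).symm)

/-- A line bundle which is trivial modulo `J` is trivial, in depth three. -/
theorem trivial_of_trivial_quotient {J : Ideal A} (hJ : J ≠ ⊤) [IsLocalRing (A ⧸ J)]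
    (hd : (3 : ℕ∞) ≤ LocCoh.depth (A ⧸ J) (A ⧸ J))
    (hgr : ∀ n : ℕ, Module.Free (A ⧸ J) (↥(J ^ n) ⧸ (J • (⊤ : Submodule A ↥(J ^ n)))))
    (L : (FEt.puncturedSpec A : Scheme.{u}).Modules) (hL : PicF.IsInvertible L)
    (h0 : ∀ M : (Spec (CommRingCat.of A)).Modules, Nonempty (L ≅ M.restrict (FEt.puncturedSpec A).ι) →
      Nonempty (((Scheme.Modules.pullback (Spec.map (CommRingCat.ofHom (algebraMap A (A ⧸ J))))).obj M).restrict
        (FEt.puncturedSpec (A ⧸ J)).ι ≅ Coh.structureModule _)) :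
    Nonempty (L ≅ Coh.structureModule _) := by
  classical
  obtain ⟨x', hx'm, y', hy'm, z', hz'm, hx', hy', hz'⟩ := exists_triple_of_depth_three hd
  obtain ⟨x, rfl⟩ := Ideal.Quotient.mk_surjective x'
  obtain ⟨y, rfl⟩ := Ideal.Quotient.mk_surjective y'
  obtain ⟨z, rfl⟩ := Ideal.Quotient.mk_surjective z'
  have hxm : x ∈ maximalIdeal A := fun h => hx'm (h.map _)
  have hym : y ∈ maximalIdeal A := fun h => hy'm (h.map _)
  have hzm : z ∈ maximalIdeal A := fun h => hz'm (h.map _)
  obtain ⟨T, ⟨i⟩, s, hs, hcov⟩ := exists_finite_model (R := CommRingCat.of A) (FEt.puncturedSpec A) L hL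
  let N : Submodule A T := Submodule.span A ↑(s.image Prod.snd)
  have hmem : ∀ w ∈ s, w.2 ∈ N := fun w hw => Submodule.subset_span (Finset.mem_image_of_mem _ hw)
  obtain ⟨j⟩ := nonempty_span_restrict_iso (R := CommRingCat.of A) (O := FEt.puncturedSpec A) N fun q hq => by
    obtain ⟨w, hws, hw⟩ := hcov q hq
    exact ⟨w.1, hw, (span_bijAway (hmem w hws) (hs w hws).2).2⟩
  haveI : Module.Finite A N := Module.Finite.span_of_finite A (Finset.finite_toSet _)
  have hN : LocPrinc (A := A) N := locPrinc_of_bijAway fun p hp hne => by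
    obtain ⟨w, hws, hw⟩ := hcov ⟨p, hp⟩ fun e => hne (congrArg PrimeSpectrum.asIdeal e)
    exact ⟨w.1, ⟨w.2, hmem w hws⟩, hw, (span_bijAway (hmem w hws) (hs w hws).2).1⟩
  -- the trivialisation modulo `J`
  haveI : IsLocalHom (algebraMap A (A ⧸ J)) := IsLocalHom.of_surjective _ Ideal.Quotient.mk_surjective
  obtain ⟨k⟩ := TildePull72.nonempty_pullback_tilde_iso A (A ⧸ J) N
  obtain ⟨w⟩ := h0 _ ⟨i ≪≫ j.symm⟩
  let triv : (tilde (ModuleCat.of (A ⧸ J) ((A ⧸ J) ⊗[A] N))).restrict (FEt.puncturedSpec (A ⧸ J)).ι ≅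
      Coh.structureModule _ :=
    ((Scheme.Modules.restrictFunctor (FEt.puncturedSpec (A ⧸ J)).ι).mapIso k).symm ≪≫ w
  obtain ⟨ε, hε⟩ := exists_frame_of_restrict_iso triv
  have hres : ∀ (T' : (Spec (CommRingCat.of (A ⧸ J))).Opens) (hT : T' ≤ ⊤),
      (⊤ ⊓ FEt.puncturedSpec (A ⧸ J) = T') →
      Function.Bijective ((Spec (CommRingCat.of (A ⧸ J))).presheaf.map (homOfLE hT).op) := by
    rintro T' hT rfl
    exact resBij_punctured_iff.2 ((show (2 : ℕ∞) ≤ 3 by decide).trans hd) ⊤
  obtain ⟨φ, hφ⟩ := exists_form (R := CommRingCat.of (A ⧸ J)) (hres _ _ (top_inf_eq _)) hε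
  let φ₁ : N →ₗ[A] A ⧸ J := φ.restrictScalars A ∘ₗ TensorProduct.mk A (A ⧸ J) N 1
  obtain ⟨ψ, hψ⟩ := exists_bijAway_of_trivial_mod hgr hxm hym hzm
    (isSMulRegular_iff_right_eq_zero_of_smul.2 fun a ha =>
      Submodule.mem_bot (A ⧸ J) |>.1 (hx' a (Submodule.mem_bot (A ⧸ J) |>.2 ha)))
    hy' hz' hJ hN φ₁ fun p hp hne => by
      by_cases hJp : J ≤ p
      · obtain ⟨c, hcm, hcp⟩ : ∃ c, c ∈ maximalIdeal A ∧ c ∉ p :=
          SetLike.not_le_iff_exists.1 fun hle => hne (le_antisymm (le_maximalIdeal hp.ne_top) hle)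
        obtain ⟨n, w, hw⟩ := (hφ (Ideal.Quotient.mk J c) (basicOpen_le_punctured_of_mem
          (map_nonunit (algebraMap A (A ⧸ J)) c hcm))).surj 1
        obtain ⟨t, rfl⟩ := TensorProduct.mk_surjective A N (A ⧸ J) Ideal.Quotient.mk_surjective w
        exact ⟨c ^ n, fun h => hcp (hp.mem_of_pow_mem n h), t, hw.trans (by
          rw [smul_eq_mul, mul_one, map_pow]; rfl)⟩
      · obtain ⟨c, hcJ, hcp⟩ := SetLike.not_le_iff_exists.1 hJp
        exact ⟨c, hcp, 0, by rw [map_zero]; exact (Ideal.Quotient.eq_zero_iff_mem.2 hcJ).symm⟩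
  obtain ⟨trivA⟩ := nonempty_restrict_iso_unit (R := CommRingCat.of A) (T := ModuleCat.of A N)
    (U := FEt.puncturedSpec A) ψ fun q hq => hψ q.asIdeal q.2 fun e => hq (PrimeSpectrum.ext e)
  exact ⟨i ≪≫ j.symm ≪≫ trivA⟩


/-- Depth and triviality of line bundles on the punctured spectrum lift along `A → A/J`. -/
theorem picTrivial_of_gr_free {J : Ideal A} (hJ : J ≠ ⊤) [IsLocalRing (A ⧸ J)]
    (hd : (3 : ℕ∞) ≤ LocCoh.depth (A ⧸ J) (A ⧸ J))
    (hgr : ∀ n : ℕ, Module.Free (A ⧸ J) (↥(J ^ n) ⧸ (J • (⊤ : Submodule A ↥(J ^ n)))))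
    (h0 : ParaF.PicTrivial (FEt.puncturedSpec (A ⧸ J) : Scheme.{u})) :
    (3 : ℕ∞) ≤ LocCoh.depth A A ∧ ParaF.PicTrivial (FEt.puncturedSpec A : Scheme.{u}) := by
  classical
  obtain ⟨x', hx'm, y', hy'm, z', hz'm, hx', hy', hz'⟩ := exists_triple_of_depth_three hd
  obtain ⟨x, rfl⟩ := Ideal.Quotient.mk_surjective x'
  obtain ⟨y, rfl⟩ := Ideal.Quotient.mk_surjective y'
  obtain ⟨z, rfl⟩ := Ideal.Quotient.mk_surjective z'
  have hxm : x ∈ maximalIdeal A := fun h => hx'm (h.map _)
  have hym : y ∈ maximalIdeal A := fun h => hy'm (h.map _)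
  have hzm : z ∈ maximalIdeal A := fun h => hz'm (h.map _)
  refine ⟨?_, fun L hL => ?_⟩
  · have hx0 : RegMod J x := by
      have := regMod_of_quotient (J := J) (K := ⊥) (w := x) (by rwa [Ideal.map_bot])
      rwa [sup_bot_eq] at this
    have hy0 : RegMod (J ⊔ Ideal.span {x}) y :=
      regMod_of_quotient (by rwa [Ideal.map_span, Set.image_singleton])
    have hz0 : RegMod (J ⊔ Ideal.span {x, y}) z :=
      regMod_of_quotient (by rwa [Ideal.map_span, Set.image_pair])
    have hP := regPair_pow_of_gr_free hgr hx0 hy0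
    have hT := regTriple_pow_of_gr_free hgr hx0 hy0 hz0
    have hlim : ∀ (K : Ideal A) (w : A), K ≤ maximalIdeal A →
        (∀ n, RegMod (J ^ n ⊔ K) w) → RegMod K w := by
      intro K w hK h a ha
      haveI := Ideal.Quotient.nontrivial_iff.mpr (ne_top_of_le_ne_top (maximalIdeal.isMaximal A).ne_top hK)
      haveI : IsLocalRing (A ⧸ K) :=
        IsLocalRing.of_surjective' (Ideal.Quotient.mk K) Ideal.Quotient.mk_surjective
      have hJ' : J.map (Ideal.Quotient.mk K) ≠ ⊤ := fun e => by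
        have h1 := congrArg (Ideal.comap (Ideal.Quotient.mk K)) e
        rw [Ideal.comap_map_of_surjective _ Ideal.Quotient.mk_surjective, ← RingHom.ker_eq_comap_bot,
          Ideal.mk_ker, Ideal.comap_top] at h1
        exact (maximalIdeal.isMaximal A).ne_top (top_le_iff.1 (h1 ▸ sup_le (le_maximalIdeal hJ) hK))
      refine Ideal.Quotient.eq_zero_iff_mem.mp ?_
      have hinf : Ideal.Quotient.mk K a ∈ ⨅ n : ℕ, J.map (Ideal.Quotient.mk K) ^ n :=
        Submodule.mem_iInf _ |>.mpr fun n => by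
          obtain ⟨p, hp, q, hq, hpq⟩ := Submodule.mem_sup.mp (h n a (Submodule.mem_sup_right ha))
          rw [← hpq, map_add, Ideal.Quotient.eq_zero_iff_mem.mpr hq, add_zero, ← Ideal.map_pow]
          exact Ideal.mem_map_of_mem _ hp
      rwa [Ideal.iInf_pow_eq_bot_of_isLocalRing _ hJ', Submodule.mem_bot] at hinf
    have hspan1 : Ideal.span {x} ≤ maximalIdeal A := (Ideal.span_singleton_le_iff_mem _).mpr hxm
    exact depth_ge_of_triple hxm hym hzm (hlim ⊥ x bot_le fun n => by rw [sup_bot_eq]; exact (hP n).1)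
      (hlim _ y hspan1 fun n => (hP n).2)
      (hlim _ z (Ideal.span_le.mpr (by rintro w (rfl | rfl) <;> assumption)) hT)
  exact trivial_of_trivial_quotient hJ hd hgr L hL fun M ⟨iM⟩ =>
    h0 _ (isInvertible_pull_restrict _ M (FEt.puncturedSpec A) (preimage_punctured_quotient J)
      (EGA73.isInvertible_of_iso iM hL))

end Groth.Agent.ParaF26
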