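import Groth.Agent.ParaF26.Descent
import Groth.Agent.ParaF26.GrFree

/-!
Line bundles on a punctured spectrum by transition data, and parafactoriality.
-/

set_option autoImplicit false
set_option linter.style.haveILetI false
set_option backward.isDefEq.respectTransparency.types false

universe u

open CategoryTheory AlgebraicGeometry Opposite TopologicalSpace IsLocalRing

noncomputable section

namespace Groth.Agent.ParaF26

open Var76.LineBundle Var76.ZeroScheme

/-- Transition data `a i j / f j ^ k` on the cover by the `f j`. -/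
structure Coh {E : Type u} [CommRing E] {r : ℕ} (f : Fin r → E) (a : Fin r → Fin r → E) (k : ℕ) : Prop where
  diag : ∀ j, a j j = f j ^ k
  cocycle : ∃ K : ℕ, ∀ i j l, f j ^ K * (f l ^ k * a i j - a i l * a l j) = 0

/-- A trivialisation of transition data. -/
def Triv {E : Type u} [CommRing E] {r : ℕ} (f : Fin r → E) (a : Fin r → Fin r → E) (k : ℕ) : Prop :=
  ∃ (c : Fin r → E) (P : ℕ), (∀ i l, f l ^ P * (f l ^ k * c i - a i l * c l) = 0) ∧
    ∀ j, ∃ (n : ℕ) (d : E), d * c j = f j ^ n

theorem Coh.map {E E' : Type u} [CommRing E] [CommRing E'] {r : ℕ} {f : Fin r → E} {a : Fin r → Fin r → E} {k : ℕ}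
    (h : Coh f a k) (φ : E →+* E') : Coh (φ ∘ f) (fun i j => φ (a i j)) k := by
  obtain ⟨K, hK⟩ := h.cocycle
  refine ⟨fun j => ?_, K, fun i j l => ?_⟩
  · simp [h.diag j]
  · simpa using congrArg φ (hK i j l)

theorem Triv.map {E E' : Type u} [CommRing E] [CommRing E'] {r : ℕ} {f : Fin r → E} {a : Fin r → Fin r → E} {k : ℕ}
    (h : Triv f a k) (φ : E →+* E') : Triv (φ ∘ f) (fun i j => φ (a i j)) k := by
  obtain ⟨c, P, hc, hd⟩ := h
  refine ⟨φ ∘ c, P, fun i l => by simpa using congrArg φ (hc i l), fun j => ?_⟩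
  obtain ⟨n, d, hd⟩ := hd j
  exact ⟨n, φ d, by simpa using congrArg φ hd⟩

/-- An element killed by powers of a covering family vanishes in positive depth. -/
theorem eq_zero_of_forall_pow_mul {E : Type u} [CommRing E] [IsNoetherianRing E] [IsLocalRing E]
    (hd : (2 : ℕ∞) ≤ LocCoh.depth E E) {r : ℕ} (f : Fin r → E)
    (hcov : ∀ q : PrimeSpectrum E, q.asIdeal ≠ maximalIdeal E → ∃ j, f j ∉ q.asIdeal)
    (x : E) (h : ∀ j, ∃ n : ℕ, f j ^ n * x = 0) : x = 0 := by
  obtain ⟨b, hb, hreg⟩ := exists_mem_regular hd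
  obtain ⟨n, hn⟩ := exists_pow_le (LinearMap.ker (LinearMap.toSpanSingleton E E x)) fun q hq hle => by
    obtain ⟨j, hj⟩ := hcov q hq
    obtain ⟨m, hm⟩ := h j
    exact hj (q.2.mem_of_pow_mem m (hle (show f j ^ m * x = 0 from hm)))
  have h1 : b ^ n * x = 0 := hn (Ideal.pow_mem_pow hb n)
  exact (hreg.pow n) (show b ^ n • x = b ^ n • 0 by rw [smul_zero]; exact h1)

/-- Parafactoriality from trivialisations of transition data. -/
theorem parafactorial_of_triv {E : Type u} [CommRing E] [IsNoetherianRing E] [IsLocalRing E]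
    (hd : (2 : ℕ∞) ≤ LocCoh.depth E E)
    (h : ∀ (r : ℕ) (f : Fin r → E) (a : Fin r → Fin r → E) (k : ℕ), (∀ j, f j ∈ maximalIdeal E) →
      (∀ q : PrimeSpectrum E, q.asIdeal ≠ maximalIdeal E → ∃ j, f j ∉ q.asIdeal) →
      Coh f a k → Triv f a k) :
    ParaF.IsParafactorialLocalRing E := by
  classical
  refine parafactorial_iff.2 ⟨hd, fun L hL => ?_⟩
  obtain ⟨T, ⟨i₀⟩, S, hS, hcov⟩ := exists_finite_model (R := CommRingCat.of E) (FEt.puncturedSpec E) L hL
  let N : Submodule E T := Submodule.span E ↑(S.image Prod.snd)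
  obtain ⟨j₀⟩ := nonempty_span_restrict_iso (R := CommRingCat.of E) (O := FEt.puncturedSpec E) N fun q hq => by
    obtain ⟨x, hxs, hx⟩ := hcov q hq
    exact ⟨x.1, hx, (span_bijAway (Submodule.subset_span (Finset.mem_image_of_mem _ hxs) : x.2 ∈ N) (hS x hxs).2).2⟩
  let w : Fin S.card → E × T := fun j => ((S.equivFin.symm j : S) : E × T)
  have hw : ∀ j, w j ∈ S := fun j => (S.equivFin.symm j).2
  let f : Fin S.card → E := fun j => (w j).1
  let v : Fin S.card → N := fun j => ⟨(w j).2, Submodule.subset_span (Finset.mem_image_of_mem _ (hw j))⟩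
  have hv : ∀ j, BijAway (LinearMap.toSpanSingleton E N (v j)) (f j) :=
    fun j => (span_bijAway (v j).2 (hS _ (hw j)).2).1
  have hfm : ∀ j, f j ∈ maximalIdeal E := fun j => by
    by_contra hno
    exact (hS _ (hw j)).1 (show (closedPoint E) ∈ PrimeSpectrum.basicOpen (f j) from hno) rfl
  have hcov' : ∀ q : PrimeSpectrum E, q.asIdeal ≠ maximalIdeal E → ∃ j, f j ∉ q.asIdeal := fun q hq => by
    obtain ⟨x, hxs, hx⟩ := hcov q fun e => hq (congrArg PrimeSpectrum.asIdeal e)
    exact ⟨S.equivFin ⟨x, hxs⟩, by simpa [f, w] using hx⟩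
  -- the transition data
  choose k₀ x₀ hx₀ using fun p : Fin S.card × Fin S.card => (hv p.2).surj (v p.1)
  obtain ⟨k, hk⟩ := Finite.exists_le k₀
  let a : Fin S.card → Fin S.card → E := fun i j => if i = j then f j ^ k else f j ^ (k - k₀ (i, j)) * x₀ (i, j)
  have ha : ∀ i j, a i j • v j = f j ^ k • v i := by
    intro i j
    simp only [a]
    split_ifs with h
    · rw [h]
    · rw [mul_smul, show x₀ (i, j) • v j = f j ^ k₀ (i, j) • v i from hx₀ (i, j), smul_smul, ← pow_add,
        Nat.sub_add_cancel (hk (i, j))]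
  have hcoc : ∀ p : Fin S.card × Fin S.card × Fin S.card,
      ∃ K : ℕ, f p.2.1 ^ K * (f p.2.2 ^ k * a p.1 p.2.1 - a p.1 p.2.2 * a p.2.2 p.2.1) = 0 := by
    rintro ⟨i, j, l⟩
    refine (hv j).inj _ ?_
    rw [LinearMap.toSpanSingleton_apply, sub_smul, mul_smul, mul_smul, ha, ha, smul_comm (f l ^ k),
      smul_comm (a i l), ha, sub_self]
  choose K₀ hK₀ using hcoc
  obtain ⟨K, hK⟩ := Finite.exists_le K₀
  have hcoh : Coh f a k := ⟨fun j => by simp [a], K, fun i j l => by
    rw [← Nat.sub_add_cancel (hK (i, j, l)), pow_add, mul_assoc, hK₀ (i, j, l), mul_zero]⟩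
  obtain ⟨c, P, hc, hcd⟩ := h _ f a k hfm hcov' hcoh
  -- the form
  let π : (Fin S.card → E) →ₗ[E] N := Fintype.linearCombination E v
  have hπ : Function.Surjective π := by
    rw [← LinearMap.range_eq_top, Fintype.range_linearCombination, eq_top_iff]
    rintro ⟨y, hy⟩ -
    induction hy using Submodule.span_induction with
    | mem z hz =>
      obtain ⟨x, hxs, rfl⟩ := Finset.mem_image.1 hz
      exact Submodule.subset_span ⟨S.equivFin ⟨x, hxs⟩, Subtype.ext (by simp [v, w])⟩
    | zero => exact zero_mem _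
    | add p q _ _ hp hq => exact add_mem hp hq
    | smul e p _ hp => exact Submodule.smul_mem _ e hp
  let γ : (Fin S.card → E) →ₗ[E] E := Fintype.linearCombination E c
  have hker : LinearMap.ker π ≤ LinearMap.ker γ := fun x hx => by
    rw [LinearMap.mem_ker] at hx ⊢
    refine eq_zero_of_forall_pow_mul hd f hcov' _ fun l => ?_
    have h1 : (∑ i, x i * a i l) • v l = 0 := by
      rw [Finset.sum_smul]
      calc ∑ i, (x i * a i l) • v l = ∑ i, f l ^ k • (x i • v i) := Finset.sum_congr rfl fun i _ => by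
            rw [mul_smul, ha, smul_comm]
        _ = f l ^ k • π x := by rw [← Finset.smul_sum]; rfl
        _ = 0 := by rw [hx, smul_zero]
    obtain ⟨m, hm⟩ := (hv l).inj (∑ i, x i * a i l) h1
    refine ⟨m + P + k, ?_⟩
    have h2 : f l ^ P * (f l ^ k * γ x - (∑ i, x i * a i l) * c l) = 0 := by
      rw [Fintype.linearCombination_apply, Finset.mul_sum, Finset.sum_mul, ← Finset.sum_sub_distrib, Finset.mul_sum]
      refine Finset.sum_eq_zero fun i _ => ?_
      have := congrArg (x i * ·) (hc i l)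
      simp only [smul_eq_mul, mul_zero] at this ⊢
      linear_combination this
    rw [smul_eq_mul] at hm
    rw [pow_add, pow_add]
    linear_combination (f l ^ m) * h2 + (f l ^ P * c l) * hm
  let φ : N →ₗ[E] E := (LinearMap.ker π).liftQ γ hker ∘ₗ (π.quotKerEquivOfSurjective hπ).symm.toLinearMap
  have hφπ : ∀ x, φ (π x) = γ x := fun x => by
    show (LinearMap.ker π).liftQ γ hker ((π.quotKerEquivOfSurjective hπ).symm (π x)) = γ x
    rw [show (π.quotKerEquivOfSurjective hπ).symm (π x) = Submodule.Quotient.mk x from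
      (LinearEquiv.symm_apply_eq _).2 rfl, Submodule.liftQ_apply]
  have hφv : ∀ j, φ (v j) = c j := fun j => by
    have := hφπ (Pi.single j 1)
    simpa [π, γ, Fintype.linearCombination_apply_single] using this
  obtain ⟨triv⟩ := nonempty_restrict_iso_unit (R := CommRingCat.of E) (T := ModuleCat.of E N)
    (U := FEt.puncturedSpec E) φ fun q hq => by
      obtain ⟨j, hj⟩ := hcov' q fun e => hq (PrimeSpectrum.ext e)
      obtain ⟨n, d, hd'⟩ := hcd j
      refine ⟨f j, hj, ⟨fun x hx => ?_, fun y => ?_⟩⟩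
      · obtain ⟨m, e, he⟩ := (hv j).surj x
        rw [LinearMap.toSpanSingleton_apply] at he
        have h1 : e * c j = 0 := by
          rw [← hφv, ← smul_eq_mul, ← map_smul, he, map_smul, hx, smul_zero]
        refine ⟨n + m, ?_⟩
        rw [pow_add, mul_smul, ← he, smul_smul, ← hd', mul_assoc, mul_comm (c j), h1, mul_zero, zero_smul]
      · exact ⟨n, (y * d) • v j, by rw [map_smul, hφv, smul_eq_mul, smul_eq_mul, mul_assoc, hd', mul_comm]⟩
  exact ⟨i₀ ≪≫ j₀.symm ≪≫ triv⟩

/-- A torsion-free module free of rank one on the punctured spectrum of a parafactorial ring is free. -/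
theorem exists_generator_of_parafactorial {R : Type u} [CommRing R] [IsNoetherianRing R] [IsLocalRing R]
    (hR : ParaF.IsParafactorialLocalRing R) {ι : Type} (M : Submodule R (ι → R))
    (hM : ∀ (b : R), IsSMulRegular R b → ∀ x : ι → R, b • x ∈ M → x ∈ M)
    (h : ∀ q : PrimeSpectrum R, q.asIdeal ≠ maximalIdeal R → ∃ g : R, g ∈ maximalIdeal R ∧ g ∉ q.asIdeal ∧
      ∃ e : M, BijAway (LinearMap.toSpanSingleton R M e) g) :
    ∃ e : M, (∀ y : M, ∃ d : R, y = d • e) ∧ ∀ d : R, d • e = 0 → d = 0 := by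
  obtain ⟨hd, hpic⟩ := parafactorial_iff.1 hR
  obtain ⟨hbij, -⟩ := (S2824.result R).1 hR
  have hinv : PicF.IsInvertible ((tilde (ModuleCat.of R M)).restrict (FEt.puncturedSpec R).ι) :=
    isInvertible_restrict_of_framedOn' (framedOn_tilde (R := CommRingCat.of R) fun q hq => by
      obtain ⟨g, hgm, hgq, e, he⟩ := h q fun e => hq (PrimeSpectrum.ext e)
      exact ⟨g, e, hgq, basicOpen_le_punctured_of_mem hgm, he⟩)
  obtain ⟨triv⟩ := hpic _ hinv
  obtain ⟨ε, hε⟩ := exists_frame_of_restrict_iso triv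
  obtain ⟨φ, hφ⟩ := exists_form (R := CommRingCat.of R) hbij hε
  have hφ' : ∀ g ∈ maximalIdeal R, BijAway φ g := fun g hg => hφ g (basicOpen_le_punctured_of_mem hg)
  obtain ⟨b, hb, hreg⟩ := exists_mem_regular hd
  obtain ⟨c, hc, hcreg⟩ := exists_regular_mod hd hb hreg
  have hinj : ∀ y : M, φ y = 0 → y = 0 := fun y hy => by
    obtain ⟨n, hn⟩ := (hφ' b hb).inj y hy
    exact Subtype.ext (funext fun i => (hreg.pow n) (show b ^ n • y.1 i = b ^ n • (0 : R) by
      rw [smul_zero]
      exact congrFun (congrArg Subtype.val hn) i))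
  obtain ⟨p, x, hx⟩ := (hφ' b hb).surj 1
  obtain ⟨l, y, hy⟩ := (hφ' c hc).surj 1
  have hxy : c ^ l • x = b ^ p • y := sub_eq_zero.1 (hinj _ (by
    rw [map_sub, map_smul, map_smul, hx, hy, smul_eq_mul, smul_eq_mul, smul_eq_mul, smul_eq_mul, mul_one, mul_one,
      mul_comm, sub_self]))
  -- dividing by the powers of `b`
  have hdiv : ∀ i, ∀ n ≤ p, ∃ z, x.1 i = b ^ n * z := by
    intro i n hn
    induction n with
    | zero => exact ⟨x.1 i, by rw [pow_zero, one_mul]⟩
    | succ n ih =>
      obtain ⟨z, hz⟩ := ih (by omega)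
      have h1 : c ^ l * x.1 i = b ^ p * y.1 i := congrFun (congrArg Subtype.val hxy) i
      have h2 : c ^ l * z = b * (b ^ (p - n - 1) * y.1 i) := by
        refine (hreg.pow n) (show b ^ n • (c ^ l * z) = b ^ n • (b * (b ^ (p - n - 1) * y.1 i)) from ?_)
        have hp : b ^ n * (b * b ^ (p - n - 1)) = b ^ p := by
          rw [← pow_succ', ← pow_add]; congr 1; omega
        rw [smul_eq_mul, smul_eq_mul]
        rw [hz] at h1
        linear_combination h1 - (y.1 i) * hp
      have h3 : c ^ l • (Submodule.Quotient.mk z : QuotSMulTop b R) = c ^ l • 0 := by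
        rw [smul_zero, ← Submodule.Quotient.mk_smul, Submodule.Quotient.mk_eq_zero]
        exact ⟨_, trivial, h2.symm⟩
      have h4 := (hcreg.pow l) h3
      rw [Submodule.Quotient.mk_eq_zero] at h4
      obtain ⟨z', -, hz'⟩ := h4
      exact ⟨z', by rw [hz, ← show b • z' = z from hz', smul_eq_mul, pow_succ, mul_assoc]⟩
  choose z hz using fun i => hdiv i p le_rfl
  have hzx : b ^ p • z = x.1 := funext fun i => (hz i).symm
  have hzM : z ∈ M := hM _ (hreg.pow p) z (by rw [hzx]; exact x.2)
  let e : M := ⟨z, hzM⟩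
  have hxe : b ^ p • e = x := Subtype.ext hzx
  have he : φ e = 1 := (hreg.pow p) (show b ^ p • φ e = b ^ p • (1 : R) by rw [← map_smul, hxe, hx])
  exact ⟨e, fun y => ⟨φ y, sub_eq_zero.1 (hinj _ (by rw [map_sub, map_smul, he, smul_eq_mul, mul_one, sub_self]))⟩,
    fun d hd0 => by simpa [he] using congrArg φ hd0⟩

/-- The sections of transition data. -/
def sections {E : Type u} [CommRing E] {r : ℕ} (f : Fin r → E) (a : Fin r → Fin r → E) (k : ℕ) :
    Submodule E (Fin r → E) where
  carrier := {c | ∀ i l, f l ^ k * c i = a i l * c l}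
  add_mem' := fun {x y} hx hy i l => by
    simp only [Pi.add_apply, mul_add, hx i l, hy i l]
  zero_mem' := fun i l => by simp
  smul_mem' := fun b x hx i l => by
    simp only [Pi.smul_apply, smul_eq_mul]
    linear_combination b * hx i l

theorem mem_sections {E : Type u} [CommRing E] {r : ℕ} {f : Fin r → E} {a : Fin r → Fin r → E} {k : ℕ}
    {c : Fin r → E} : c ∈ sections f a k ↔ ∀ i l, f l ^ k * c i = a i l * c l := Iff.rfl

theorem sections_closed {E : Type u} [CommRing E] {r : ℕ} (f : Fin r → E) (a : Fin r → Fin r → E) (k : ℕ)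
    (b : E) (hb : IsSMulRegular E b) (x : Fin r → E) (hx : b • x ∈ sections f a k) : x ∈ sections f a k :=
  fun i l => hb (show b • (f l ^ k * x i) = b • (a i l * x l) by
    have := hx i l
    simp only [Pi.smul_apply, smul_eq_mul] at this ⊢
    linear_combination this)

/-- Transition data are trivial when the local rings on the centre are parafactorial. -/
theorem triv_of_parafactorial {B : Type u} [CommRing B] [IsNoetherianRing B] [IsLocalRing B] {r : ℕ}
    (f : Fin r → B) (a : Fin r → Fin r → B) (k : ℕ) (hcoh : Coh f a k)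
    (h : ∀ z : PrimeSpectrum B, (∀ j, f j ∈ z.asIdeal) →
      ParaF.IsParafactorialLocalRing (Localization.AtPrime z.asIdeal)) : Triv f a k := by
  classical
  obtain ⟨K, hK⟩ := hcoh.cocycle
  let M := sections f a k
  let e₀ : Fin r → M := fun j => ⟨fun i => f j ^ K * a i j, fun i l => by linear_combination hK i j l⟩
  suffices key : ∀ z : PrimeSpectrum B, ∃ g : B, g ∉ z.asIdeal ∧ ∃ e : M, BijAway (LinearMap.toSpanSingleton B M e) g by
    obtain ⟨g, hg, e, he⟩ := key (closedPoint B)
    have hgu : IsUnit g := by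
      by_contra hno
      exact hg hno
    refine ⟨e.1, 0, fun i l => by rw [pow_zero, one_mul, sub_eq_zero]; exact e.2 i l, fun j => ?_⟩
    obtain ⟨n, d, hd⟩ := he.surj (e₀ j)
    obtain ⟨v, hv⟩ := (hgu.pow n).exists_left_inv
    refine ⟨K + k, v * d, ?_⟩
    have h1 : d * e.1 j = g ^ n * (f j ^ K * a j j) := congrFun (congrArg Subtype.val hd) j
    rw [hcoh.diag] at h1
    linear_combination v * h1 + (f j ^ K * f j ^ k) * hv
  -- induction along generalisations
  suffices key : ∀ (N : ℕ) (z : PrimeSpectrum B), z.asIdeal.height < N →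
      ∃ g : B, g ∉ z.asIdeal ∧ ∃ e : M, BijAway (LinearMap.toSpanSingleton B M e) g by
    intro z
    obtain ⟨N, hN⟩ := ENat.ne_top_iff_exists.1 (Ideal.height_ne_top z.2.ne_top)
    exact key (N + 1) z (by rw [← hN]; exact_mod_cast N.lt_succ_self)
  intro N
  induction N with
  | zero => intro z hz; simp at hz
  | succ N ih =>
    intro z hz
    by_cases hZ : ∀ j, f j ∈ z.asIdeal
    swap
    · push Not at hZ
      obtain ⟨j, hj⟩ := hZ
      refine ⟨f j, hj, e₀ j, ⟨fun d hd => ⟨K + k, ?_⟩, fun y => ⟨K + k, y.1 j, Subtype.ext (funext fun i => ?_)⟩⟩⟩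
      · have h1 : d * (f j ^ K * a j j) = 0 := congrFun (congrArg Subtype.val hd) j
        rw [hcoh.diag] at h1
        rw [smul_eq_mul, pow_add]
        linear_combination h1
      · show y.1 j * (f j ^ K * a i j) = f j ^ (K + k) * y.1 i
        rw [pow_add]
        linear_combination -(f j ^ K) * y.2 i j
    let R := Localization.AtPrime z.asIdeal
    let ι := algebraMap B R
    haveI : IsNoetherianRing R := IsLocalization.isNoetherianRing z.asIdeal.primeCompl _ inferInstance
    let MR := sections (fun j => ι (f j)) (fun i j => ι (a i j)) k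
    let toR : M → MR := fun x => ⟨fun i => ι (x.1 i), fun i l => by
      rw [← map_pow, ← map_mul, x.2 i l, map_mul]⟩
    have hlift : ∀ y : MR, ∃ s ∈ z.asIdeal.primeCompl, ∃ y₀ : M, ι s • y = toR y₀ := by
      intro y
      obtain ⟨s, hs⟩ := IsLocalization.exist_integer_multiples z.asIdeal.primeCompl Finset.univ y.1
      choose y₁ hy₁ using fun i => hs i (Finset.mem_univ i)
      have heq : ∀ p : Fin r × Fin r, ∃ t : z.asIdeal.primeCompl,
          (t : B) * (f p.2 ^ k * y₁ p.1) = (t : B) * (a p.1 p.2 * y₁ p.2) := fun p => by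
        refine IsLocalization.exists_of_eq (S := R) ?_
        simp only [map_mul, map_pow, hy₁, Algebra.smul_def]
        linear_combination (algebraMap B R (s : B)) * y.2 p.1 p.2
      choose t ht using heq
      let t₀ : z.asIdeal.primeCompl := ∏ p, t p
      refine ⟨(t₀ : B) * s, z.asIdeal.primeCompl.mul_mem t₀.2 s.2, ⟨fun i => (t₀ : B) * y₁ i, fun i l => ?_⟩,
        Subtype.ext (funext fun i => ?_)⟩
      · have h1 : (t₀ : B) = ((∏ p ∈ Finset.univ.erase (i, l), t p : z.asIdeal.primeCompl) : B) * (t (i, l) : B) := by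
          rw [← Submonoid.coe_mul, Finset.prod_erase_mul _ _ (Finset.mem_univ _)]
        rw [h1]
        linear_combination ((∏ p ∈ Finset.univ.erase (i, l), t p : z.asIdeal.primeCompl) : B) * ht (i, l)
      · show ι ((t₀ : B) * s) * y.1 i = ι ((t₀ : B) * y₁ i)
        rw [map_mul, map_mul, hy₁ i, Algebra.smul_def, mul_assoc]
    -- free on the punctured spectrum of the local ring
    obtain ⟨e, hgen, hfree⟩ := exists_generator_of_parafactorial (h z hZ) MR
      (sections_closed _ _ _) fun q hq => by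
      let w : PrimeSpectrum B := PrimeSpectrum.comap ι q
      have hwz : w.asIdeal ≤ z.asIdeal := fun x hx => by
        by_contra hxz
        exact q.2.ne_top (Ideal.eq_top_of_isUnit_mem _ hx
          (IsLocalization.map_units R (⟨x, hxz⟩ : z.asIdeal.primeCompl)))
      have hlt : w.asIdeal < z.asIdeal := lt_of_le_of_ne hwz fun e => hq (by
        refine le_antisymm (le_maximalIdeal q.2.ne_top) ?_
        rw [← Localization.AtPrime.map_eq_maximalIdeal, Ideal.map_le_iff_le_comap]
        exact e.ge)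
      obtain ⟨b, hbz, hbw⟩ := SetLike.exists_of_lt hlt
      have hN : w.asIdeal.height < N := by
        have h1 : w.asIdeal.height + 1 ≤ z.asIdeal.height := Ideal.height_add_one_le_of_lt_of_isPrime hlt
        have h3 : w.asIdeal.height + 1 < (N : ℕ∞) + 1 := lt_of_le_of_lt h1 (by exact_mod_cast hz)
        exact (ENat.add_lt_add_iff_right ENat.one_ne_top).1 h3
      obtain ⟨g, hg, e, he⟩ := ih w hN
      have he' := he.mul_right b
      refine ⟨ι (g * b), (IsLocalization.AtPrime.to_map_mem_maximal_iff R z.asIdeal _).2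
        (Ideal.mul_mem_left _ _ hbz), fun hc => (w.2.mem_or_mem hc).elim hg hbw, toR e, ⟨fun x hx => ?_, fun y => ?_⟩⟩
      · obtain ⟨⟨d, s⟩, hxs⟩ := IsLocalization.surj z.asIdeal.primeCompl x
        have h1 : ∀ i, ι (d * e.1 i) = ι 0 := fun i => by
          have h2 : x * ι (e.1 i) = 0 := congrFun (congrArg Subtype.val hx) i
          rw [map_mul, map_zero, ← hxs]
          linear_combination (ι (s : B)) * h2
        choose t ht using fun i => IsLocalization.exists_of_eq (M := z.asIdeal.primeCompl) (S := R) (h1 i)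
        have h3 : (((∏ i, t i : z.asIdeal.primeCompl) : B) * d) • e = 0 := Subtype.ext (funext fun i => by
          show ((∏ i, t i : z.asIdeal.primeCompl) : B) * d * e.1 i = 0
          rw [← Finset.prod_erase_mul _ _ (Finset.mem_univ i), Submonoid.coe_mul]
          linear_combination ((∏ l ∈ Finset.univ.erase i, t l : z.asIdeal.primeCompl) : B) * ht i)
        obtain ⟨n, hn⟩ := he'.inj _ h3
        refine ⟨n, ?_⟩
        have hn' : (g * b) ^ n * (((∏ i, t i : z.asIdeal.primeCompl) : B) * d) = 0 := hn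
        have h4 := congrArg ι hn'
        rw [map_mul, map_mul, map_zero, map_pow, ← hxs] at h4
        have hu : IsUnit (ι ((∏ i, t i : z.asIdeal.primeCompl) : B) * ι (s : B)) :=
          (IsLocalization.map_units R _).mul (IsLocalization.map_units R _)
        exact hu.mul_left_eq_zero.1 (by rw [smul_eq_mul, ← h4]; ring)
      · obtain ⟨s, hs, y₀, hy₀⟩ := hlift y
        obtain ⟨n, d, hd⟩ := he'.surj y₀
        obtain ⟨v, hv⟩ := (IsLocalization.map_units R (⟨s, hs⟩ : z.asIdeal.primeCompl)).exists_left_inv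
        refine ⟨n, v * ι d, Subtype.ext (funext fun i => ?_)⟩
        have h1 : d * e.1 i = (g * b) ^ n * y₀.1 i := congrFun (congrArg Subtype.val hd) i
        have h2 : ι s * y.1 i = ι (y₀.1 i) := congrFun (congrArg Subtype.val hy₀) i
        have h1' := congrArg ι h1
        simp only [map_mul, map_pow] at h1' hv
        show v * ι d * ι (e.1 i) = ι (g * b) ^ n * y.1 i
        rw [map_mul]
        linear_combination v * h1' - v * (ι g * ι b) ^ n * h2 + (ι g * ι b) ^ n * y.1 i * hv
    -- clear denominators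
    obtain ⟨s, hs, e₁, he₁⟩ := hlift e
    have hsu : IsUnit (ι s) := IsLocalization.map_units R (⟨s, hs⟩ : z.asIdeal.primeCompl)
    have hg₁ : ∀ y : M, ∃ t ∈ z.asIdeal.primeCompl, ∃ d : B, t • y = d • e₁ := by
      intro y
      obtain ⟨x, hx⟩ := hgen (toR y)
      obtain ⟨⟨d, u⟩, hxu⟩ := IsLocalization.surj z.asIdeal.primeCompl x
      have h1 : ∀ i, ι (s * u * y.1 i) = ι (d * e₁.1 i) := fun i => by
        have h2 : ι (y.1 i) = x * e.1 i := congrFun (congrArg Subtype.val hx) i
        have h3 : ι s * e.1 i = ι (e₁.1 i) := congrFun (congrArg Subtype.val he₁) i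
        rw [map_mul, map_mul, map_mul, h2, ← hxu]
        linear_combination (ι (u : B) * x) * h3
      choose t ht using fun i => IsLocalization.exists_of_eq (M := z.asIdeal.primeCompl) (S := R) (h1 i)
      refine ⟨((∏ i, t i : z.asIdeal.primeCompl) : B) * (s * u),
        z.asIdeal.primeCompl.mul_mem (∏ i, t i).2 (z.asIdeal.primeCompl.mul_mem hs u.2),
        ((∏ i, t i : z.asIdeal.primeCompl) : B) * d, Subtype.ext (funext fun i => ?_)⟩
      show ((∏ i, t i : z.asIdeal.primeCompl) : B) * (s * u) * y.1 i =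
        ((∏ i, t i : z.asIdeal.primeCompl) : B) * d * e₁.1 i
      rw [← Finset.prod_erase_mul _ _ (Finset.mem_univ i), Submonoid.coe_mul]
      linear_combination ((∏ l ∈ Finset.univ.erase i, t l : z.asIdeal.primeCompl) : B) * ht i
    have hg₂ : ∀ d : B, d • e₁ = 0 → ∃ t ∈ z.asIdeal.primeCompl, t * d = 0 := fun d hd => by
      have h1 : ι d * ι s = 0 := hfree _ (Subtype.ext (funext fun i => by
        have h2 : d * e₁.1 i = 0 := congrFun (congrArg Subtype.val hd) i
        have h3 : ι s * e.1 i = ι (e₁.1 i) := congrFun (congrArg Subtype.val he₁) i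
        show ι d * ι s * e.1 i = 0
        rw [mul_assoc, h3, ← map_mul, h2, map_zero]))
      obtain ⟨t, ht⟩ := (IsLocalization.map_eq_zero_iff z.asIdeal.primeCompl R d).1 (hsu.mul_left_eq_zero.1 h1)
      exact ⟨t, t.2, ht⟩
    obtain ⟨G, hG⟩ := (IsNoetherian.noetherian (⊤ : Submodule B M))
    obtain ⟨D, hD⟩ := IsNoetherian.noetherian (LinearMap.ker (LinearMap.toSpanSingleton B M e₁))
    choose t₁ ht₁ d₁ hd₁ using hg₁
    choose t₂ ht₂ hd₂ using fun d : (D : Set B) => hg₂ d.1 (by
      have := hD ▸ Submodule.subset_span d.2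
      exact this)
    let g := (∏ y ∈ G, t₁ y) * ∏ d ∈ D.attach, t₂ ⟨d.1, d.2⟩
    refine ⟨g, z.asIdeal.primeCompl.mul_mem (prod_mem fun y _ => ht₁ y) (prod_mem fun d _ => ht₂ _), e₁,
      ⟨fun d hd => ⟨1, ?_⟩, fun y => ⟨1, ?_⟩⟩⟩
    · have hd' : d ∈ Submodule.span B (D : Set B) := hD.ge hd
      rw [pow_one]
      refine (Submodule.span_le (p := LinearMap.ker (LinearMap.toSpanSingleton B B g))).2 (fun w hw => ?_) hd'
        |> fun hker => by
          have h5 : d * g = 0 := hker
          rw [smul_eq_mul, mul_comm, h5]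
      show w * g = 0
      obtain ⟨q, hq⟩ := Finset.dvd_prod_of_mem (fun d : {x // x ∈ D} => t₂ ⟨d.1, d.2⟩) (Finset.mem_attach D ⟨w, hw⟩)
      simp only [g]
      rw [hq]
      linear_combination ((∏ y ∈ G, t₁ y) * q) * hd₂ ⟨w, hw⟩
    · have hy : y ∈ Submodule.span B (G : Set M) := hG.ge trivial
      have hp := (Submodule.span_le (p := (Submodule.span B {e₁}).comap (g • LinearMap.id : M →ₗ[B] M))).2
        (fun w hw => ?_) hy
      · obtain ⟨x, hx⟩ := Submodule.mem_span_singleton.1 hp
        exact ⟨x, by rw [pow_one]; exact hx⟩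
      obtain ⟨q, hq⟩ := Finset.dvd_prod_of_mem t₁ (hw : w ∈ G)
      refine Submodule.mem_span_singleton.2 ⟨q * (∏ d ∈ D.attach, t₂ ⟨d.1, d.2⟩) * d₁ w, ?_⟩
      show _ = g • w
      rw [mul_smul, ← hd₁, smul_smul]
      congr 1
      simp only [g]
      rw [hq]
      ring

/-- On a parafactorial ring all transition data are trivial. -/
theorem triv_of_parafactorial_global {E : Type u} [CommRing E] [IsNoetherianRing E] [IsLocalRing E]
    (hE : ParaF.IsParafactorialLocalRing E) {r : ℕ} (f : Fin r → E) (a : Fin r → Fin r → E) (k : ℕ)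
    (hf : ∀ j, f j ∈ maximalIdeal E)
    (hcov : ∀ q : PrimeSpectrum E, q.asIdeal ≠ maximalIdeal E → ∃ j, f j ∉ q.asIdeal)
    (hcoh : Coh f a k) : Triv f a k := by
  obtain ⟨K, hK⟩ := hcoh.cocycle
  let e₀ : Fin r → sections f a k := fun j => ⟨fun i => f j ^ K * a i j, fun i l => by linear_combination hK i j l⟩
  obtain ⟨e, hgen, -⟩ := exists_generator_of_parafactorial hE (sections f a k) (sections_closed _ _ _) fun q hq => by
    obtain ⟨j, hj⟩ := hcov q hq
    refine ⟨f j, hf j, hj, e₀ j, ⟨fun d hd => ⟨K + k, ?_⟩, fun y => ⟨K + k, y.1 j, Subtype.ext (funext fun i => ?_)⟩⟩⟩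
    · have h1 : d * (f j ^ K * a j j) = 0 := congrFun (congrArg Subtype.val hd) j
      rw [hcoh.diag] at h1
      rw [smul_eq_mul, pow_add]
      linear_combination h1
    · show y.1 j * (f j ^ K * a i j) = f j ^ (K + k) * y.1 i
      rw [pow_add]
      linear_combination -(f j ^ K) * y.2 i j
  refine ⟨e.1, 0, fun i l => by rw [pow_zero, one_mul, sub_eq_zero]; exact e.2 i l, fun j => ?_⟩
  obtain ⟨d, hd⟩ := hgen (e₀ j)
  refine ⟨K + k, d, ?_⟩
  have h1 : f j ^ K * a j j = d * e.1 j := congrFun (congrArg Subtype.val hd) j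
  rw [hcoh.diag] at h1
  linear_combination -h1

end Groth.Agent.ParaF26
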