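import Groth.Agent.ParaF26.Spread
import Groth.Agent.Div89.PolyHeight
import Groth.Agent.EGA4Alg4.Depth

/-!
Factoriality through the punctured spectrum.
-/

set_option autoImplicit false
set_option linter.style.haveILetI false
set_option backward.isDefEq.respectTransparency.types false

universe u

open CategoryTheory AlgebraicGeometry Opposite TopologicalSpace IsLocalRing

noncomputable section

namespace Groth.Agent.ParaF26

open Var76.LineBundle Var76.ZeroScheme

variable {A : Type u} [CommRing A] [IsNoetherianRing A] [IsLocalRing A]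

theorem exists_mem_regular (h : (2 : ℕ∞) ≤ LocCoh.depth A A) :
    ∃ a ∈ maximalIdeal A, IsSMulRegular A a := by
  by_contra hno
  have h0 : LocCoh.depth A A = 0 := by
    rw [EGA4Alg4.depth_eq_zero_iff, EGA4Alg4.maximalIdeal_mem_assoc_iff]
    exact fun x hx hreg => hno ⟨x, hx, hreg⟩
  rw [h0] at h
  exact absurd h (by decide)

/-- Beyond a regular element there is an element regular modulo it. -/
theorem exists_regular_mod (h : (2 : ℕ∞) ≤ LocCoh.depth A A) {a : A} (ha : a ∈ maximalIdeal A)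
    (hreg : IsSMulRegular A a) : ∃ c ∈ maximalIdeal A, IsSMulRegular (QuotSMulTop a A) c := by
  haveI : Nontrivial (QuotSMulTop a A) := nontrivial_quotSMulTop_of_mem_maximalIdeal A ha
  by_contra hno
  have h0 : LocCoh.depth A (QuotSMulTop a A) = 0 := by
    rw [EGA4Alg4.depth_eq_zero_iff, EGA4Alg4.maximalIdeal_mem_assoc_iff]
    exact fun x hx hreg => hno ⟨x, hx, hreg⟩
  rw [← EGA4Alg4.depth_quotSMulTop_add_one ha hreg, h0] at h
  exact absurd h (by decide)

theorem exists_pow_le (J : Ideal A)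
    (h : ∀ q : PrimeSpectrum A, q.asIdeal ≠ maximalIdeal A → ¬ J ≤ q.asIdeal) :
    ∃ n : ℕ, maximalIdeal A ^ n ≤ J := by
  refine Ideal.exists_pow_le_of_le_radical_of_fg ?_ (maximalIdeal A).fg_of_isNoetherianRing
  rw [Ideal.radical_eq_sInf]
  refine le_sInf fun q hq => ?_
  obtain ⟨hJq, hq'⟩ := hq
  exact (not_not.1 fun hne => h ⟨q, hq'⟩ hne hJq).ge

theorem isReduced_of_punctured (hd : (2 : ℕ∞) ≤ LocCoh.depth A A)
    (h : ∀ q : PrimeSpectrum A, q.asIdeal ≠ maximalIdeal A → IsDomain (Localization.AtPrime q.asIdeal)) :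
    IsReduced A := by
  obtain ⟨a, ha, hreg⟩ := exists_mem_regular hd
  refine ⟨fun x hx => ?_⟩
  let J : Ideal A := LinearMap.ker (LinearMap.toSpanSingleton A A x)
  have hJ : ∀ q : PrimeSpectrum A, q.asIdeal ≠ maximalIdeal A → ¬ J ≤ q.asIdeal := by
    intro q hq hle
    haveI := h q hq
    have h0 : algebraMap A (Localization.AtPrime q.asIdeal) x = 0 :=
      (hx.map (algebraMap A (Localization.AtPrime q.asIdeal))).eq_zero
    obtain ⟨s, hs⟩ := (IsLocalization.map_eq_zero_iff q.asIdeal.primeCompl _ x).1 h0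
    exact s.2 (hle (show (s : A) * x = 0 from hs))
  obtain ⟨n, hn⟩ := exists_pow_le J hJ
  have h1 : a ^ n * x = 0 := hn (Ideal.pow_mem_pow ha n)
  exact (hreg.pow n) (show a ^ n • x = a ^ n • 0 by rw [smul_zero]; exact h1)

theorem isDomain_and_normal (hd : (2 : ℕ∞) ≤ LocCoh.depth A A)
    (h : ∀ q : PrimeSpectrum A, q.asIdeal ≠ maximalIdeal A →
      IsDomain (Localization.AtPrime q.asIdeal) ∧ UniqueFactorizationMonoid (Localization.AtPrime q.asIdeal)) :
    IsDomain A ∧ IsIntegrallyClosed A := by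
  haveI := isReduced_of_punctured hd fun q hq => (h q hq).1
  have hm : ∀ (P : Ideal A) [P.IsPrime], P = maximalIdeal A →
      LocCoh.depth (Localization.AtPrime P) (Localization.AtPrime P) = LocCoh.depth A A := by
    rintro P _ rfl
    exact depth_atMaximal
  refine CAlg1.isDomain_and_isIntegrallyClosed_local A (fun P _ hP => ?_) (fun P _ hP => ?_)
  · have hne : P ≠ maximalIdeal A := by
      rintro rfl
      have h1 := EGA4Alg4.depth_le_supportDim (A := A) (M := A)
      rw [Module.supportDim_self_eq_ringKrullDim, ← maximalIdeal_height_eq_ringKrullDim] at h1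
      exact absurd (hd.trans ((WithBot.coe_le_coe.1 h1).trans hP)) (by decide)
    obtain ⟨_, _⟩ := h ⟨P, inferInstance⟩ hne
    haveI : IsNoetherianRing (Localization.AtPrime P) :=
      IsLocalization.isNoetherianRing P.primeCompl _ inferInstance
    haveI : IsPrincipalIdealRing (Localization.AtPrime P) := IsPrincipalIdealRing.of_prime fun Q hQ => by
      by_cases h0 : Q = ⊥
      · subst h0; exact bot_isPrincipal
      obtain ⟨π, hπm, hπ⟩ := hQ.exists_mem_prime_of_ne_bot h0
      haveI : (Ideal.span {π}).IsPrime := (Ideal.span_singleton_prime hπ.ne_zero).2 hπ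
      refine ⟨π, ?_⟩
      refine (eq_of_le_of_not_lt ((Ideal.span_singleton_le_iff_mem _).2 hπm) fun hlt => ?_).symm
      have hQ' : Q.height ≤ 1 := by
        refine le_trans (Ideal.height_mono (IsLocalRing.le_maximalIdeal hQ.ne_top)) ?_
        rw [← WithBot.coe_le_coe, maximalIdeal_height_eq_ringKrullDim,
          IsLocalization.AtPrime.ringKrullDim_eq_height P]
        exact WithBot.coe_le_coe.2 hP
      have h1 : (⊥ : Ideal (Localization.AtPrime P)).height < (Ideal.span {π}).height :=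
        Ideal.height_strict_mono_of_isPrime (bot_lt_iff_ne_bot.2 (by simpa using hπ.ne_zero))
      have h2 := Ideal.height_strict_mono_of_isPrime (J := Q) hlt
      exact absurd (h2.trans_le hQ') (not_lt.2 (Order.one_le_iff_ne_zero.2 fun h => by simp [h] at h1))
    infer_instance
  · by_cases hPm : P = maximalIdeal A
    · exact hd.trans (hm P hPm).ge
    · obtain ⟨_, _⟩ := h ⟨P, inferInstance⟩ hPm
      haveI : IsNoetherianRing (Localization.AtPrime P) :=
        IsLocalization.isNoetherianRing P.primeCompl _ inferInstance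
      refine CAlg1.two_le_depth_of_isIntegrallyClosed _ ?_
      rw [IsLocalization.AtPrime.ringKrullDim_eq_height P]
      exact WithBot.coe_le_coe.2 hP

theorem isPrincipal_of_locallyPrincipal [IsDomain A] (hd : (2 : ℕ∞) ≤ LocCoh.depth A A)
    (hpic : ParaF.PicTrivial (FEt.puncturedSpec A : Scheme.{u}))
    (P : Ideal A) [P.IsPrime] (hP : P.height = 1)
    (hloc : ∀ q : PrimeSpectrum A, q.asIdeal ≠ maximalIdeal A →
      ∃ π, P.map (algebraMap A (Localization.AtPrime q.asIdeal)) = Ideal.span {π}) : Submodule.IsPrincipal P := by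
  let T : ModuleCat.{u} (CommRingCat.of A) := ModuleCat.of A P
  have hP0 : P ≠ ⊥ := fun h0 => by rw [h0, Ideal.height_bot] at hP; exact zero_ne_one hP
  have hgen : ∀ q : PrimeSpectrum A, q.asIdeal ≠ maximalIdeal A →
      ∃ (g : A) (t : P), g ∉ q.asIdeal ∧ BijAway (LinearMap.toSpanSingleton A P t) g := by
    intro q hq
    let B := Localization.AtPrime q.asIdeal
    obtain ⟨t, ht0, ht⟩ : ∃ t : P, algebraMap A B t.1 ≠ 0 ∧
        P.map (algebraMap A B) = Ideal.span {algebraMap A B t.1} := by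
      haveI : IsNoetherianRing B := IsLocalization.isNoetherianRing q.asIdeal.primeCompl _ inferInstance
      obtain ⟨π, hπ⟩ := hloc q hq
      obtain ⟨⟨⟨r, hr⟩, s⟩, hrs⟩ := (IsLocalization.mem_map_algebraMap_iff q.asIdeal.primeCompl B).1
        (hπ.ge (Ideal.mem_span_singleton_self π))
      have he : P.map (algebraMap A B) = Ideal.span {algebraMap A B r} := by
        rw [hπ, ← hrs, Ideal.span_singleton_mul_right_unit (IsLocalization.map_units B s)]
      refine ⟨⟨r, hr⟩, fun h0 => ?_, he⟩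
      obtain ⟨x, hxP, hx⟩ := Submodule.exists_mem_ne_zero_of_ne_bot hP0
      have hx' := he.le (Ideal.mem_map_of_mem _ hxP)
      rw [h0, Ideal.span_singleton_zero] at hx'
      exact hx ((IsLocalization.injective B q.asIdeal.primeCompl_le_nonZeroDivisors)
        (((Submodule.mem_bot B).1 hx').trans (map_zero _).symm))
    let PB : Submodule B B := P.map (algebraMap A B)
    let f' : P →ₗ[A] PB :=
      { toFun := fun x => ⟨algebraMap A B x.1, Ideal.mem_map_of_mem _ x.2⟩
        map_add' := fun x y => Subtype.ext (map_add (algebraMap A B) x.1 y.1)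
        map_smul' := fun a x => Subtype.ext (by
          show algebraMap A B (a * x.1) = a • algebraMap A B x.1
          rw [map_mul, Algebra.smul_def]) }
    haveI : IsLocalizedModule q.asIdeal.primeCompl f' := by
      refine ⟨fun u => ?_, fun y => ?_, fun {x₁ x₂} he => ?_⟩
      · refine (Module.End.isUnit_iff _).2 ?_
        have hu : IsUnit (algebraMap A B u.1) := IsLocalization.map_units B u
        have e : (⇑(algebraMap A (Module.End A PB) u.1) : PB → PB) = fun x => algebraMap A B u.1 • x :=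
          funext fun x => (algebraMap_smul B u.1 x).symm
        rw [e]
        exact hu.smul_bijective
      · obtain ⟨⟨x, s⟩, hx⟩ := (IsLocalization.mem_map_algebraMap_iff q.asIdeal.primeCompl B).1 y.2
        refine ⟨⟨x, s⟩, Subtype.ext ?_⟩
        show (s : A) • y.1 = algebraMap A B x.1
        rw [Algebra.smul_def, mul_comm]
        exact hx
      · exact ⟨1, by
          rw [one_smul, one_smul]
          exact Subtype.ext (IsLocalization.injective B q.asIdeal.primeCompl_le_nonZeroDivisors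
            (congrArg Subtype.val he))⟩
    haveI : IsLocalizedModule q.asIdeal.primeCompl (Algebra.linearMap A B) :=
      (isLocalizedModule_iff_isLocalization' q.asIdeal.primeCompl B).2 inferInstance
    have hB : BijAway (LinearMap.toSpanSingleton B PB ⟨_, Ideal.mem_map_of_mem _ t.2⟩) (algebraMap A B 1) := by
      refine ⟨fun x hx => ⟨0, ?_⟩, fun y => ?_⟩
      · rw [pow_zero, one_smul]
        exact (mul_eq_zero.1 (show x * algebraMap A B t.1 = 0 from congrArg Subtype.val hx)).resolve_right ht0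
      · obtain ⟨x, hx⟩ := Ideal.mem_span_singleton'.1 (ht.le y.2)
        exact ⟨0, x, by rw [pow_zero, one_smul]; exact Subtype.ext hx⟩
    obtain ⟨g, hg, hb⟩ := BijAway.spread q.asIdeal.primeCompl (Algebra.linearMap A B) f'
      (LinearMap.toSpanSingleton A P t) (LinearMap.toSpanSingleton B PB ⟨_, Ideal.mem_map_of_mem _ t.2⟩)
      (fun r => Subtype.ext (by
        show algebraMap A B r * algebraMap A B t.1 = algebraMap A B (r * t.1)
        rw [map_mul])) hB
    exact ⟨g, t, hg, by simpa using hb⟩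
  have hfr : FramedOn (tilde T) (FEt.puncturedSpec A) := framedOn_tilde fun q hq => by
    have hq' : q.asIdeal ≠ maximalIdeal A := fun e => hq (PrimeSpectrum.ext e)
    obtain ⟨g, t, hg, hb⟩ := hgen q hq'
    obtain ⟨c, hcm, hcq⟩ : ∃ c, c ∈ maximalIdeal A ∧ c ∉ q.asIdeal :=
      SetLike.not_le_iff_exists.1 fun hle => hq' (le_antisymm (le_maximalIdeal q.2.ne_top) hle)
    exact ⟨g * c, t, fun hh => (q.2.mem_or_mem hh).elim hg hcq, fun x hx (hx' : x = closedPoint A) =>
      hx (hx' ▸ Ideal.mul_mem_left _ g hcm), hb.mul_right c⟩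
  obtain ⟨triv⟩ := hpic _ (isInvertible_restrict_of_framedOn' hfr)
  obtain ⟨ε, hε⟩ := exists_frame_of_restrict_iso triv
  have hbij : Function.Bijective ((Spec (CommRingCat.of A)).presheaf.map
      (homOfLE (le_top : FEt.puncturedSpec A ≤ ⊤)).op) :=
    ((S2824.result A).1 (parafactorial_iff.2 ⟨hd, hpic⟩)).1
  obtain ⟨φ, hφ⟩ := exists_form (R := CommRingCat.of A) hbij hε
  let φ' : P →ₗ[A] A := φ
  obtain ⟨N, hN⟩ := exists_pow_le (LinearMap.range φ') (by
    intro q hq hle
    obtain ⟨g, hgm, hgq⟩ : ∃ g, g ∈ maximalIdeal A ∧ g ∉ q.asIdeal :=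
      SetLike.not_le_iff_exists.1 fun hle' => hq (le_antisymm (le_maximalIdeal q.2.ne_top) hle')
    obtain ⟨k, x, hx⟩ := (hφ g (fun y hy (hy' : y = closedPoint A) => hy (hy' ▸ hgm))).surj (1 : A)
    exact hgq (q.2.mem_of_pow_mem k (hle ⟨x, hx.trans (by rw [smul_eq_mul, mul_one])⟩)))
  obtain ⟨a₁, ha₁, ha₁P⟩ : ∃ a, a ∈ maximalIdeal A ∧ a ∉ P :=
    SetLike.not_le_iff_exists.1 fun hle => by
      have hPm : P = maximalIdeal A := le_antisymm (le_maximalIdeal ‹P.IsPrime›.ne_top) hle
      have h1 := EGA4Alg4.depth_le_supportDim (A := A) (M := A)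
      rw [Module.supportDim_self_eq_ringKrullDim, ← maximalIdeal_height_eq_ringKrullDim, ← hPm, hP] at h1
      exact absurd (hd.trans (WithBot.coe_le_coe.1 h1)) (by decide)
  let a := a₁ ^ (N + 1)
  have ham : a ∈ maximalIdeal A := Ideal.pow_mem_of_mem _ ha₁ _ (Nat.succ_pos _)
  have haP : a ∉ P := fun hh => ha₁P (‹P.IsPrime›.mem_of_pow_mem _ hh)
  have ha0 : a ≠ 0 := fun h0 => haP (h0 ▸ P.zero_mem)
  obtain ⟨c, hcm, hcreg⟩ := exists_regular_mod hd ham (IsSMulRegular.of_ne_zero ha0)
  let b := c ^ (N + 1)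
  obtain ⟨x, hx⟩ := hN (show a ∈ maximalIdeal A ^ N by
    exact Ideal.pow_le_pow_right (Nat.le_succ N) (Ideal.pow_mem_pow ha₁ (N + 1)))
  obtain ⟨y, hy⟩ := hN (show b ∈ maximalIdeal A ^ N by
    exact Ideal.pow_le_pow_right (Nat.le_succ N) (Ideal.pow_mem_pow hcm (N + 1)))
  -- both sides have the same image under the injective form
  have hinj : Function.Injective φ' := by
    refine (injective_iff_map_eq_zero _).2 fun z hz => ?_
    obtain ⟨k, hk⟩ := (hφ a (fun w hw (hw' : w = closedPoint A) => hw (hw' ▸ ham))).inj z hz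
    exact (smul_eq_zero.1 hk).resolve_left (pow_ne_zero _ ha0)
  have hxy : b • x = a • y := hinj (by rw [map_smul, map_smul, hx, hy, smul_eq_mul, smul_eq_mul, mul_comm])
  have hdiv : ∃ π, x.1 = a * π := by
    have h1 : b • (Submodule.Quotient.mk x.1 : QuotSMulTop a A) = 0 := by
      rw [← Submodule.Quotient.mk_smul, Submodule.Quotient.mk_eq_zero]
      exact ⟨y.1, trivial, (congrArg Subtype.val hxy).symm⟩
    have h2 := (hcreg.pow (N + 1)) (show b • (Submodule.Quotient.mk x.1 : QuotSMulTop a A) = b • 0 by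
      rw [h1, smul_zero])
    rw [Submodule.Quotient.mk_eq_zero] at h2
    obtain ⟨π, -, hπ⟩ := h2
    exact ⟨π, hπ.symm⟩
  obtain ⟨π, hπ⟩ := hdiv
  have hπP : π ∈ P := (‹P.IsPrime›.mem_or_mem (hπ ▸ x.2)).resolve_left haP
  have hone : φ' ⟨π, hπP⟩ = 1 := by
    refine mul_left_cancel₀ ha0 ?_
    have e : x = a • (⟨π, hπP⟩ : P) := Subtype.ext hπ
    have e2 := hx
    rw [e, map_smul, smul_eq_mul] at e2
    rw [e2, mul_one]
  refine ⟨π, le_antisymm (fun z hz => ?_) ((Submodule.span_singleton_le_iff_mem _ _).2 hπP)⟩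
  rw [Submodule.mem_span_singleton]
  refine ⟨φ' ⟨z, hz⟩, congrArg Subtype.val (hinj (a₁ := φ' ⟨z, hz⟩ • (⟨π, hπP⟩ : P)) (a₂ := ⟨z, hz⟩) ?_)⟩
  rw [map_smul, hone, smul_eq_mul, mul_one]

theorem isPrincipal_of_height_one [IsDomain A] (hd : (2 : ℕ∞) ≤ LocCoh.depth A A)
    (h : ∀ q : PrimeSpectrum A, q.asIdeal ≠ maximalIdeal A →
      IsDomain (Localization.AtPrime q.asIdeal) ∧ UniqueFactorizationMonoid (Localization.AtPrime q.asIdeal))
    (hpic : ParaF.PicTrivial (FEt.puncturedSpec A : Scheme.{u}))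
    (P : Ideal A) [P.IsPrime] (hP : P.height = 1) : Submodule.IsPrincipal P := by
  refine isPrincipal_of_locallyPrincipal hd hpic P hP fun q hq => ?_
  obtain ⟨_, _⟩ := h q hq
  let B := Localization.AtPrime q.asIdeal
  haveI : IsNoetherianRing B := IsLocalization.isNoetherianRing q.asIdeal.primeCompl _ inferInstance
  show ∃ π, P.map (algebraMap A B) = Ideal.span {π}
  by_cases hle : P ≤ q.asIdeal
  · have hd' : Disjoint (q.asIdeal.primeCompl : Set A) (P : Set A) :=
      Set.disjoint_left.2 fun r hr hrP => hr (hle hrP)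
    have hQ := IsLocalization.isPrime_of_isPrime_disjoint q.asIdeal.primeCompl B P inferInstance hd'
    have hh : (P.map (algebraMap A B)).height = 1 := by
      rw [← IsLocalization.height_under q.asIdeal.primeCompl (P.map (algebraMap A B))]
      rw [IsLocalization.under_map_of_isPrime_disjoint q.asIdeal.primeCompl B inferInstance hd', hP]
    obtain ⟨π, hπm, hπ⟩ := hQ.exists_mem_prime_of_ne_bot fun h0 => by
      rw [h0, Ideal.height_bot] at hh; exact zero_ne_one hh
    haveI := hQ
    haveI : (Ideal.span {π}).IsPrime := (Ideal.span_singleton_prime hπ.ne_zero).2 hπ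
    exact ⟨π, (Div89.eq_of_le_of_height_eq_one hh ((Ideal.span_singleton_le_iff_mem _).2 hπm)
      (by simpa using hπ.ne_zero)).symm⟩
  · obtain ⟨r, hrP, hrq⟩ := SetLike.not_le_iff_exists.1 hle
    refine ⟨1, ?_⟩
    rw [Ideal.span_singleton_one]
    exact Ideal.eq_top_of_isUnit_mem _ (Ideal.mem_map_of_mem _ hrP)
      (IsLocalization.map_units B (⟨r, hrq⟩ : q.asIdeal.primeCompl))

theorem ufd_of_punctured (hd : (2 : ℕ∞) ≤ LocCoh.depth A A)
    (hpic : ParaF.PicTrivial (FEt.puncturedSpec A : Scheme.{u}))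
    (h : ∀ q : PrimeSpectrum A, q.asIdeal ≠ maximalIdeal A →
      IsDomain (Localization.AtPrime q.asIdeal) ∧ UniqueFactorizationMonoid (Localization.AtPrime q.asIdeal)) :
    IsDomain A ∧ UniqueFactorizationMonoid A := by
  obtain ⟨_, -⟩ := isDomain_and_normal hd h
  refine ⟨inferInstance, UniqueFactorizationMonoid.iff_exists_prime_mem_of_isPrime.2 fun Q hQ hQp => ?_⟩
  obtain ⟨x, hxQ, hx⟩ := Submodule.exists_mem_ne_zero_of_ne_bot hQ
  obtain ⟨P, hP, hPQ⟩ := Ideal.exists_minimalPrimes_le ((Ideal.span_singleton_le_iff_mem Q).2 hxQ)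
  haveI := hP.1.1
  have h1 : P.height = 1 := le_antisymm (Ideal.height_le_one_of_isPrincipal_of_mem_minimalPrimes _ _ hP) (by
    rw [Order.one_le_iff_ne_zero, Ne, Ideal.height_eq_zero_iff]
    intro hmin
    exact hx (by simpa using le_bot_iff.1 (((hP.1.2).trans (hmin.2 ⟨Ideal.isPrime_bot, bot_le⟩ bot_le)))))
  obtain ⟨π, hπ⟩ := isPrincipal_of_height_one hd h hpic P h1
  have hπ' : P = Ideal.span {π} := hπ
  have h0 : π ≠ 0 := fun h0 => by
    rw [hπ', h0, Ideal.span_singleton_zero, Ideal.height_bot] at h1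
    exact zero_ne_one h1
  exact ⟨π, hPQ (hπ' ▸ Ideal.mem_span_singleton_self π),
    (Ideal.span_singleton_prime h0).1 (hπ' ▸ hP.1.1)⟩

end Groth.Agent.ParaF26
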