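import Groth.Agent.ParaF26.CechPunct
import Groth.Agent.ParaF26.Factorial

/-!
First cohomology of the structure sheaf of a punctured spectrum in depth three, on an arbitrary cover.
-/

set_option autoImplicit false
set_option linter.style.haveILetI false
set_option backward.isDefEq.respectTransparency.types false

universe u

open IsLocalRing

noncomputable section

namespace Groth.Agent.ParaF26

open Pure83 CechP

variable {Q : Type u} [CommRing Q] [IsNoetherianRing Q] [IsLocalRing Q]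

/-- A regular sequence of length three. -/
theorem exists_regular_three (hd : (3 : ℕ∞) ≤ LocCoh.depth Q Q) :
    ∃ x y z : Q, (x ∈ maximalIdeal Q ∧ y ∈ maximalIdeal Q ∧ z ∈ maximalIdeal Q) ∧ IsSMulRegular Q x ∧
      RegMod (Ideal.span {x}) y ∧ RegMod (Ideal.span {x, y}) z := by
  have hd2 : (2 : ℕ∞) ≤ LocCoh.depth Q Q := le_trans (by norm_num) hd
  obtain ⟨x, hx, hxr⟩ := exists_mem_regular hd2
  obtain ⟨y, hy, hyr⟩ := exists_regular_mod hd2 hx hxr
  haveI : Nontrivial (QuotSMulTop x Q) := nontrivial_quotSMulTop_of_mem_maximalIdeal Q hx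
  haveI : Nontrivial (QuotSMulTop y (QuotSMulTop x Q)) := nontrivial_quotSMulTop_of_mem_maximalIdeal (QuotSMulTop x Q) hy
  obtain ⟨z, hz, hzr⟩ : ∃ z ∈ maximalIdeal Q, IsSMulRegular (QuotSMulTop y (QuotSMulTop x Q)) z := by
    by_contra hno
    have h0 : LocCoh.depth Q (QuotSMulTop y (QuotSMulTop x Q)) = 0 := by
      rw [EGA4Alg4.depth_eq_zero_iff, EGA4Alg4.maximalIdeal_mem_assoc_iff]
      exact fun w hw hreg => hno ⟨w, hw, hreg⟩
    have h1 := EGA4Alg4.depth_quotSMulTop_add_one hy hyr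
    rw [h0, zero_add] at h1
    have h2 := EGA4Alg4.depth_quotSMulTop_add_one hx hxr
    rw [← h1] at h2
    rw [← h2] at hd
    exact absurd hd (by decide)
  refine ⟨x, y, z, ⟨hx, hy, hz⟩, hxr, fun a ha => ?_, fun a ha => ?_⟩
  · obtain ⟨c, hc⟩ := Ideal.mem_span_singleton'.1 ha
    have h1 : y • (Submodule.Quotient.mk a : QuotSMulTop x Q) = y • 0 := by
      rw [smul_zero, ← Submodule.Quotient.mk_smul, Submodule.Quotient.mk_eq_zero]
      exact ⟨c, trivial, by
        show x • c = y • a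
        rw [smul_eq_mul, smul_eq_mul, mul_comm, hc]⟩
    have h2 := hyr h1
    rw [Submodule.Quotient.mk_eq_zero] at h2
    obtain ⟨e, -, he⟩ := h2
    exact Ideal.mem_span_singleton'.2 ⟨e, by rw [← show x • e = a from he, smul_eq_mul, mul_comm]⟩
  · obtain ⟨c, d, hcd⟩ := mem_pair_iff.1 ha
    let π : Q → QuotSMulTop y (QuotSMulTop x Q) := fun w => Submodule.Quotient.mk (Submodule.Quotient.mk w)
    have hπ : ∀ w, π w = 0 ↔ w ∈ Ideal.span {x, y} := by
      intro w
      show Submodule.Quotient.mk _ = 0 ↔ _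
      rw [Submodule.Quotient.mk_eq_zero, mem_pair_iff]
      constructor
      · rintro ⟨v, -, hv⟩
        obtain ⟨v, rfl⟩ := Submodule.Quotient.mk_surjective _ v
        have hv' : (Submodule.Quotient.mk (y • v) : QuotSMulTop x Q) = Submodule.Quotient.mk w := hv
        rw [eq_comm, Submodule.Quotient.eq] at hv'
        obtain ⟨u, -, hu⟩ := hv'
        have hu' : x * u = w - y * v := hu
        exact ⟨u, v, by linear_combination hu'⟩
      · rintro ⟨u, v, hw⟩
        refine ⟨Submodule.Quotient.mk v, trivial, ?_⟩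
        show (Submodule.Quotient.mk (y • v) : QuotSMulTop x Q) = Submodule.Quotient.mk w
        rw [eq_comm, Submodule.Quotient.eq]
        exact ⟨u, trivial, by
          show x * u = w - y * v
          linear_combination hw⟩
    have h1 : z • π a = z • 0 := by
      rw [smul_zero]
      exact (hπ (z * a)).2 ha
    exact (hπ a).1 (hzr h1)

variable [IsDomain Q]

/-- Membership is local on a cover of the punctured spectrum. -/
theorem mem_loc_of_cover {ι : Type*} [Finite ι] (g : ι → Q)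
    (hcov : ∀ q : PrimeSpectrum Q, q.asIdeal ≠ maximalIdeal Q → ∃ i, g i ∉ q.asIdeal)
    {c : Q} (hc : c ∈ maximalIdeal Q) {w : FractionRing Q} (h : ∀ i, w ∈ CechP.loc (FractionRing Q) (g i * c)) :
    w ∈ CechP.loc (FractionRing Q) c := by
  haveI := Fintype.ofFinite ι
  choose k hk using fun i => exists_pow (h i)
  obtain ⟨K, hK⟩ := Finite.exists_le k
  choose a ha using fun i => hk i K (hK i)
  obtain ⟨n, hn⟩ := exists_pow_le (Ideal.span (Set.range fun i => g i ^ K)) fun q hq hle => by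
    obtain ⟨i, hi⟩ := hcov q hq
    exact hi (q.2.mem_of_pow_mem K (hle (Ideal.subset_span ⟨i, rfl⟩)))
  obtain ⟨b, hb⟩ := Ideal.mem_span_range_iff_exists_fun.1 (hn (Ideal.pow_mem_pow hc n))
  refine ⟨n + K, ∑ i, b i * a i, ?_⟩
  rw [pow_add, ← map_pow, ← hb, map_sum, map_sum, Finset.sum_mul, Finset.sum_mul]
  refine Finset.sum_congr rfl fun i _ => ?_
  have h1 := ha i
  rw [map_mul, mul_pow] at h1
  rw [map_mul, map_mul, ← h1, map_pow]
  ring

/-- `H¹` of the punctured spectrum vanishes in depth three. -/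
theorem exists_h1_punctured (hd : (3 : ℕ∞) ≤ LocCoh.depth Q Q) {ι : Type*} [Finite ι] (g : ι → Q)
    (hg : ∀ i, g i ≠ 0) (hgm : ∀ i, g i ∈ maximalIdeal Q)
    (hcov : ∀ q : PrimeSpectrum Q, q.asIdeal ≠ maximalIdeal Q → ∃ i, g i ∉ q.asIdeal)
    (a : ι → ι → FractionRing Q) (ha : ∀ i j, a i j ∈ CechP.loc (FractionRing Q) (g i * g j))
    (hcoc : ∀ i j l, a i l = a i j + a j l) :
    ∃ α : ι → FractionRing Q, (∀ i, α i ∈ CechP.loc (FractionRing Q) (g i)) ∧ ∀ i j, a i j = α i - α j := by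
  classical
  haveI := Fintype.ofFinite ι
  let R := FractionRing Q
  let φ := algebraMap Q R
  have hinj : Function.Injective φ := IsFractionRing.injective Q R
  obtain ⟨x, y, z, ⟨hxm, hym, hzm⟩, hx, hy, hz⟩ := exists_regular_three hd
  obtain ⟨S, hS⟩ := IsNoetherian.noetherian (maximalIdeal Q)
  have hne : ∀ {J : Ideal Q} {w : Q}, J ≤ maximalIdeal Q → RegMod J w → w ≠ 0 := fun {J w} hJ h h0 =>
    (maximalIdeal.isMaximal Q).ne_top ((Ideal.eq_top_iff_one _).2 (hJ (h 1 (by rw [h0, zero_mul]; exact zero_mem _))))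
  let σ := Fin 3 ⊕ {w : Q // w ∈ S.filter (fun w => w ≠ 0)}
  let e : σ → Q := Sum.elim ![x, y, z] Subtype.val
  have hem : ∀ s, e s ∈ maximalIdeal Q := by
    rintro (s | ⟨w, hw⟩)
    · fin_cases s <;> simp [e, hxm, hym, hzm]
    · exact hS ▸ Submodule.subset_span (Finset.mem_filter.1 hw).1
  have he0 : ∀ s, e s ≠ 0 := by
    rintro (s | ⟨w, hw⟩)
    · fin_cases s
      · intro h0
        exact one_ne_zero (hx (show x • (1 : Q) = x • 0 by simp [show x = 0 from h0]))
      · exact hne ((Ideal.span_singleton_le_iff_mem _).2 hxm) hy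
      · exact hne (Ideal.span_le.2 (by rintro _ (rfl | rfl); exacts [hxm, hym])) hz
    · exact (Finset.mem_filter.1 hw).2
  have hecov : ∀ q : PrimeSpectrum Q, q.asIdeal ≠ maximalIdeal Q → ∃ s, e s ∉ q.asIdeal := fun q hq => by
    by_contra! hall
    refine hq (le_antisymm (le_maximalIdeal q.2.ne_top) ?_)
    rw [← hS]
    refine Submodule.span_le.2 fun w hw => ?_
    by_cases hw0 : w = 0
    · rw [hw0]; exact zero_mem _
    · exact hall (Sum.inr ⟨w, Finset.mem_filter.2 ⟨hw, hw0⟩⟩)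
  have hu : ∀ {w : Q}, w ≠ 0 → IsUnit (φ w) := fun {w} hw =>
    (map_ne_zero_iff φ hinj).2 hw |>.isUnit
  -- a uniform exponent
  have hloc : ∀ p : ι × ι, ∃ k, φ (g p.2) ^ k * a p.1 p.2 ∈ CechP.loc R (g p.1) := fun p => by
    obtain ⟨k, q, hq⟩ := ha p.1 p.2
    refine ⟨k, k, q, ?_⟩
    rw [← hq, map_mul, mul_pow]
    ring
  choose k₀ hk₀ using hloc
  obtain ⟨M, hM⟩ := Finite.exists_le k₀
  have hMa : ∀ i l, φ (g l) ^ M * a i l ∈ CechP.loc R (g i) := fun i l => by
    have := Subalgebra.mul_mem _ (Subalgebra.pow_mem _ (Subalgebra.algebraMap_mem (CechP.loc R (g i)) (g l))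
      (M - k₀ (i, l))) (hk₀ (i, l))
    rwa [← mul_assoc, ← pow_add, Nat.sub_add_cancel (hM (i, l))] at this
  obtain ⟨n, hn⟩ := exists_pow_le (Ideal.span (Set.range fun l => g l ^ M)) fun q hq hle => by
    obtain ⟨l, hl⟩ := hcov q hq
    exact hl (q.2.mem_of_pow_mem M (hle (Ideal.subset_span ⟨l, rfl⟩)))
  choose b hb using fun s => Ideal.mem_span_range_iff_exists_fun.1 (hn (Ideal.pow_mem_pow (hem s) n))
  choose v hv using fun s => (hu (he0 s)).exists_left_inv
  let α₀ : σ → ι → R := fun s i => v s ^ n * ∑ l, φ (b s l) * (φ (g l) ^ M * a i l)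
  have hα₀ : ∀ s i, α₀ s i ∈ CechP.loc R (g i * e s) := fun s i =>
    Subalgebra.mul_mem _ (Subalgebra.pow_mem _ (loc_le_mul_left _ _ (inv_mem_loc (by rw [mul_comm]; exact hv s))) _)
      (Subalgebra.sum_mem _ fun l _ => Subalgebra.mul_mem _ (Subalgebra.algebraMap_mem _ _) (loc_le_mul _ _ (hMa i l)))
  have hdiff : ∀ s i j, α₀ s i - α₀ s j = a i j := fun s i j => by
    have h1 : ∑ l, φ (b s l) * (φ (g l) ^ M * a i l) - ∑ l, φ (b s l) * (φ (g l) ^ M * a j l) =
        φ (e s) ^ n * a i j := by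
      rw [← Finset.sum_sub_distrib, ← map_pow, ← hb s, map_sum, Finset.sum_mul]
      refine Finset.sum_congr rfl fun l _ => ?_
      rw [map_mul, map_pow, hcoc i j l]
      ring
    show v s ^ n * _ - v s ^ n * _ = _
    rw [← mul_sub, h1, ← mul_assoc, ← mul_pow, hv s, one_pow, one_mul]
  obtain ⟨i₀⟩ : Nonempty ι := by
    obtain ⟨i, -⟩ := hcov ⟨⊥, Ideal.isPrime_bot⟩ fun h => he0 (Sum.inl 0) ((Submodule.mem_bot Q).1 (h.ge hxm))
    exact ⟨i⟩
  have hδ : ∀ s t, α₀ s i₀ - α₀ t i₀ ∈ CechP.loc R (e s * e t) := fun s t => by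
    refine mem_loc_of_cover g hcov (Ideal.mul_mem_right _ _ (hem s)) fun i => ?_
    rw [show α₀ s i₀ - α₀ t i₀ = α₀ s i - α₀ t i by linear_combination hdiff s i₀ i - hdiff t i₀ i]
    refine sub_mem (loc_mono (n := 1) ⟨e t, by ring⟩ (hα₀ s i)) (loc_mono (n := 1) ⟨e s, by ring⟩ (hα₀ t i))
  obtain ⟨β, hβ, hαβ⟩ := exists_h1 hinj e (Sum.inl 0) (Sum.inl 1) (fun s => hu (he0 s)) hx hy z hz
    (Ideal.le_radical (Ideal.subset_span ⟨Sum.inl 2, rfl⟩)) (fun s t => α₀ s i₀ - α₀ t i₀) hδ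
    (fun i j l => by ring)
  refine ⟨fun i => α₀ (Sum.inl 0) i - β (Sum.inl 0), fun i => ?_, fun i j => by rw [← hdiff (Sum.inl 0) i j]; ring⟩
  refine mem_loc_of_cover e hecov (hgm i) fun s => ?_
  show α₀ (Sum.inl 0) i - β (Sum.inl 0) ∈ _
  rw [show α₀ (Sum.inl 0) i - β (Sum.inl 0) = α₀ s i - β s by
    linear_combination hdiff (Sum.inl 0) i i₀ - hdiff s i i₀ + hαβ (Sum.inl 0) s, mul_comm (e s)]
  exact sub_mem (hα₀ s i) (loc_le_mul_left _ _ (hβ s))

end Groth.Agent.ParaF26
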