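import Groth.Agent.ParaF26.CData
import Groth.Agent.ParaF26.PunctH1

/-!
Lifting trivialisations of transition data along a socle element.
-/

set_option autoImplicit false
set_option linter.style.haveILetI false
set_option backward.isDefEq.respectTransparency.types false

universe u

open IsLocalRing

noncomputable section

namespace Groth.Agent.ParaF26

section Aux

variable {L : Type*} [Field L]

theorem frac_cocycle {e₁ e₂ e₃ F G γ δ b : L} (hF : F ≠ 0) (hG : G ≠ 0) (hγ : γ ≠ 0) (hδ : δ ≠ 0)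
    (h2 : G * e₁ = b * e₃ + F * e₂) (h3 : G * γ = b * δ) :
    e₁ * (F⁻¹ * γ⁻¹) = e₂ * (G⁻¹ * γ⁻¹) + e₃ * (F⁻¹ * δ⁻¹) := by
  field_simp
  linear_combination δ * h2 - e₃ * h3

theorem frac_cancel {e F γ : L} (hF : F ≠ 0) (hγ : γ ≠ 0) : e = e * (F⁻¹ * γ⁻¹) * (F * γ) := by
  field_simp

theorem frac_indep {bil bij blj ol oj eil eij elj F G : L} (hF : F ≠ 0) (hG : G ≠ 0)
    (h2 : elj + G * ol - blj * oj = 0) (h3 : F * bij = bil * blj) (h4 : F * eij = bil * elj + G * eil) :
    (bil * ol - eil) * F⁻¹ = (bij * oj - eij) * G⁻¹ := by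
  field_simp
  linear_combination bil * h2 - oj * h3 + h4

end Aux

/-- Absorbing an exponent. -/
theorem Coh.shift {E : Type u} [CommRing E] {r : ℕ} {f : Fin r → E} {a : Fin r → Fin r → E} {k : ℕ}
    (h : Coh f a k) (P : ℕ) : Coh f (fun i j => f j ^ P * a i j) (k + P) := by
  obtain ⟨K, hK⟩ := h.cocycle
  refine ⟨fun j => by rw [h.diag, ← pow_add, add_comm], K, fun i j l => ?_⟩
  rw [pow_add]
  linear_combination (f l ^ P * f j ^ P) * hK i j l

/-- Lifting a trivialisation along a square zero principal ideal killed by a prime. -/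
theorem triv_of_socle {E : Type u} [CommRing E] [IsNoetherianRing E] [IsLocalRing E] (M : Ideal E) [M.IsPrime]
    (t : E) (ht : t ∈ M) (hann : ∀ x, t * x = 0 ↔ x ∈ M) [IsLocalRing (E ⧸ M)]
    (hd : (3 : ℕ∞) ≤ LocCoh.depth (E ⧸ M) (E ⧸ M)) {r : ℕ} (f : Fin r → E) (a : Fin r → Fin r → E) (k : ℕ)
    (hf : ∀ j, f j ∈ maximalIdeal E)
    (hcov : ∀ q : PrimeSpectrum E, q.asIdeal ≠ maximalIdeal E → ∃ j, f j ∉ q.asIdeal)
    (hcoh : Coh f a k) (h1 : Triv (Ideal.Quotient.mk (Ideal.span {t}) ∘ f)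
      (fun i j => Ideal.Quotient.mk (Ideal.span {t}) (a i j)) k) : Triv f a k := by
  classical
  obtain ⟨c₁, P, hc₁, hd₁⟩ := h1
  choose c hc using fun i => Ideal.Quotient.mk_surjective (c₁ i)
  suffices Triv f (fun i j => f j ^ P * a i j) (k + P) by
    obtain ⟨c', P', hc', hd'⟩ := this
    refine ⟨c', P' + P, fun i l => ?_, hd'⟩
    have h := hc' i l
    rw [pow_add] at h ⊢
    linear_combination h
  have hcoh' := hcoh.shift P
  have he : ∀ p : Fin r × Fin r, ∃ e, f p.2 ^ (k + P) * c p.1 - f p.2 ^ P * a p.1 p.2 * c p.2 = t * e := fun p => by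
    refine Ideal.mem_span_singleton.1 (Ideal.Quotient.eq_zero_iff_mem.1 ?_)
    have h := hc₁ p.1 p.2
    simp only [Function.comp_apply] at h
    rw [map_sub, map_mul, map_mul, map_mul, map_pow, map_pow, hc, hc, ← h, pow_add]
    ring
  choose e he using he
  obtain ⟨K, hK⟩ := hcoh'.cocycle
  -- over the residual domain
  let Q := E ⧸ M
  let R := FractionRing Q
  let π : E →+* R := (algebraMap Q R).comp (Ideal.Quotient.mk M)
  have hπ0 : ∀ x, π x = 0 ↔ x ∈ M := fun x => by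
    rw [RingHom.comp_apply, map_eq_zero_iff _ (IsFractionRing.injective Q R), Ideal.Quotient.eq_zero_iff_mem]
  have hloc : ∀ (c : Q) (x : E), π x ∈ CechP.loc R c := fun c x => Subalgebra.algebraMap_mem _ _
  have hinv : ∀ {x : E} {w : R}, π x * w = 1 → w ∈ CechP.loc R (Ideal.Quotient.mk M x) := fun h => CechP.inv_mem_loc h
  have hstar : ∀ i j l, π (f j) ≠ 0 → π (f l) ^ (k + P) * π (e (i, j)) =
      π (f l ^ P * a i l) * π (e (l, j)) + π (f j) ^ (k + P) * π (e (i, l)) := fun i j l hj => by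
    have h : f j ^ K * (f l ^ (k + P) * e (i, j) - f l ^ P * a i l * e (l, j) - f j ^ (k + P) * e (i, l)) ∈ M := by
      rw [← hann]
      linear_combination -(f j ^ K * f l ^ (k + P)) * he (i, j) + (f j ^ K * (f l ^ P * a i l)) * he (l, j) +
        (f j ^ K * f j ^ (k + P)) * he (i, l) - c j * hK i j l
    have h2 := (hπ0 _).2 h
    rw [map_mul, map_pow, mul_eq_zero] at h2
    have h3 := h2.resolve_left (pow_ne_zero _ hj)
    simp only [map_sub, map_mul, map_pow] at h3 ⊢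
    linear_combination h3
  have hcoc' : ∀ i j l, π (f j) ≠ 0 →
      π (f l) ^ (k + P) * π (f j ^ P * a i j) = π (f l ^ P * a i l) * π (f j ^ P * a l j) := fun i j l hj => by
    have h2 := congrArg π (hK i j l)
    rw [map_mul, map_pow, map_zero, mul_eq_zero] at h2
    have h3 := h2.resolve_left (pow_ne_zero _ hj)
    simp only [map_sub, map_mul, map_pow] at h3 ⊢
    linear_combination h3
  have hγeq : ∀ i l, π (f l) ^ (k + P) * π (c i) = π (f l ^ P * a i l) * π (c l) := fun i l => by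
    have h2 := congrArg π (he (i, l))
    rw [map_mul, (hπ0 t).2 ht, zero_mul, map_sub, map_mul, map_mul, map_pow, sub_eq_zero] at h2
    exact h2
  have hn : ∀ j, ∃ (n : ℕ) (d s : E), d * c j = f j ^ n + t * s := fun j => by
    obtain ⟨n, d, hd'⟩ := hd₁ j
    obtain ⟨d, rfl⟩ := Ideal.Quotient.mk_surjective d
    rw [← hc, Function.comp_apply, ← map_pow, ← map_mul, Ideal.Quotient.eq, Ideal.mem_span_singleton] at hd'
    obtain ⟨s, hs⟩ := hd'
    exact ⟨n, d, s, by linear_combination hs⟩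
  choose n d s hn using hn
  have hγd : ∀ j, π (d j) * π (c j) = π (f j) ^ n j := fun j => by
    have h2 := congrArg π (hn j)
    rwa [map_mul, map_add, map_mul, map_pow, (hπ0 t).2 ht, zero_mul, add_zero] at h2
  let σ := {j : Fin r // π (f j) ≠ 0}
  have hγ0 : ∀ j : σ, π (c j.1) ≠ 0 := fun j h0 => by
    have h2 := hγd j.1
    rw [h0, mul_zero] at h2
    exact pow_ne_zero _ j.2 h2.symm
  let g : σ → Q := fun j => Ideal.Quotient.mk M (f j.1)
  have hgm : ∀ j, g j ∈ maximalIdeal Q := fun j =>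
    haveI : IsLocalHom (Ideal.Quotient.mk M) := IsLocalHom.of_surjective _ Ideal.Quotient.mk_surjective
    map_nonunit (Ideal.Quotient.mk M) _ (hf j.1)
  have hgcov : ∀ q : PrimeSpectrum Q, q.asIdeal ≠ maximalIdeal Q → ∃ i, g i ∉ q.asIdeal := fun q hq => by
    obtain ⟨j, hj⟩ := hcov (PrimeSpectrum.comap (Ideal.Quotient.mk M) q) fun e => hq (by
      have := congrArg (Ideal.map (Ideal.Quotient.mk M)) e
      rw [PrimeSpectrum.comap_asIdeal, Ideal.map_comap_of_surjective _ Ideal.Quotient.mk_surjective,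
        IsLocalRing.map_maximalIdeal_of_surjective (R := E) (S := Q) (Ideal.Quotient.mk M) Ideal.Quotient.mk_surjective] at this
      exact this)
    refine ⟨⟨j, fun h0 => hj ?_⟩, hj⟩
    show Ideal.Quotient.mk M (f j) ∈ q.asIdeal
    rw [Ideal.Quotient.eq_zero_iff_mem.2 ((hπ0 _).1 h0)]
    exact zero_mem _
  let A : σ → σ → R := fun i j => π (e (i.1, j.1)) * ((π (f j.1) ^ (k + P))⁻¹ * (π (c i.1))⁻¹)
  have hγinv : ∀ j : σ, (π (c j.1))⁻¹ ∈ CechP.loc R (g j) := fun j => by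
    have h2 : (π (c j.1))⁻¹ = π (d j.1) * (π (f j.1))⁻¹ ^ n j.1 := by
      rw [inv_pow, eq_mul_inv_iff_mul_eq₀ (pow_ne_zero _ j.2), ← hγd, mul_comm (π (d j.1)),
        inv_mul_cancel_left₀ (hγ0 j)]
    rw [h2]
    exact Subalgebra.mul_mem _ (hloc _ _) (Subalgebra.pow_mem _ (hinv (mul_inv_cancel₀ j.2)) _)
  have hA : ∀ i j, A i j ∈ CechP.loc R (g i * g j) := fun i j =>
    Subalgebra.mul_mem _ (hloc _ _) (Subalgebra.mul_mem _
      (by rw [← inv_pow]; exact Subalgebra.pow_mem _ (CechP.loc_le_mul_left _ _ (hinv (mul_inv_cancel₀ j.2))) _)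
      (CechP.loc_le_mul _ _ (hγinv i)))
  have hAcoc : ∀ i j l, A i l = A i j + A j l := fun i j l => by
    have h2 := hstar i.1 l.1 j.1 l.2
    have h3 := hγeq i.1 j.1
    have h4 := hγ0 i
    have h5 := hγ0 j
    have hj := pow_ne_zero (k + P) j.2
    have hl := pow_ne_zero (k + P) l.2
    exact frac_cocycle hl hj h4 h5 h2 h3
  obtain ⟨α, hα, hαA⟩ := exists_h1_punctured hd g (fun j h0 => j.2 ((hπ0 _).2 (Ideal.Quotient.eq_zero_iff_mem.1 h0)))
    hgm hgcov A hA hAcoc
  let ω : σ → R := fun l => -(α l * π (c l.1))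
  have hω : ∀ i l : σ, π (e (i.1, l.1)) + π (f l.1) ^ (k + P) * ω i - π (f l.1 ^ P * a i.1 l.1) * ω l = 0 := fun i l => by
    have h2 : π (e (i.1, l.1)) = A i l * (π (f l.1) ^ (k + P) * π (c i.1)) := by
      exact frac_cancel (pow_ne_zero (k + P) l.2) (hγ0 i)
    rw [h2, hαA i l]
    simp only [ω]
    linear_combination -(α l) * hγeq i.1 l.1
  let W : Fin r → σ → R := fun i l => (π (f l.1 ^ P * a i l.1) * ω l - π (e (i, l.1))) * (π (f l.1) ^ (k + P))⁻¹
  have hW : ∀ i l j, W i l = W i j := fun i l j => by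
    have h2 := hω l j
    have h3 := hcoc' i j.1 l.1 j.2
    have h4 := hstar i j.1 l.1 j.2
    have hj := pow_ne_zero (k + P) j.2
    have hl := pow_ne_zero (k + P) l.2
    exact frac_indep hl hj h2 h3 h4
  have hd2 : (2 : ℕ∞) ≤ LocCoh.depth Q Q := le_trans (by norm_num) hd
  obtain ⟨x, y, z, ⟨hxm, hym, -⟩, hx, hy, -⟩ := exists_regular_three hd
  have hWQ : ∀ i l, ∃ q : Q, algebraMap Q R q = W i l := fun i l => by
    have hx0 : x ≠ 0 := fun h0 => one_ne_zero (hx (show x • (1 : Q) = x • 0 by simp [h0]))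
    refine CechP.exists_h0 (IsFractionRing.injective Q R) ![x, y] 0 1
      ((map_ne_zero_iff _ (IsFractionRing.injective Q R)).2 hx0).isUnit hx hy fun s => ?_
    refine mem_loc_of_cover g hgcov (by fin_cases s <;> assumption) fun j => ?_
    rw [hW i l j]
    refine CechP.loc_le_mul _ _ (Subalgebra.mul_mem _ (sub_mem (Subalgebra.mul_mem _ (hloc _ _) ?_) (hloc _ _)) ?_)
    · exact Subalgebra.neg_mem _ (Subalgebra.mul_mem _ (hα j) (hloc _ _))
    · rw [← inv_pow]
      exact Subalgebra.pow_mem _ (hinv (mul_inv_cancel₀ j.2)) _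
  -- the adjusted sections
  rcases isEmpty_or_nonempty σ with hσ | ⟨⟨l₀⟩⟩
  · exfalso
    obtain ⟨i, -⟩ := hgcov ⟨⊥, Ideal.isPrime_bot⟩ fun h =>
      one_ne_zero (hx (show x • (1 : Q) = x • 0 by simp [(Submodule.mem_bot Q).1 (h.ge hxm)]))
    exact hσ.false i
  choose q hq using fun i => hWQ i l₀
  choose w hw using fun i => Ideal.Quotient.mk_surjective (q i)
  have hπw : ∀ i, π (w i) = W i l₀ := fun i => by rw [RingHom.comp_apply, hw, hq]
  have htt : t * t = 0 := (hann t).2 ht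
  refine ⟨fun i => c i + t * w i, 1, fun i l => ?_, fun j => ⟨2 * n j, (f j ^ n j - t * (s j + d j * w j)) * d j, ?_⟩⟩
  · show f l ^ 1 * (f l ^ (k + P) * (c i + t * w i) - f l ^ P * a i l * (c l + t * w l)) = 0
    rw [show f l ^ 1 * (f l ^ (k + P) * (c i + t * w i) - f l ^ P * a i l * (c l + t * w l)) =
        t * (f l * (e (i, l) + f l ^ (k + P) * w i - f l ^ P * a i l * w l)) by
      linear_combination f l * he (i, l), hann]
    by_cases hl : π (f l) = 0
    · exact M.mul_mem_right _ ((hπ0 _).1 hl)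
    refine M.mul_mem_left _ ((hπ0 _).1 ?_)
    have hwl : π (w l) = ω ⟨l, hl⟩ := by
      rw [hπw, hW l l₀ ⟨l, hl⟩]
      have h2 := hω ⟨l, hl⟩ ⟨l, hl⟩
      have hl' := pow_ne_zero (k + P) hl
      show (π (f l ^ P * a l l) * ω ⟨l, hl⟩ - π (e (l, l))) * (π (f l) ^ (k + P))⁻¹ = ω ⟨l, hl⟩
      rw [← eq_mul_inv_iff_mul_eq₀ (inv_ne_zero hl'), inv_inv]
      linear_combination -h2
    rw [map_sub, map_add, map_mul π (f l ^ (k + P)), map_mul π (f l ^ P * a i l), map_pow, hwl, hπw,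
      hW i l₀ ⟨l, hl⟩]
    have hl' := pow_ne_zero (k + P) hl
    show π (e (i, l)) + π (f l) ^ (k + P) * ((π (f l ^ P * a i l) * ω ⟨l, hl⟩ - π (e (i, l))) * (π (f l) ^ (k + P))⁻¹) -
      π (f l ^ P * a i l) * ω ⟨l, hl⟩ = 0
    rw [mul_comm _ ((π (f l) ^ (k + P))⁻¹), mul_inv_cancel_left₀ hl']
    ring
  · show (f j ^ n j - t * (s j + d j * w j)) * d j * (c j + t * w j) = f j ^ (2 * n j)
    rw [two_mul, pow_add]
    linear_combination (f j ^ n j - t * (s j + d j * w j)) * hn j - (s j + d j * w j) ^ 2 * htt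

end Groth.Agent.ParaF26
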