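import Groth.Agent.ParaF26.GrFree
import Groth.Prelude.Def_Formal2
import Mathlib.AlgebraicGeometry.IdealSheaf.Functorial

/-!
Restriction of line bundles to a closed subscheme of the punctured spectrum.
-/

set_option autoImplicit false
set_option linter.style.haveILetI false
set_option backward.isDefEq.respectTransparency.types false

universe u

open CategoryTheory CategoryTheory.Limits AlgebraicGeometry Opposite TopologicalSpace IsLocalRing

noncomputable section

namespace Groth.Agent.ParaF26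

theorem free_of_generator {R M : Type u} [CommRing R] [AddCommGroup M] [Module R M] (g : M)
    (hsurj : ∀ m, ∃ r : R, r • g = m) (hinj : ∀ r : R, r • g = 0 → r = 0) : Module.Free R M :=
  Module.Free.of_equiv (LinearEquiv.ofBijective (LinearMap.toSpanSingleton R M g)
    ⟨(injective_iff_map_eq_zero _).2 hinj, hsurj⟩)

/-- The graded pieces of a principal ideal with regular generator are free. -/
theorem gr_free_of_regular {A : Type u} [CommRing A] {t : A} (hreg : IsSMulRegular A t) (n : ℕ) :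
    Module.Free (A ⧸ Ideal.span {t}) (↥((Ideal.span {t}) ^ n) ⧸
      ((Ideal.span {t}) • (⊤ : Submodule A ↥((Ideal.span {t}) ^ n)))) := by
  refine free_of_generator (Submodule.Quotient.mk (⟨t ^ n, by
    rw [Ideal.span_singleton_pow]; exact Ideal.mem_span_singleton_self _⟩ : ↥((Ideal.span {t}) ^ n))) (fun m => ?_) fun r hr => ?_
  · obtain ⟨⟨v, hv⟩, rfl⟩ := Submodule.Quotient.mk_surjective _ m
    have hv' := hv
    rw [Ideal.span_singleton_pow, Ideal.mem_span_singleton'] at hv'
    obtain ⟨a, ha⟩ := hv'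
    exact ⟨Ideal.Quotient.mk _ a, congrArg Submodule.Quotient.mk (Subtype.ext ha)⟩
  · obtain ⟨a, rfl⟩ := Ideal.Quotient.mk_surjective r
    have h1 := (Submodule.mem_smul_top_iff _ _ _).1 ((Submodule.Quotient.mk_eq_zero _).1 hr)
    rw [smul_eq_mul, ← pow_succ', Ideal.span_singleton_pow, Ideal.mem_span_singleton] at h1
    obtain ⟨b, hb⟩ := h1
    refine Ideal.Quotient.eq_zero_iff_mem.2 (Ideal.mem_span_singleton.2 ⟨b, (hreg.pow n) ?_⟩)
    show t ^ n • a = t ^ n • (t * b)
    have h2 : a * t ^ n = t ^ (n + 1) * b := hb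
    rw [smul_eq_mul, smul_eq_mul, mul_comm, h2, pow_succ, mul_assoc]

/-- The closed subscheme cut out on an open is the restriction of the closed immersion. -/
theorem exists_iso_comap {X Z : Scheme.{u}} (g : Z ⟶ X) [IsClosedImmersion g] (U : X.Opens) :
    ∃ e : (g.ker.comap U.ι).subscheme ≅ (g ⁻¹ᵁ U : Scheme.{u}), e.hom ≫ (g ∣_ U) = (g.ker.comap U.ι).subschemeι := by
  let e2 : pullback U.ι g.ker.subschemeι ≅ pullback U.ι g :=
    (asIso (pullback.map U.ι g U.ι g.ker.subschemeι (𝟙 _) g.toImage (𝟙 _) (by simp)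
      (by simpa using g.toImage_imageι.symm))).symm
  refine ⟨Scheme.IdealSheafData.comapIso g.ker U.ι ≪≫ e2 ≪≫
    (isPullback_morphismRestrict g U).isoPullback.symm, ?_⟩
  have h2 : e2.hom ≫ pullback.fst U.ι g = pullback.fst U.ι g.ker.subschemeι := by
    rw [← Iso.eq_inv_comp]
    simp [e2, pullback.lift_fst]
  simp [h2]

variable {A : Type u} [CommRing A] [IsLocalRing A] [IsNoetherianRing A]

/-- Restriction to `V(J)` has trivial kernel on line bundles of the punctured spectrum. -/
theorem picPullbackInjective_subschemeι {J : Ideal A} (hJ : J ≠ ⊤) [IsLocalRing (A ⧸ J)]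
    (hd : (3 : ℕ∞) ≤ LocCoh.depth (A ⧸ J) (A ⧸ J))
    (hgr : ∀ n : ℕ, Module.Free (A ⧸ J) (↥(J ^ n) ⧸ (J • (⊤ : Submodule A ↥(J ^ n))))) :
    Formal2.PicPullbackInjective
      (((Spec.map (CommRingCat.ofHom (Ideal.Quotient.mk J))).ker.comap (FEt.puncturedSpec A).ι)).subschemeι := by
  intro L hL ⟨iL⟩
  let g : Spec (CommRingCat.of (A ⧸ J)) ⟶ Spec (CommRingCat.of A) :=
    Spec.map (CommRingCat.ofHom (algebraMap A (A ⧸ J)))
  haveI : IsClosedImmersion g := IsClosedImmersion.spec_of_surjective _ Ideal.Quotient.mk_surjective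
  obtain ⟨e, he⟩ := exists_iso_comap g (FEt.puncturedSpec A)
  refine trivial_of_trivial_quotient hJ hd hgr L hL fun M ⟨iM⟩ => ?_
  have key : Nonempty (((Scheme.Modules.pullback g).obj M).restrict (g ⁻¹ᵁ FEt.puncturedSpec A).ι ≅
      Coh.structureModule (g ⁻¹ᵁ FEt.puncturedSpec A : Scheme.{u})) := by
    refine ⟨((Amp73.pullRestrictIso g (FEt.puncturedSpec A)).app M).symm ≪≫
      (Scheme.Modules.pullback (g ∣_ FEt.puncturedSpec A)).mapIso
        (((Scheme.Modules.restrictFunctorIsoPullback (FEt.puncturedSpec A).ι).app M).symm ≪≫ iM.symm) ≪≫ ?_⟩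
    exact (Scheme.Modules.pullbackCongr (show g ∣_ FEt.puncturedSpec A = e.inv ≫ _ from
        (Iso.eq_inv_comp e).2 he)).app L ≪≫
      ((Scheme.Modules.pullbackComp e.inv _).app L).symm ≪≫ (Scheme.Modules.pullback e.inv).mapIso iL ≪≫
      PicLoc.pullbackStructureIso e.inv
  rw [← preimage_punctured_quotient J]
  exact key

end Groth.Agent.ParaF26
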