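import Groth.Agent.ParaF26.MonicGlue
import Mathlib.RingTheory.PowerSeries.WeierstrassPreparation

/-!
Formal power series over a complete local ring of depth two are parafactorial.
-/

set_option autoImplicit false
set_option linter.style.haveILetI false
set_option backward.isDefEq.respectTransparency.types false

universe u

open CategoryTheory AlgebraicGeometry Opposite TopologicalSpace IsLocalRing PowerSeries

noncomputable section

namespace Groth.Agent.ParaF26

open Var76.LineBundle Var76.ZeroScheme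

variable {K0 : Type u} [CommRing K0] [IsLocalRing K0] [IsNoetherianRing K0]

theorem C_mem_maximalIdeal {a : K0} (ha : a ∈ maximalIdeal K0) : PowerSeries.C a ∈ maximalIdeal K0⟦X⟧ :=
  (mem_maximalIdeal _).2 fun h => (mem_maximalIdeal a).1 ha (by
    simpa using PowerSeries.isUnit_iff_constantCoeff.1 h)

theorem X_mem_maximalIdeal : (X : K0⟦X⟧) ∈ maximalIdeal K0⟦X⟧ :=
  (mem_maximalIdeal _).2 fun h => by
    simpa using (PowerSeries.isUnit_iff_constantCoeff.1 h)

theorem two_le_depth_powerSeries (hd : (2 : ℕ∞) ≤ LocCoh.depth K0 K0) :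
    (2 : ℕ∞) ≤ LocCoh.depth K0⟦X⟧ K0⟦X⟧ := by
  obtain ⟨a, ha, hreg⟩ := exists_mem_regular hd
  have hX : IsSMulRegular K0⟦X⟧ (X : K0⟦X⟧) := fun p q h => by
    ext n
    simpa [coeff_succ_X_mul] using congrArg (coeff (n + 1)) (show X * p = X * q from h)
  haveI : Nontrivial (QuotSMulTop (X : K0⟦X⟧) K0⟦X⟧) :=
    nontrivial_quotSMulTop_of_mem_maximalIdeal K0⟦X⟧ X_mem_maximalIdeal
  have hCa : IsSMulRegular (QuotSMulTop (X : K0⟦X⟧) K0⟦X⟧) (PowerSeries.C a) := by
    rw [isSMulRegular_iff_right_eq_zero_of_smul]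
    intro z hz
    obtain ⟨p, rfl⟩ := Submodule.Quotient.mk_surjective _ z
    rw [← Submodule.Quotient.mk_smul, Submodule.Quotient.mk_eq_zero] at hz
    obtain ⟨w, -, hw⟩ := hz
    rw [Submodule.Quotient.mk_eq_zero]
    have h0 : constantCoeff p = 0 := by
      have h1 := congrArg constantCoeff (show X * w = PowerSeries.C a * p from hw)
      rw [map_mul, map_mul, constantCoeff_X, zero_mul, constantCoeff_C] at h1
      exact hreg (show a • constantCoeff p = a • (0 : K0) by rw [smul_zero, smul_eq_mul, ← h1])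
    obtain ⟨v, hv⟩ := PowerSeries.X_dvd_iff.2 h0
    exact ⟨v, trivial, hv.symm⟩
  rw [← EGA4Alg4.depth_quotSMulTop_add_one X_mem_maximalIdeal hX]
  have h1 : LocCoh.depth K0⟦X⟧ (QuotSMulTop (X : K0⟦X⟧) K0⟦X⟧) ≠ 0 := fun h0 => by
    rw [EGA4Alg4.depth_eq_zero_iff, EGA4Alg4.maximalIdeal_mem_assoc_iff] at h0
    exact h0 _ (C_mem_maximalIdeal ha) hCa
  calc (2 : ℕ∞) = 1 + 1 := rfl
    _ ≤ _ := by
      gcongr
      exact Order.one_le_iff_ne_zero.2 h1

/-- Residual series. -/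
def resPrime : PrimeSpectrum K0⟦X⟧ :=
  ⟨RingHom.ker (PowerSeries.map (residue K0)), RingHom.ker_isPrime _⟩

theorem resPrime_ne_max : (resPrime : PrimeSpectrum K0⟦X⟧).asIdeal ≠ maximalIdeal K0⟦X⟧ := fun e => by
  have h : (X : K0⟦X⟧) ∈ (resPrime : PrimeSpectrum K0⟦X⟧).asIdeal := e ▸ X_mem_maximalIdeal
  have h' : PowerSeries.map (residue K0) X = 0 := h
  rw [PowerSeries.map_X] at h'
  exact PowerSeries.X_ne_zero h'

variable [IsAdicComplete (maximalIdeal K0) K0]

omit [IsNoetherianRing K0] in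
theorem eq_zero_of_distinguished_mul {F : Polynomial K0} (hF : F.IsDistinguishedAt (maximalIdeal K0))
    {z : K0⟦X⟧} (h : (F : K0⟦X⟧) * z = 0) : z = 0 := by
  refine (hF.isWeierstrassDivisorAt'.eq_zero_of_mul_eq (r := 0) ?_ (by rw [h, Polynomial.coe_zero])).1
  rw [Polynomial.degree_zero]
  exact WithBot.bot_lt_coe _

/-- Reduction of series modulo a distinguished polynomial. -/
theorem exists_reduction {G : Polynomial K0} (hG : G.IsDistinguishedAt (maximalIdeal K0)) :
    ∃ π : K0⟦X⟧ →+* Polynomial K0 ⧸ Ideal.span {G}, (∀ p : Polynomial K0, π p = Ideal.Quotient.mk _ p) ∧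
      ∀ r, π r = 0 → ∃ z, r = (G : K0⟦X⟧) * z := by
  let e := hG.algEquivQuotient
  refine ⟨e.symm.toRingEquiv.toRingHom.comp (Ideal.Quotient.mk _), fun p => ?_, fun r hr => ?_⟩
  · show e.symm (Ideal.Quotient.mk _ (p : K0⟦X⟧)) = _
    rw [AlgEquiv.symm_apply_eq]
    rfl
  · have h : Ideal.Quotient.mk (Ideal.span {(G : K0⟦X⟧)}) r = 0 := by
      apply e.symm.injective
      rw [map_zero]
      exact hr
    exact Ideal.mem_span_singleton.1 (Ideal.Quotient.eq_zero_iff_mem.1 h)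

theorem picTrivial_powerSeries (hd : (2 : ℕ∞) ≤ LocCoh.depth K0 K0) :
    ParaF.PicTrivial (FEt.puncturedSpec K0⟦X⟧ : Scheme.{u}) := by
  classical
  intro L hL
  obtain ⟨T, ⟨i⟩, s, hs, hcov⟩ := exists_finite_model (R := CommRingCat.of K0⟦X⟧) (FEt.puncturedSpec K0⟦X⟧) L hL
  have hne : ∀ q : PrimeSpectrum K0⟦X⟧, q.asIdeal ≠ maximalIdeal K0⟦X⟧ →
      ∃ x ∈ s, x.1 ∉ q.asIdeal := fun q hq => hcov q fun e => hq (by
    have e' : q = closedPoint K0⟦X⟧ := e
    rw [e']; rfl)
  let N : Submodule K0⟦X⟧ T := Submodule.span K0⟦X⟧ ↑(s.image Prod.snd)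
  have hmem : ∀ x ∈ s, x.2 ∈ N := fun x hx => Submodule.subset_span (Finset.mem_image_of_mem _ hx)
  obtain ⟨j⟩ := nonempty_span_restrict_iso (R := CommRingCat.of K0⟦X⟧) (O := FEt.puncturedSpec K0⟦X⟧) N fun q hq => by
    obtain ⟨x, hxs, hx⟩ := hcov q hq
    exact ⟨x.1, hx, (span_bijAway (hmem x hxs) (hs x hxs).2).2⟩
  have hgenN : ∀ x (hx : x ∈ s), BijAway (LinearMap.toSpanSingleton K0⟦X⟧ N ⟨x.2, hmem x hx⟩) x.1 :=
    fun x hx => (span_bijAway (hmem x hx) (hs x hx).2).1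
  -- a generator at the residual series
  obtain ⟨x₀, hx₀s, hx₀⟩ := hne resPrime resPrime_ne_max
  have hg₀ : x₀.1.map (residue K0) ≠ 0 := fun h => hx₀ h
  let f := x₀.1.weierstrassDistinguished hg₀
  have hfd : f.IsDistinguishedAt (maximalIdeal K0) := PowerSeries.isDistinguishedAt_weierstrassDistinguished hg₀
  let t : N := ⟨x₀.2, hmem x₀ hx₀s⟩
  have ht : BijAway (LinearMap.toSpanSingleton K0⟦X⟧ N t) (f : K0⟦X⟧) := by
    obtain ⟨v, hv⟩ := (PowerSeries.isUnit_weierstrassUnit hg₀).exists_right_inv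
    have he := PowerSeries.eq_weierstrassDistinguished_mul_weierstrassUnit hg₀
    have h2 := (hgenN x₀ hx₀s).mul_right v
    rwa [show x₀.1 * v = (f : K0⟦X⟧) by
      conv_lhs => rw [he]
      rw [mul_assoc, hv, mul_one]] at h2
  -- a uniform exponent
  haveI : Module.Finite K0⟦X⟧ N := Module.Finite.span_of_finite _ (Finset.finite_toSet _)
  obtain ⟨S, hS⟩ := (inferInstance : Module.Finite K0⟦X⟧ N).fg_top
  choose k r hk using ht.surj
  let K := S.sup k + 1
  have hrange : ∀ y : N, ∃ a : K0⟦X⟧, a • t = (f : K0⟦X⟧) ^ K • y := by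
    intro y
    have hy : y ∈ Submodule.span K0⟦X⟧ (S : Set N) := hS ▸ trivial
    induction hy using Submodule.span_induction with
    | mem y hy =>
      obtain ⟨d, hd'⟩ := Nat.exists_eq_add_of_le ((Finset.le_sup hy).trans (Nat.le_succ _) : k y ≤ K)
      refine ⟨(f : K0⟦X⟧) ^ d * r y, ?_⟩
      rw [mul_smul, show r y • t = (f : K0⟦X⟧) ^ k y • y from hk y, smul_smul, ← pow_add, add_comm, ← hd']
    | zero => exact ⟨0, by rw [zero_smul, smul_zero]⟩
    | add y z _ _ ihy ihz =>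
      obtain ⟨a, ha⟩ := ihy
      obtain ⟨b, hb⟩ := ihz
      exact ⟨a + b, by rw [add_smul, ha, hb, smul_add]⟩
    | smul c y _ ih =>
      obtain ⟨a, ha⟩ := ih
      exact ⟨c * a, by rw [mul_smul, ha, smul_comm]⟩
  have huniq : ∀ a b : K0⟦X⟧, a • t = b • t → a = b := fun a b h => by
    obtain ⟨l, hl⟩ := ht.inj (a - b) (by
      show (a - b) • t = 0
      rw [sub_smul, h, sub_self])
    clear hrange
    induction l with
    | zero => simpa [sub_eq_zero] using hl
    | succ l ih =>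
      refine ih (eq_zero_of_distinguished_mul hfd ?_)
      rw [smul_eq_mul] at hl ⊢
      rw [← mul_assoc, ← pow_succ', hl]
  choose ψf hψf using hrange
  let ψ : N →ₗ[K0⟦X⟧] K0⟦X⟧ :=
    { toFun := ψf
      map_add' := fun y z => huniq _ _ (by rw [hψf, add_smul, hψf, hψf, smul_add])
      map_smul' := fun c y => huniq _ _ (by rw [hψf, RingHom.id_apply, smul_eq_mul, mul_smul, hψf, smul_comm]) }
  let F : Polynomial K0 := f ^ K
  have hFd : F.IsDistinguishedAt (maximalIdeal K0) := by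
    show (f ^ (S.sup k + 1)).IsDistinguishedAt (maximalIdeal K0)
    induction S.sup k with
    | zero => rw [zero_add, pow_one]; exact hfd
    | succ n ih => rw [pow_succ]; exact ih.mul hfd
  have hψt : ψ t = (F : K0⟦X⟧) := huniq _ _ (by
    show ψf t • t = _
    rw [hψf, Polynomial.coe_pow])
  -- the ideal of polynomials in the image
  let J : Ideal K0⟦X⟧ := LinearMap.range ψ
  let ι : Polynomial K0 →+* K0⟦X⟧ := Polynomial.coeToPowerSeries.ringHom
  let J₀ : Ideal (Polynomial K0) := J.comap ι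
  have hι : ∀ p : Polynomial K0, ι p = (p : K0⟦X⟧) := fun p => rfl
  have hFJ : F ∈ J₀ := ⟨t, hψt⟩
  let G : Polynomial K0 := F * F
  have hGd : G.IsDistinguishedAt (maximalIdeal K0) := hFd.mul hFd
  obtain ⟨π, hπ, hπ0⟩ := exists_reduction hGd
  have hred : ∀ a : K0⟦X⟧, ∃ (p : Polynomial K0) (z : K0⟦X⟧), a = (p : K0⟦X⟧) + (G : K0⟦X⟧) * z := fun a => by
    obtain ⟨p, hp⟩ := Ideal.Quotient.mk_surjective (π a)
    obtain ⟨z, hz⟩ := hπ0 (a - p) (by rw [map_sub, hπ, hp, sub_self])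
    exact ⟨p, z, by rw [← hz]; ring⟩
  have hlift : ∀ (p q : Polynomial K0) (z : K0⟦X⟧), (p : K0⟦X⟧) = (q : K0⟦X⟧) + (G : K0⟦X⟧) * z →
      ∃ w, p = q + G * w := fun p q z h => by
    have h' := congrArg π h
    rw [map_add, map_mul, hπ, hπ, hπ, Ideal.Quotient.eq_zero_iff_mem.2 (Ideal.mem_span_singleton_self G),
      zero_mul, add_zero, Ideal.Quotient.eq] at h'
    obtain ⟨w, hw⟩ := Ideal.mem_span_singleton.1 h'
    exact ⟨w, by rw [← hw]; ring⟩
  have hloc : ∀ x : Ideal (Polynomial K0), x.IsPrime → F ∈ x → x.comap Polynomial.C ≠ maximalIdeal K0 →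
      ∃ h ∈ J₀, ∃ s ∉ x, ∀ j ∈ J₀, s * j ∈ Ideal.span {h} := by
    intro x hx hFx hxm
    have hGx : Ideal.span {G} ≤ x := (Ideal.span_singleton_le_iff_mem x).2 (x.mul_mem_left F hFx)
    haveI := hx
    haveI : (x.map (Ideal.Quotient.mk (Ideal.span {G}))).IsPrime :=
      Ideal.map_isPrime_of_surjective Ideal.Quotient.mk_surjective (by rwa [Ideal.mk_ker])
    let xR : PrimeSpectrum K0⟦X⟧ := ⟨(x.map (Ideal.Quotient.mk (Ideal.span {G}))).comap π, inferInstance⟩
    have hxR : ∀ p : Polynomial K0, (p : K0⟦X⟧) ∈ xR.asIdeal ↔ p ∈ x := fun p => by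
      show π p ∈ x.map _ ↔ _
      rw [hπ, ← Ideal.mem_comap, Ideal.comap_map_of_surjective _ Ideal.Quotient.mk_surjective,
        ← RingHom.ker_eq_comap_bot, Ideal.mk_ker, sup_eq_left.2 hGx]
    have hxRne : xR.asIdeal ≠ maximalIdeal K0⟦X⟧ := by
      intro e
      refine hxm (le_antisymm (le_maximalIdeal (Ideal.IsPrime.comap Polynomial.C).ne_top) fun a ha => ?_)
      rw [Ideal.mem_comap, ← hxR, e, Polynomial.coe_C]
      exact C_mem_maximalIdeal ha
    obtain ⟨z, hzs, hz⟩ := hne xR hxRne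
    let h : K0⟦X⟧ := ψ ⟨z.2, hmem z hzs⟩
    have hJ : ∀ a ∈ J, ∃ (l : ℕ) (b : K0⟦X⟧), z.1 ^ l * a = b * h := by
      rintro _ ⟨y, rfl⟩
      obtain ⟨l, b, hb⟩ := (hgenN z hzs).surj y
      refine ⟨l, b, ?_⟩
      have := congrArg ψ hb
      rw [LinearMap.toSpanSingleton_apply, map_smul, map_smul, smul_eq_mul, smul_eq_mul] at this
      exact this.symm
    obtain ⟨h₀, a, ha⟩ := hred h
    have hh₀ : h₀ ∈ J₀ := by
      show (h₀ : K0⟦X⟧) ∈ J
      rw [show (h₀ : K0⟦X⟧) = h - (F : K0⟦X⟧) * ((F : K0⟦X⟧) * a) by rw [ha, Polynomial.coe_mul]; ring]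
      exact J.sub_mem ⟨_, rfl⟩ (J.mul_mem_right _ hFJ)
    have hnot : ∀ l : ℕ, ∀ p : Polynomial K0, ∀ c : K0⟦X⟧, z.1 ^ l = (p : K0⟦X⟧) + (G : K0⟦X⟧) * c → p ∉ x := by
      intro l p c hc hp
      refine hz (xR.2.mem_of_pow_mem l ?_)
      rw [hc]
      exact xR.asIdeal.add_mem ((hxR p).2 hp) (xR.asIdeal.mul_mem_right _ ((hxR G).2 (hGx (Ideal.mem_span_singleton_self G))))
    have key : ∀ j ∈ J₀, ∃ s₀ ∉ x, ∃ p w, s₀ * j = p * h₀ + G * w := by
      intro j hj
      obtain ⟨l, b, hb⟩ := hJ (j : K0⟦X⟧) hj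
      obtain ⟨s₀, c, hc⟩ := hred (z.1 ^ l)
      obtain ⟨p, e, he⟩ := hred b
      refine ⟨s₀, hnot l s₀ c hc, p, ?_⟩
      obtain ⟨w, hw⟩ := hlift (s₀ * j) (p * h₀) (-(c * (j : K0⟦X⟧)) + e * (h₀ : K0⟦X⟧) + b * a) (by
        rw [Polynomial.coe_mul, Polynomial.coe_mul]
        linear_combination hb - (j : K0⟦X⟧) * hc + (h₀ : K0⟦X⟧) * he + b * ha)
      exact ⟨w, hw⟩
    obtain ⟨sF, hsF, pF, wF, hF'⟩ := key F hFJ
    obtain ⟨G₀, hG₀⟩ := (inferInstance : IsNoetherianRing (Polynomial K0)).noetherian J₀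
    choose! s₁ hs₁ p₁ w₁ hw₁ using key
    let s₂ := sF - F * wF
    have hs₂ : s₂ ∉ x := fun h' => hsF (by simpa [s₂] using x.add_mem h' (x.mul_mem_right wF hFx))
    have hkey : F * s₂ = pF * h₀ := by
      show F * (sF - F * wF) = _
      linear_combination hF'
    refine ⟨h₀, hh₀, s₂ * ∏ g ∈ G₀, s₁ g, fun hmem' => ?_, fun j hj => ?_⟩
    · rcases hx.mem_or_mem hmem' with h1 | h1
      · exact hs₂ h1
      · obtain ⟨g, hg, hg'⟩ := hx.prod_mem_iff.1 h1
        exact hs₁ g (hG₀ ▸ Submodule.subset_span hg) hg'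
    · have hjs : j ∈ Submodule.span (Polynomial K0) (G₀ : Set (Polynomial K0)) := hG₀.symm ▸ hj
      clear hj
      induction hjs using Submodule.span_induction with
      | mem g hg =>
        obtain ⟨d, hd'⟩ := Finset.dvd_prod_of_mem s₁ hg
        have hgJ : g ∈ J₀ := hG₀ ▸ Submodule.subset_span hg
        refine Ideal.mem_span_singleton.2 ⟨d * (s₂ * p₁ g + w₁ g * F * pF * 1), ?_⟩
        rw [hd', show s₂ * (s₁ g * d) * g = s₂ * d * (s₁ g * g) by ring, hw₁ g hgJ]
        linear_combination (d * F * w₁ g) * hkey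
      | zero => rw [mul_zero]; exact zero_mem _
      | add a b _ _ iha ihb => rw [mul_add]; exact add_mem iha ihb
      | smul c a _ ih => rw [smul_eq_mul, mul_left_comm]; exact Ideal.mul_mem_left _ c ih
  obtain ⟨χ, hχm, hχ⟩ := exists_global_monic J₀ hd hFd.monic hFJ hloc
  -- the image lies in the multiples of the monic generator
  obtain ⟨c₀, hc₀, hc₀reg⟩ := exists_mem_regular hd
  have hJ₀χ : ∀ j ∈ J₀, χ ∣ j := by
    intro j hj
    let I : Ideal K0 := ((Ideal.span {χ}).colon ({j} : Set (Polynomial K0))).comap Polynomial.C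
    obtain ⟨n, hn⟩ := exists_pow_le I fun q hq hle => by
      let φq := Polynomial.mapRingHom (algebraMap K0 (Localization.AtPrime q.asIdeal))
      letI : Algebra (Polynomial K0) (Polynomial (Localization.AtPrime q.asIdeal)) := φq.toAlgebra
      haveI := Polynomial.isLocalization q.asIdeal.primeCompl (Localization.AtPrime q.asIdeal)
      have h1 : φq j ∈ (Ideal.span {χ}).map φq := by
        rw [Ideal.map_span, Set.image_singleton]
        exact (hχ q hq).2.le (Ideal.mem_map_of_mem φq hj)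
      obtain ⟨_, ⟨b, hb, rfl⟩, hbj⟩ := (IsLocalization.algebraMap_mem_map_algebraMap_iff
        (q.asIdeal.primeCompl.map (Polynomial.C : K0 →+* Polynomial K0))
        (Polynomial (Localization.AtPrime q.asIdeal)) (Ideal.span {χ}) j).1 h1
      exact hb (hle (Submodule.mem_colon_singleton.2 hbj))
    have h1 : Polynomial.C (c₀ ^ n) * j ∈ Ideal.span {χ} :=
      Submodule.mem_colon_singleton.1 (hn (Ideal.pow_mem_pow hc₀ n))
    rw [← Polynomial.modByMonic_eq_zero_iff_dvd hχm] at *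
    have h2 : (Polynomial.C (c₀ ^ n) * j) %ₘ χ = 0 :=
      (Polynomial.modByMonic_eq_zero_iff_dvd hχm).2 (Ideal.mem_span_singleton.1 h1)
    rw [← Polynomial.smul_eq_C_mul, Polynomial.smul_modByMonic] at h2
    ext i
    have h3 := congrArg (Polynomial.coeff · i) h2
    simp only [Polynomial.coeff_smul, Polynomial.coeff_zero] at h3
    rw [Polynomial.coeff_zero]
    exact (hc₀reg.pow n) (show c₀ ^ n • (j %ₘ χ).coeff i = c₀ ^ n • (0 : K0) by rw [h3, smul_zero])
  obtain ⟨Fc, hFc⟩ := hJ₀χ F hFJ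
  have hχnzd : ∀ a : K0⟦X⟧, (χ : K0⟦X⟧) * a = 0 → a = 0 := fun a ha =>
    eq_zero_of_distinguished_mul hFd (by rw [hFc, Polynomial.coe_mul, mul_right_comm, ha, zero_mul])
  have hdvd : ∀ y : N, ∃ a : K0⟦X⟧, (χ : K0⟦X⟧) * a = ψ y := by
    intro y
    obtain ⟨p, a, hpa⟩ := hred (ψ y)
    have hp : p ∈ J₀ := by
      show (p : K0⟦X⟧) ∈ J
      rw [show (p : K0⟦X⟧) = ψ y - (F : K0⟦X⟧) * ((F : K0⟦X⟧) * a) by rw [hpa, Polynomial.coe_mul]; ring]
      exact J.sub_mem ⟨_, rfl⟩ (J.mul_mem_right _ hFJ)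
    obtain ⟨b, hb⟩ := hJ₀χ p hp
    refine ⟨(b : K0⟦X⟧) + (Fc : K0⟦X⟧) * (F : K0⟦X⟧) * a, ?_⟩
    rw [hpa, hb, Polynomial.coe_mul, Polynomial.coe_mul]
    nth_rewrite 2 [hFc]
    rw [Polynomial.coe_mul]
    ring
  choose φf hφf using hdvd
  have hφu : ∀ y a, (χ : K0⟦X⟧) * a = ψ y → φf y = a := fun y a h =>
    sub_eq_zero.1 (hχnzd _ (by rw [mul_sub, hφf, h, sub_self]))
  let φ : N →ₗ[K0⟦X⟧] K0⟦X⟧ :=
    { toFun := φf
      map_add' := fun y z => hφu _ _ (by rw [mul_add, hφf, hφf, map_add])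
      map_smul' := fun c y => hφu _ _ (by
        rw [RingHom.id_apply, smul_eq_mul, mul_left_comm, hφf, map_smul, smul_eq_mul]) }
  have hbij : ∀ g ∈ maximalIdeal K0⟦X⟧, BijAway φ g := by
    intro g hg
    refine ⟨fun y hy => ?_, fun y => ?_⟩
    · let I : Ideal K0⟦X⟧ := LinearMap.ker (LinearMap.toSpanSingleton K0⟦X⟧ N y)
      have hy0 : ψ y = 0 := by rw [← hφf y, show φf y = 0 from hy, mul_zero]
      obtain ⟨n, hn⟩ := exists_pow_le I fun q hq hle => by
        obtain ⟨z, hzs, hz⟩ := hne q hq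
        obtain ⟨l, b, hb⟩ := (hgenN z hzs).surj y
        rw [LinearMap.toSpanSingleton_apply] at hb
        let h : K0⟦X⟧ := ψ ⟨z.2, hmem z hzs⟩
        have hbh : b * h = 0 := by
          have := congrArg ψ hb
          rwa [map_smul, map_smul, hy0, smul_zero, smul_eq_mul] at this
        obtain ⟨l', b', hb'⟩ := (hgenN z hzs).surj t
        rw [LinearMap.toSpanSingleton_apply] at hb'
        have hF0 : z.1 ^ l' * (F : K0⟦X⟧) = b' * h := by
          have := congrArg ψ hb'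
          rw [map_smul, map_smul, hψt, smul_eq_mul, smul_eq_mul] at this
          exact this.symm
        have hzb : z.1 ^ l' * b = 0 :=
          eq_zero_of_distinguished_mul hFd (by linear_combination b * hF0 + b' * hbh)
        refine hz (q.2.mem_of_pow_mem (l' + l) (hle (show (z.1 ^ (l' + l)) • y = 0 from ?_)))
        rw [pow_add, mul_smul, ← hb, smul_smul, hzb, zero_smul]
      exact ⟨n, hn (Ideal.pow_mem_pow hg n)⟩
    · let I : Ideal K0⟦X⟧ := Submodule.colon (J : Submodule K0⟦X⟧ K0⟦X⟧) ({(χ : K0⟦X⟧)} : Set K0⟦X⟧)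
      obtain ⟨n, hn⟩ := exists_pow_le I fun q hq hle => by
        by_cases hFq : (F : K0⟦X⟧) ∈ q.asIdeal
        swap
        · exact hFq (hle (Submodule.mem_colon_singleton.2 (J.mul_mem_right (χ : K0⟦X⟧) hFJ)))
        let x₁ : Ideal (Polynomial K0) := q.asIdeal.comap ι
        let p₀ : PrimeSpectrum K0 := ⟨x₁.comap Polynomial.C, inferInstance⟩
        have hp₀ : p₀.asIdeal ≠ maximalIdeal K0 := by
          intro e
          refine hq (le_antisymm (le_maximalIdeal q.2.ne_top) fun a ha => ?_)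
          have hCq : ∀ c ∈ maximalIdeal K0, PowerSeries.C c ∈ q.asIdeal := fun c hc => by
            have h1 : c ∈ p₀.asIdeal := e.symm ▸ hc
            rw [← Polynomial.coe_C]
            exact h1
          have hXq : (X : K0⟦X⟧) ∈ q.asIdeal := by
            refine q.2.mem_of_pow_mem F.natDegree ?_
            have hsplit : (X : K0⟦X⟧) ^ F.natDegree = (F : K0⟦X⟧) -
                ∑ i ∈ Finset.range F.natDegree, PowerSeries.C (F.coeff i) * X ^ i := by
              have h1 := congrArg ι hFd.monic.as_sum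
              rw [map_add, map_pow, map_sum] at h1
              simp only [map_mul, map_pow, hι, Polynomial.coe_C, Polynomial.coe_X] at h1
              rw [show (F : K0⟦X⟧) = (f : K0⟦X⟧) ^ K from Polynomial.coe_pow _, h1]
              simp only [Polynomial.coe_mul, Polynomial.coe_pow, Polynomial.coe_C, Polynomial.coe_X]
              ring
            rw [hsplit]
            exact q.asIdeal.sub_mem hFq (q.asIdeal.sum_mem fun i hi =>
              q.asIdeal.mul_mem_right _ (hCq _ (hFd.mem (Finset.mem_range.1 hi))))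
          obtain ⟨b, hb⟩ : X ∣ a - PowerSeries.C (constantCoeff a) := PowerSeries.X_dvd_iff.2 (by simp)
          have hcc : constantCoeff a ∈ maximalIdeal K0 := (mem_maximalIdeal _).2 fun hu =>
            (mem_maximalIdeal a).1 ha (PowerSeries.isUnit_iff_constantCoeff.2 hu)
          rw [show a = X * b + PowerSeries.C (constantCoeff a) by rw [← hb]; ring]
          exact q.asIdeal.add_mem (q.asIdeal.mul_mem_right _ hXq) (hCq _ hcc)
        let φq := Polynomial.mapRingHom (algebraMap K0 (Localization.AtPrime p₀.asIdeal))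
        letI : Algebra (Polynomial K0) (Polynomial (Localization.AtPrime p₀.asIdeal)) := φq.toAlgebra
        haveI := Polynomial.isLocalization p₀.asIdeal.primeCompl (Localization.AtPrime p₀.asIdeal)
        obtain ⟨_, ⟨b, hb, rfl⟩, hbj⟩ := (IsLocalization.algebraMap_mem_map_algebraMap_iff
          (p₀.asIdeal.primeCompl.map (Polynomial.C : K0 →+* Polynomial K0))
          (Polynomial (Localization.AtPrime p₀.asIdeal)) J₀ χ).1
          ((hχ p₀ hp₀).2.ge (Ideal.mem_span_singleton_self _))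
        refine hb (show ((Polynomial.C b : Polynomial K0) : K0⟦X⟧) ∈ q.asIdeal from hle ?_)
        refine Submodule.mem_colon_singleton.2 ?_
        rw [smul_eq_mul, ← Polynomial.coe_mul]
        exact hbj
      obtain ⟨w, hw⟩ := Submodule.mem_colon_singleton.1 (hn (Ideal.pow_mem_pow hg n))
      refine ⟨n, y • w, ?_⟩
      rw [map_smul, show φ w = g ^ n from hφu w _ (by rw [hw, smul_eq_mul, mul_comm]),
        smul_eq_mul, smul_eq_mul, mul_comm]
  obtain ⟨triv⟩ := nonempty_restrict_iso_unit (R := CommRingCat.of K0⟦X⟧) (T := ModuleCat.of K0⟦X⟧ N)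
    (U := FEt.puncturedSpec K0⟦X⟧) φ fun q hq => by
      obtain ⟨c, hcm, hcq⟩ : ∃ c, c ∈ maximalIdeal K0⟦X⟧ ∧ c ∉ q.asIdeal :=
        SetLike.not_le_iff_exists.1 fun hle => hq (PrimeSpectrum.ext (le_antisymm (le_maximalIdeal q.2.ne_top) hle))
      exact ⟨c, hcq, hbij c hcm⟩
  exact ⟨i ≪≫ j.symm ≪≫ triv⟩

theorem parafactorial_powerSeries (hd : (2 : ℕ∞) ≤ LocCoh.depth K0 K0) :
    ParaF.IsParafactorialLocalRing K0⟦X⟧ :=
  parafactorial_iff.2 ⟨two_le_depth_powerSeries hd, picTrivial_powerSeries hd⟩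

end Groth.Agent.ParaF26
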