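import Groth.Agent.ParaF26.Generator

/-!
Standard étale local algebras over an algebra with one generator: parafactoriality.
-/

set_option autoImplicit false
set_option linter.style.haveILetI false
set_option backward.isDefEq.respectTransparency.types false

universe u

open IsLocalRing TensorProduct Polynomial

noncomputable section

namespace Groth.Agent.ParaF26

theorem ringKrullDim_quotient_ne_zero_of_prime {B : Type u} [CommRing B] [IsLocalRing B] (I P₀ : Ideal B)
    [P₀.IsPrime] (h : I ≤ P₀) (hne : P₀ ≠ maximalIdeal B) : ringKrullDim (B ⧸ I) ≠ 0 := by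
  intro h0
  haveI : Nontrivial (B ⧸ I) := Ideal.Quotient.nontrivial_iff.2 (ne_top_of_le_ne_top ‹P₀.IsPrime›.ne_top h)
  haveI : Ring.KrullDimLE 0 (B ⧸ I) := ringKrullDimZero_iff_ringKrullDim_eq_zero.2 h0
  haveI : (P₀.map (Ideal.Quotient.mk I)).IsPrime :=
    Ideal.map_isPrime_of_surjective Ideal.Quotient.mk_surjective (by rwa [Ideal.mk_ker])
  haveI := Ideal.isMaximal_of_isPrime (P₀.map (Ideal.Quotient.mk I))
  have h1 := Ideal.comap_isMaximal_of_surjective (Ideal.Quotient.mk I) Ideal.Quotient.mk_surjective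
    (K := P₀.map (Ideal.Quotient.mk I))
  rw [Ideal.comap_map_of_surjective _ Ideal.Quotient.mk_surjective, ← RingHom.ker_eq_comap_bot, Ideal.mk_ker,
    sup_eq_left.2 h] at h1
  exact hne (IsLocalRing.eq_maximalIdeal h1)

theorem exists_pow_le_of_dim_zero {B : Type u} [CommRing B] [IsLocalRing B] [IsNoetherianRing B] (I : Ideal B)
    (hI : I ≠ ⊤) (h : ringKrullDim (B ⧸ I) = 0) : ∃ k, maximalIdeal B ^ k ≤ I := by
  haveI : Nontrivial (B ⧸ I) := Ideal.Quotient.nontrivial_iff.2 hI
  haveI : Ring.KrullDimLE 0 (B ⧸ I) := ringKrullDimZero_iff_ringKrullDim_eq_zero.2 h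
  have hrad : I.radical = maximalIdeal B := by
    refine le_antisymm (le_maximalIdeal fun e => hI (Ideal.radical_eq_top.1 e)) ?_
    rw [Ideal.radical_eq_sInf]
    refine le_sInf fun P ⟨hIP, hP⟩ => ?_
    by_contra hle
    exact ringKrullDim_quotient_ne_zero_of_prime I P hIP (fun e => hle e.ge) h
  obtain ⟨k, hk⟩ := I.exists_radical_pow_le_of_fg (IsNoetherian.noetherian _)
  exact ⟨k, hrad ▸ hk⟩

variable {A D L : Type u} [CommRing A] [CommRing D] [CommRing L] [IsLocalRing A] [IsLocalRing D] [IsLocalRing L]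
  [Algebra A D] [Algebra D L] [Algebra A L] [IsScalarTower A D L]
  [IsLocalHom (algebraMap A D)] [IsLocalHom (algebraMap D L)]

/-- The closed fibre keeps positive dimension in a flat local algebra. -/
theorem fibre_dim_ne_zero_of_flat [IsNoetherianRing D] [IsNoetherianRing L] [Module.Flat D L]
    (h : ringKrullDim (D ⧸ (maximalIdeal A).map (algebraMap A D)) ≠ 0) :
    ringKrullDim (L ⧸ (maximalIdeal A).map (algebraMap A L)) ≠ 0 := by
  intro h0
  haveI : Module.FaithfullyFlat D L := Module.FaithfullyFlat.of_flat_of_isLocalHom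
  haveI : IsLocalHom (algebraMap A L) := by
    rw [IsScalarTower.algebraMap_eq A D L]; infer_instance
  let I := (maximalIdeal A).map (algebraMap A D)
  have hID : I ≤ maximalIdeal D := Ideal.map_le_iff_le_comap.2 fun x hx => map_nonunit _ x hx
  obtain ⟨k, hk⟩ := exists_pow_le_of_dim_zero _ (ne_top_of_le_ne_top (maximalIdeal.isMaximal L).ne_top
    (Ideal.map_le_iff_le_comap.2 fun x hx => map_nonunit (algebraMap A L) x hx)) h0
  have hk' : maximalIdeal D ^ k ≤ I := by
    rw [← Ideal.comap_map_eq_self_of_faithfullyFlat (B := L) I, Ideal.map_map, ← IsScalarTower.algebraMap_eq,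
      ← Ideal.map_le_iff_le_comap]
    refine le_trans ?_ hk
    rw [Ideal.map_pow]
    exact Ideal.pow_right_mono (Ideal.map_le_iff_le_comap.2 fun x hx => map_nonunit _ x hx) k
  refine h ?_
  haveI : Nontrivial (D ⧸ I) := Ideal.Quotient.nontrivial_iff.2
    (ne_top_of_le_ne_top (maximalIdeal.isMaximal D).ne_top hID)
  haveI : IsLocalRing (D ⧸ I) := .of_surjective' (Ideal.Quotient.mk I) Ideal.Quotient.mk_surjective
  haveI : Ring.KrullDimLE 0 (D ⧸ I) := by
    rw [Ring.krullDimLE_zero_iff]
    intro q hq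
    suffices q = maximalIdeal (D ⧸ I) from this ▸ maximalIdeal.isMaximal _
    refine le_antisymm (le_maximalIdeal hq.ne_top) fun x hx => hq.mem_of_pow_mem k ?_
    obtain ⟨b, rfl⟩ := Ideal.Quotient.mk_surjective x
    rw [← map_pow, Ideal.Quotient.eq_zero_iff_mem.2 (hk' (Ideal.pow_mem_pow ?_ k))]
    · exact zero_mem _
    · exact (mem_maximalIdeal b).2 fun hu => (mem_maximalIdeal _).1 hx (hu.map _)
  exact ringKrullDimZero_iff_ringKrullDim_eq_zero.1 inferInstance

/-- Relative dimension one for standard étale algebras over one generator. -/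
theorem parafactorial_of_etale_generator [IsNoetherianRing A] [IsNoetherianRing L] [Module.Flat A L]
    (hd : (2 : ℕ∞) ≤ LocCoh.depth A A)
    (hdim : ringKrullDim (L ⧸ (maximalIdeal A).map (algebraMap A L)) ≠ 0)
    (x : D) (hx : GenModFibre (A := A) x) (hP : ∃ P : A[X], P.Monic ∧ aeval x P ∈ maximalIdeal D)
    (a : L) (g : D[X]) (hgm : g.Monic) (hga : aeval a g = 0) (hg' : IsUnit (aeval a (derivative g)))
    (hgen : ∀ b : L, ∃ r q : D[X], IsUnit (aeval a q) ∧ b * aeval a q = aeval a r) :
    ParaF.IsParafactorialLocalRing L := by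
  classical
  obtain ⟨-, -, -, -, hfinD, -⟩ := exists_minpoly_lift x hx hP
  haveI := hfinD
  haveI : IsLocalHom (algebraMap A L) := by
    rw [IsScalarTower.algebraMap_eq A D L]; infer_instance
  let kD := ResidueField D
  let kL := ResidueField L
  have hres_ev : ∀ r : D[X], residue L (aeval a r) = aeval (residue L a) (r.map (residue D)) := fun r =>
    ((aeval_algHom_apply (IsScalarTower.toAlgHom D L kL) a r).symm).trans
      (Polynomial.aeval_map_algebraMap kD (residue L a) r).symm
  haveI : Module.Finite (ResidueField A) kL := by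
    have hint : IsIntegral kD (residue L a) := ⟨g.map (residue D), hgm.map _, by
      rw [← aeval_def, ← hres_ev, hga, map_zero]⟩
    have hmem : ∀ q : D[X], residue L (aeval a q) ∈ Algebra.adjoin kD ({residue L a} : Set kL) := fun q => by
      rw [hres_ev]; exact aeval_mem_adjoin_singleton kD _
    have htop : Algebra.adjoin kD ({residue L a} : Set kL) = ⊤ := by
      refine eq_top_iff.2 fun z _ => ?_
      obtain ⟨b, rfl⟩ := residue_surjective z
      obtain ⟨r, q, hq, hrq⟩ := hgen b
      have h1 := congrArg (residue L) hrq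
      rw [map_mul] at h1
      rw [← mul_inv_cancel_right₀ (hq.map (residue L)).ne_zero (residue L b), h1]
      refine mul_mem (hmem r) (IsIntegral.inv_mem ((Algebra.IsIntegral.adjoin (R := kD) (S := ({residue L a} : Set kL))
        (fun y hy => (Set.mem_singleton_iff.1 hy) ▸ hint)).isIntegral
          (⟨_, hmem q⟩ : Algebra.adjoin kD ({residue L a} : Set kL)) |>.map (Subalgebra.val _)) (hmem q))
    have h2 := hint.fg_adjoin_singleton
    rw [htop, Algebra.top_toSubmodule] at h2
    haveI : Module.Finite kD kL := ⟨h2⟩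
    exact Module.Finite.trans kD kL
  obtain ⟨S, _, _, _, _, _, hS, ψ, hψs, hψk⟩ := exists_local_split (A := A) kL
  let ε : L ⊗[A] S →ₐ[A] kL :=
    Algebra.TensorProduct.lift (IsScalarTower.toAlgHom A L kL) ψ fun _ _ => Commute.all _ _
  have hεB : ∀ b, ε (b ⊗ₜ[A] 1) = residue L b := fun b => by
    rw [Algebra.TensorProduct.lift_tmul, map_one, mul_one]; rfl
  have hεS : ∀ s, ε ((1 : L) ⊗ₜ[A] s) = ψ s := fun s => by
    rw [Algebra.TensorProduct.lift_tmul, map_one, one_mul]
  obtain ⟨θ, hθ⟩ := hψs (residue L (algebraMap D L x))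
  obtain ⟨σ, hσ⟩ := hψs (residue L a)
  let N : Ideal (L ⊗[A] S) := RingHom.ker ε
  let ι : L →ₐ[A] L ⊗[A] S := Algebra.TensorProduct.includeLeft
  let j : S →ₐ[A] L ⊗[A] S := Algebra.TensorProduct.includeRight
  let ιD : D →ₐ[A] L ⊗[A] S := ι.comp (IsScalarTower.toAlgHom A D L)
  let t : L ⊗[A] S := ιD x - j θ
  let M : Ideal (L ⊗[A] S) := (maximalIdeal A).map (algebraMap A (L ⊗[A] S)) ⊔ Ideal.span {t}
  have hmM : ∀ s ∈ maximalIdeal S, j s ∈ M := fun s hs => by
    rw [← hS] at hs
    have := Ideal.mem_map_of_mem j.toRingHom hs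
    rw [Ideal.map_map, show j.toRingHom.comp (algebraMap A S) = algebraMap A _ from j.comp_algebraMap] at this
    exact Submodule.mem_sup_left this
  have hMN : M ≤ N := by
    refine sup_le (Ideal.map_le_iff_le_comap.2 fun c hc => ?_) ((Ideal.span_singleton_le_iff_mem _).2 ?_)
    · show ε (algebraMap A _ c) = 0
      rw [AlgHom.commutes, IsScalarTower.algebraMap_apply A L kL, ResidueField.algebraMap_eq, residue_eq_zero_iff]
      exact map_nonunit _ c hc
    · show ε (ι (algebraMap D L x) - j θ) = 0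
      rw [map_sub, show ε (ι (algebraMap D L x)) = residue L (algebraMap D L x) from hεB _,
        show ε (j θ) = ψ θ from hεS θ, hθ, sub_self]
  have hev : ∀ r : A[X], ιD (aeval x r) - j (aeval θ r) ∈ M := fun r => by
    rw [← aeval_algHom_apply, ← aeval_algHom_apply]
    obtain ⟨c, hc⟩ := Polynomial.sub_dvd_eval_sub (ιD x) (j θ) (r.map (algebraMap A (L ⊗[A] S)))
    rw [Polynomial.eval_map_algebraMap, Polynomial.eval_map_algebraMap] at hc
    rw [hc]
    exact Submodule.mem_sup_right (Ideal.mul_mem_right _ _ (Ideal.mem_span_singleton_self t))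
  have hψθ : ∀ r : A[X], ψ (aeval θ r) = residue L (algebraMap D L (aeval x r)) := fun r => by
    rw [← aeval_algHom_apply, hθ]
    exact aeval_algHom_apply ((IsScalarTower.toAlgHom A L kL).comp (IsScalarTower.toAlgHom A D L)) x r
  have hunit : ∀ s : S, ψ s ≠ 0 → IsUnit s := fun s hs => by
    by_contra hu
    exact hs (by rw [← RingHom.mem_ker, hψk]; exact (mem_maximalIdeal s).2 hu)
  have hD : ∀ d : D, ∃ s : S, ιD d - j s ∈ M := by
    intro d
    obtain ⟨r, q, hq, hrq⟩ := hx d
    have hM0 : ((maximalIdeal A).map (algebraMap A D) ⊔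
        Ideal.span ((aeval x : A[X] →ₐ[A] D) '' {h | aeval x h ∈ maximalIdeal D})) ≤ M.comap ιD.toRingHom := by
      refine sup_le (Ideal.map_le_iff_le_comap.2 fun c hc => ?_) (Ideal.span_le.2 ?_)
      · show ιD (algebraMap A D c) ∈ M
        rw [AlgHom.commutes]
        exact Submodule.mem_sup_left (Ideal.mem_map_of_mem _ hc)
      · rintro _ ⟨h, hh, rfl⟩
        show ιD (aeval x h) ∈ M
        have h2 : j (aeval θ h) ∈ M := hmM _ (by
          rw [← hψk, RingHom.mem_ker, hψθ, residue_eq_zero_iff]
          exact map_nonunit (algebraMap D L) _ hh)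
        have := add_mem (hev h) h2
        rwa [sub_add_cancel] at this
    obtain ⟨c, hc⟩ := (hunit (aeval θ q) (by
      rw [hψθ]; exact ((hq.map (algebraMap D L)).map (residue L)).ne_zero)).exists_right_inv
    refine ⟨aeval θ r * c, ?_⟩
    have h1 : ιD d * ιD (aeval x q) - ιD (aeval x r) ∈ M := by
      rw [← map_mul, ← map_sub]; exact hM0 hrq
    have hc' : j (aeval θ q) * j c = 1 := by rw [← map_mul, hc, map_one]
    rw [show ιD d - j (aeval θ r * c) = j c * ((ιD d * ιD (aeval x q) - ιD (aeval x r)) +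
        (ιD (aeval x r) - j (aeval θ r)) - ιD d * (ιD (aeval x q) - j (aeval θ q))) by
      rw [map_mul]; linear_combination -(ιD d) * hc']
    exact Ideal.mul_mem_left _ _ (sub_mem (add_mem h1 (hev r)) (Ideal.mul_mem_left _ _ (hev q)))
  choose sD hsD using hD
  let w : L ⊗[A] S := ι a - j σ
  let M' := M ⊔ Ideal.span {w}
  have hwN : w ∈ N := by
    show ε (ι a - j σ) = 0
    rw [map_sub, show ε (ι a) = residue L a from hεB a, show ε (j σ) = ψ σ from hεS σ, hσ, sub_self]
  have hM'N : M' ≤ N := sup_le hMN ((Ideal.span_singleton_le_iff_mem _).2 hwN)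
  -- evaluation of polynomials over `D`
  have hevD : ∀ r : D[X], ∃ s : S, ι (aeval a r) - j s ∈ M' := by
    intro r
    induction r using Polynomial.induction_on with
    | C d => exact ⟨sD d, by rw [aeval_C]; exact Submodule.mem_sup_left (hsD d)⟩
    | add p q hp hq =>
      obtain ⟨s, hs⟩ := hp
      obtain ⟨s', hs'⟩ := hq
      exact ⟨s + s', by rw [map_add, map_add, map_add, add_sub_add_comm]; exact add_mem hs hs'⟩
    | monomial n d ih =>
      obtain ⟨s, hs⟩ := ih
      refine ⟨s * σ, ?_⟩
      rw [pow_succ, ← mul_assoc, map_mul (aeval a) (Polynomial.C d * Polynomial.X ^ n), aeval_X, map_mul ι, map_mul j,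
        show ∀ u v p q : L ⊗[A] S, u * v - p * q = (u - p) * v + p * (v - q) from fun u v p q => by ring]
      exact add_mem (Ideal.mul_mem_right _ _ hs)
        (Ideal.mul_mem_left _ _ (Submodule.mem_sup_right (Ideal.mem_span_singleton_self w)))
  have hLS : ∀ z : L ⊗[A] S, ∃ s : S, z - j s ∈ M' := by
    intro z
    induction z using TensorProduct.induction_on with
    | zero => exact ⟨0, by rw [map_zero, sub_zero]; exact zero_mem _⟩
    | tmul b s =>
      obtain ⟨r, q, hq, hrq⟩ := hgen b
      obtain ⟨r', hr'⟩ := hevD r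
      obtain ⟨q', hq'⟩ := hevD q
      obtain ⟨c, hc⟩ := (hunit q' (by
        intro h0
        have h1 : ε (ι (aeval a q) - j q') = 0 := hM'N hq'
        rw [map_sub, show ε (ι (aeval a q)) = residue L (aeval a q) from hεB _,
          show ε (j q') = ψ q' from hεS q', h0, sub_zero] at h1
        exact (hq.map (residue L)).ne_zero h1)).exists_right_inv
      refine ⟨r' * c * s, ?_⟩
      have hb : b ⊗ₜ[A] s = ι b * j s := by
        show b ⊗ₜ[A] s = (b ⊗ₜ[A] (1 : S)) * ((1 : L) ⊗ₜ[A] s)
        rw [Algebra.TensorProduct.tmul_mul_tmul, mul_one, one_mul]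
      have hc' : j q' * j c = 1 := by rw [← map_mul, hc, map_one]
      have hrq' : ι b * ι (aeval a q) = ι (aeval a r) := by rw [← map_mul, hrq]
      rw [show b ⊗ₜ[A] s - j (r' * c * s) =
          j c * j s * ((ι (aeval a r) - j r') - ι b * (ι (aeval a q) - j q')) by
        rw [hb, map_mul, map_mul]; linear_combination (j c * j s) * hrq' - (ι b * j s) * hc']
      exact Ideal.mul_mem_left _ _ (sub_mem hr' (Ideal.mul_mem_left _ _ hq'))
    | add u v hu hv =>
      obtain ⟨s, hs⟩ := hu
      obtain ⟨s', hs'⟩ := hv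
      exact ⟨s + s', by rw [map_add, add_sub_add_comm]; exact add_mem hs hs'⟩
  have hNM' : N ≤ M' := by
    intro z hz
    obtain ⟨s, hs⟩ := hLS z
    have h0 : ε (z - j s) = 0 := hM'N hs
    rw [map_sub, show ε z = 0 from hz, zero_sub, neg_eq_zero, show ε (j s) = ψ s from hεS s] at h0
    have := add_mem hs (show j s ∈ M' from Submodule.mem_sup_left (hmM s (by
      rw [← hψk]; exact h0)))
    rwa [sub_add_cancel] at this
  -- separability kills the extra generator
  obtain ⟨v, hvN, hv⟩ : ∃ v ∉ N, v * w ∈ M := by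
    let gS : S[X] := ∑ i ∈ Finset.range (g.natDegree + 1), Polynomial.C (sD (g.coeff i)) * Polynomial.X ^ i
    have hψD : ∀ d, ψ (sD d) = residue L (algebraMap D L d) := fun d => by
      have h0 : ε (ι (algebraMap D L d) - j (sD d)) = 0 := hMN (hsD d)
      rw [map_sub, show ε (ι (algebraMap D L d)) = residue L (algebraMap D L d) from hεB _,
        show ε (j (sD d)) = ψ (sD d) from hεS _, sub_eq_zero] at h0
      exact h0.symm
    have hmapψ : gS.map ψ.toRingHom = g.map ((residue L).comp (algebraMap D L)) := by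
      conv_rhs => rw [g.as_sum_range_C_mul_X_pow]
      simp only [gS, Polynomial.map_sum, Polynomial.map_mul, Polynomial.map_pow, Polynomial.map_C, Polynomial.map_X]
      exact Finset.sum_congr rfl fun i _ => by
        rw [show ψ.toRingHom (sD (g.coeff i)) = ((residue L).comp (algebraMap D L)) (g.coeff i) from hψD _]
    let G : (L ⊗[A] S)[X] := gS.map j.toRingHom
    have hGa : G.eval (ι a) ∈ M := by
      have h1 : ι (aeval a g) - G.eval (ι a) ∈ M := by
        rw [Polynomial.eval_map, aeval_eq_sum_range, map_sum, eval₂_finsetSum, ← Finset.sum_sub_distrib]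
        refine Ideal.sum_mem _ fun i _ => ?_
        rw [eval₂_mul, eval₂_C, eval₂_X_pow, Algebra.smul_def, map_mul, map_pow, ← sub_mul]
        exact Ideal.mul_mem_right _ _ (hsD (g.coeff i))
      rw [hga, map_zero, zero_sub] at h1
      exact neg_mem_iff.1 h1
    have hψev : ∀ p : S[X], ψ (p.eval σ) = (p.map ψ.toRingHom).eval (residue L a) := fun p => by
      rw [← hσ, Polynomial.eval_map]
      exact (Polynomial.eval₂_hom ψ.toRingHom σ).symm
    have hGσ : G.eval (j σ) ∈ M := by
      rw [Polynomial.eval_map, show gS.eval₂ j.toRingHom (j σ) = j (gS.eval σ) from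
        Polynomial.eval₂_hom j.toRingHom σ]
      refine hmM _ ?_
      rw [← hψk, RingHom.mem_ker, hψev, hmapψ, Polynomial.eval_map, ← Polynomial.hom_eval₂,
        show g.eval₂ (algebraMap D L) a = 0 from hga, map_zero]
    obtain ⟨k, hk⟩ := Polynomial.binomExpansion G (j σ) w
    rw [show j σ + w = ι a from add_sub_cancel _ _] at hk
    refine ⟨G.derivative.eval (j σ) + k * w, fun h => ?_, ?_⟩
    · have h1 : ε (G.derivative.eval (j σ)) = 0 := (N.add_mem_iff_left (N.mul_mem_left k hwN)).1 h
      rw [Polynomial.derivative_map, Polynomial.eval_map,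
        show gS.derivative.eval₂ j.toRingHom (j σ) = j (gS.derivative.eval σ) from
          Polynomial.eval₂_hom j.toRingHom σ,
        show ε (j (gS.derivative.eval σ)) = ψ (gS.derivative.eval σ) from hεS _, hψev,
        ← Polynomial.derivative_map, hmapψ, Polynomial.derivative_map, Polynomial.eval_map,
        ← Polynomial.hom_eval₂] at h1
      exact (hg'.map (residue L)).ne_zero h1
    · rw [show (G.derivative.eval (j σ) + k * w) * w = G.eval (ι a) - G.eval (j σ) by rw [hk]; ring]
      exact sub_mem hGa hGσ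
  haveI : N.IsPrime := RingHom.ker_isPrime ε
  refine parafactorial_of_split_point hd hdim S hS N ?_ (fun z => ?_) t
    (hMN (Submodule.mem_sup_right (Ideal.mem_span_singleton_self t))) fun z hz => ⟨v, hvN, ?_⟩
  · ext b
    rw [Ideal.mem_comap, RingHom.mem_ker, Algebra.TensorProduct.algebraMap_apply, Algebra.algebraMap_self,
      RingHom.id_apply, hεB, residue_eq_zero_iff]
  · obtain ⟨s, hs⟩ := hLS z
    exact ⟨s, hM'N hs⟩
  · obtain ⟨m, hm, c, hc, rfl⟩ := Submodule.mem_sup.1 (hNM' hz)
    obtain ⟨d, rfl⟩ := Ideal.mem_span_singleton'.1 hc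
    rw [mul_add, mul_left_comm]
    exact add_mem (M.mul_mem_left v hm) (M.mul_mem_left d hv)

end Groth.Agent.ParaF26
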