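import Groth.Agent.ParaF26.Stalks
import Groth.Agent.ParaF26.Factorial
import Groth.Agent.Div89.UFD

/-!
Factoriality criteria with stalks.
-/

set_option autoImplicit false
set_option linter.style.haveILetI false
set_option backward.isDefEq.respectTransparency.types false

universe u

open CategoryTheory AlgebraicGeometry Opposite TopologicalSpace IsLocalRing

noncomputable section

namespace Groth.Agent.ParaF26

theorem ufd_congr {A B : Type u} [CommRing A] [CommRing B] (e : A ≃+* B)
    (h : IsDomain A ∧ UniqueFactorizationMonoid A) : IsDomain B ∧ UniqueFactorizationMonoid B := by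
  obtain ⟨_, hA⟩ := h
  exact ⟨MulEquiv.isDomain A e.symm.toMulEquiv, MulEquiv.uniqueFactorizationMonoid e.toMulEquiv hA⟩

/-- The stalks of `Spec A` are the localizations. -/
theorem nonempty_stalkEquiv {A : Type u} [CommRing A] (x : ↥(Spec (CommRingCat.of A))) (p : Ideal A) [p.IsPrime]
    (hp : (x : PrimeSpectrum A).asIdeal = p) :
    Nonempty ((Spec (CommRingCat.of A)).presheaf.stalk x ≃+* Localization.AtPrime p) := by
  subst hp
  let y : PrimeSpectrum A := x
  letI : Algebra A ((Spec (CommRingCat.of A)).presheaf.stalk x) := StructureSheaf.stalkAlgebra A y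
  haveI : IsLocalization.AtPrime ((Spec (CommRingCat.of A)).presheaf.stalk x) y.asIdeal :=
    StructureSheaf.IsLocalization.to_stalk A y
  exact ⟨(IsLocalization.algEquiv y.asIdeal.primeCompl _ (Localization.AtPrime y.asIdeal)).toRingEquiv⟩

theorem mem_punctured_iff {A : Type u} [CommRing A] [IsLocalRing A] (x : ↥(Spec (CommRingCat.of A))) :
    x ∈ FEt.puncturedSpec A ↔ (x : PrimeSpectrum A).asIdeal ≠ maximalIdeal A :=
  ⟨fun h e => h (PrimeSpectrum.ext e), fun h (hx : x = closedPoint A) => h (by rw [hx]; rfl)⟩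

variable {A : Type u} [CommRing A] [IsNoetherianRing A] [IsLocalRing A]

theorem ufd_iff_punctured (hdim : (2 : WithBot ℕ∞) ≤ ringKrullDim A) :
    (IsDomain A ∧ UniqueFactorizationMonoid A) ↔
      (ParaF.PicTrivial (FEt.puncturedSpec A : Scheme.{u}) ∧ (2 : ℕ∞) ≤ LocCoh.depth A A ∧
        ∀ y : ↥(Spec (CommRingCat.of A)), y ∈ FEt.puncturedSpec A →
          IsDomain ((Spec (CommRingCat.of A)).presheaf.stalk y) ∧
            UniqueFactorizationMonoid ((Spec (CommRingCat.of A)).presheaf.stalk y)) := by
  constructor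
  · rintro ⟨_, _⟩
    refine ⟨nonempty_iso_unit_of_ufd (A := CommRingCat.of A) (FEt.puncturedSpec A),
      CAlg1.two_le_depth_of_isIntegrallyClosed A hdim, fun y _ => ?_⟩
    haveI := (y : PrimeSpectrum A).2
    obtain ⟨e⟩ := nonempty_stalkEquiv y _ rfl
    exact ufd_congr e.symm ⟨inferInstance,
      Div89.ufm_of_isLocalization _ (y : PrimeSpectrum A).asIdeal.primeCompl_le_nonZeroDivisors⟩
  · rintro ⟨hpic, hd, hst⟩
    refine ufd_of_punctured hd hpic fun q hq => ?_
    obtain ⟨e⟩ := nonempty_stalkEquiv (A := A) q q.asIdeal rfl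
    exact ufd_congr e (hst q ((mem_punctured_iff (A := A) q).2 hq))

theorem isLocallyFactorial_of_pair {X : Scheme.{u}} [IsLocallyNoetherian X] (Y : Closeds ↥X)
    (h : ParaF.IsParafactorialPair X Y)
    (hU : ∀ x : ↥X, x ∉ Y → IsDomain (X.presheaf.stalk x) ∧ UniqueFactorizationMonoid (X.presheaf.stalk x)) :
    ParaF.IsLocallyFactorial X := by
  have hst := (isParafactorialPair_iff_stalks Y).1 h
  intro x
  obtain ⟨W, hW, hxW, -⟩ := exists_isAffineOpen_mem_and_subset (show x ∈ (⊤ : X.Opens) from trivial)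
  haveI : IsNoetherianRing Γ(X, W) := IsLocallyNoetherian.component_noetherian ⟨W, hW⟩
  suffices key : ∀ (n : ℕ∞) (z : X) (hz : z ∈ W), (hW.primeIdealOf ⟨z, hz⟩).asIdeal.height = n →
      IsDomain (X.presheaf.stalk z) ∧ UniqueFactorizationMonoid (X.presheaf.stalk z) from key _ x hxW rfl
  intro n
  induction n using WellFoundedLT.induction with
  | ind n ih =>
    intro z hz hn
    by_cases hzY : z ∈ Y
    swap
    · exact hU z hzY
    letI : Algebra Γ(X, W) (X.presheaf.stalk z) := (X.presheaf.germ W z hz).hom.toAlgebra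
    let p := hW.primeIdealOf ⟨z, hz⟩
    haveI : IsLocalization.AtPrime (X.presheaf.stalk z) p.asIdeal := hW.isLocalization_stalk ⟨z, hz⟩
    haveI : IsNoetherianRing (X.presheaf.stalk z) :=
      IsLocalization.isNoetherianRing p.asIdeal.primeCompl _ inferInstance
    obtain ⟨hd, hpic⟩ := parafactorial_iff.1 (hst z hzY)
    refine ufd_of_punctured hd hpic fun q hq => ?_
    let q₀ : PrimeSpectrum Γ(X, W) := ⟨q.asIdeal.comap (algebraMap _ _), inferInstance⟩
    have hlt : q₀.asIdeal < p.asIdeal := by
      refine lt_of_le_of_ne ?_ fun he => hq ?_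
      · exact (Ideal.comap_mono (IsLocalRing.le_maximalIdeal q.2.ne_top)).trans
          (IsLocalization.AtPrime.under_maximalIdeal (X.presheaf.stalk z) p.asIdeal).le
      · rw [← IsLocalization.map_under p.asIdeal.primeCompl (X.presheaf.stalk z) q.asIdeal,
          ← IsLocalization.map_under p.asIdeal.primeCompl (X.presheaf.stalk z) (maximalIdeal _)]
        exact congrArg (Ideal.map _) (he.trans (IsLocalization.AtPrime.under_maximalIdeal _ p.asIdeal).symm)
    let z' := hW.fromSpec q₀
    have hz' : z' ∈ W := hW.opensRange_fromSpec.le ⟨q₀, rfl⟩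
    have hp' : hW.primeIdealOf ⟨z', hz'⟩ = q₀ :=
      hW.fromSpec.isOpenEmbedding.injective (hW.fromSpec_primeIdealOf ⟨z', hz'⟩)
    have hht : (hW.primeIdealOf ⟨z', hz'⟩).asIdeal.height < n := by
      rw [hp', ← hn]
      exact Ideal.height_strict_mono_of_isPrime hlt
    letI : Algebra Γ(X, W) (X.presheaf.stalk z') := (X.presheaf.germ W z' hz').hom.toAlgebra
    haveI : IsLocalization.AtPrime (X.presheaf.stalk z') q₀.asIdeal := by
      have h' := hW.isLocalization_stalk ⟨z', hz'⟩
      rw [hp'] at h'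
      exact h'
    haveI : IsLocalization.AtPrime (Localization.AtPrime q.asIdeal) q₀.asIdeal :=
      IsLocalization.isLocalization_isLocalization_atPrime_isLocalization p.asIdeal.primeCompl _ q.asIdeal
    exact ufd_congr (IsLocalization.algEquiv q₀.asIdeal.primeCompl (X.presheaf.stalk z')
      (Localization.AtPrime q.asIdeal)).toRingEquiv (ih _ hht z' hz' rfl)

end Groth.Agent.ParaF26
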