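import Mathlib

/-!
Factoriality descends along flat local homomorphisms.
-/

set_option autoImplicit false

namespace Groth.Agent.ParaF26

theorem ufm_of_inter_principal {A : Type*} [CommRing A] [IsDomain A] [IsNoetherianRing A]
    (h : ∀ a b : A, (Ideal.span {a} ⊓ Ideal.span {b}).IsPrincipal) : UniqueFactorizationMonoid A := by
  refine { irreducible_iff_prime := fun {p} => ⟨fun hp => ⟨hp.ne_zero, hp.not_isUnit, fun a b hab => ?_⟩,
    Prime.irreducible⟩ }
  by_cases hpa : p ∣ a
  · exact Or.inl hpa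
  refine Or.inr ?_
  obtain ⟨c, hc⟩ := h p a
  have hc' : Ideal.span {p} ⊓ Ideal.span {a} = Ideal.span {c} := hc
  obtain ⟨e, he⟩ := Ideal.mem_span_singleton.1 (hc'.ge (Ideal.mem_span_singleton_self c)).2
  obtain ⟨d, hd⟩ : c ∣ p * a := Ideal.mem_span_singleton.1
    (hc'.le ⟨Ideal.mul_mem_right _ _ (Ideal.mem_span_singleton_self p),
      Ideal.mul_mem_left _ _ (Ideal.mem_span_singleton_self a)⟩)
  have ha : a ≠ 0 := fun ha => hpa (ha ▸ dvd_zero p)
  have hed : p = e * d := mul_left_cancel₀ ha (by linear_combination hd + d * he)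
  rcases hp.isUnit_or_isUnit hed with hu | hu
  · refine absurd ?_ hpa
    obtain ⟨f, hf⟩ := Ideal.mem_span_singleton.1 (hc'.ge (Ideal.mem_span_singleton_self c)).1
    exact (hu.dvd_mul_right).1 ⟨f, by rw [← hf, he]⟩
  · have h1 : p * a ∣ c := ⟨(hu.unit⁻¹ : Aˣ).1, by rw [hd, mul_assoc, IsUnit.mul_val_inv, mul_one]⟩
    have h2 : c ∣ a * b := Ideal.mem_span_singleton.1 (hc'.le
      ⟨Ideal.mem_span_singleton.2 hab, Ideal.mul_mem_right _ _ (Ideal.mem_span_singleton_self a)⟩)
    exact (mul_dvd_mul_iff_left ha).1 (by rw [mul_comm a p]; exact h1.trans h2)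

variable {A B : Type*} [CommRing A] [CommRing B] [IsLocalRing A] [IsLocalRing B] [Algebra A B]
  [IsLocalHom (algebraMap A B)] [Module.Flat A B]

theorem faithfullyFlat : Module.FaithfullyFlat A B :=
  Module.FaithfullyFlat.of_flat_of_isLocalHom

theorem isPrincipal_of_map [IsDomain B] [IsNoetherianRing A] (I : Ideal A) (c : B)
    (hc : I.map (algebraMap A B) = Ideal.span {c}) : I.IsPrincipal := by
  haveI := faithfullyFlat (A := A) (B := B)
  by_cases hc0 : c = 0
  · refine ⟨0, ?_⟩
    have h := congrArg (Ideal.comap (algebraMap A B)) hc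
    rw [Ideal.comap_map_eq_self_of_faithfullyFlat, hc0] at h
    rw [h, Ideal.span_singleton_zero]
    exact le_antisymm (fun x hx => Submodule.mem_span_singleton.2
      ⟨0, by rw [zero_smul]; exact (FaithfulSMul.algebraMap_injective A B
        (((Submodule.mem_bot B).1 hx).trans (map_zero _).symm)).symm⟩)
      (Submodule.span_le.2 (by simp))
  by_contra hno
  have key : ∀ x ∈ I, ∃ d ∈ IsLocalRing.maximalIdeal B, algebraMap A B x = c * d := by
    intro x hx
    obtain ⟨d, hd⟩ := Ideal.mem_span_singleton.1 (hc.le (Ideal.mem_map_of_mem _ hx))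
    refine ⟨d, fun hdu => hno ⟨x, ?_⟩, hd⟩
    have h2 : I.map (algebraMap A B) = (Ideal.span {x}).map (algebraMap A B) := by
      rw [hc, Ideal.map_span, Set.image_singleton, hd, Ideal.span_singleton_mul_right_unit hdu]
    have h3 := congrArg (Ideal.comap (algebraMap A B)) h2
    rw [Ideal.comap_map_eq_self_of_faithfullyFlat, Ideal.comap_map_eq_self_of_faithfullyFlat] at h3
    exact h3
  have hle : I.map (algebraMap A B) ≤ Ideal.span {c} * IsLocalRing.maximalIdeal B :=
    Ideal.map_le_iff_le_comap.2 fun x hx => by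
      obtain ⟨d, hd, he⟩ := key x hx
      exact Ideal.mem_comap.2 (he ▸ Ideal.mul_mem_mul (Ideal.mem_span_singleton_self c) hd)
  obtain ⟨d, hd, he⟩ := Ideal.mem_span_singleton_mul.1 (hle (hc.ge (Ideal.mem_span_singleton_self c)))
  exact hd (by rw [mul_left_cancel₀ hc0 (he.trans (mul_one c).symm)]; exact isUnit_one)

theorem map_span_inf (a b : A) :
    (Ideal.span {a} ⊓ Ideal.span {b}).map (algebraMap A B) =
      Ideal.span {algebraMap A B a} ⊓ Ideal.span {algebraMap A B b} := by
  refine le_antisymm (le_inf ?_ ?_) ?_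
  · exact (Ideal.map_mono inf_le_left).trans (by rw [Ideal.map_span, Set.image_singleton])
  · exact (Ideal.map_mono inf_le_right).trans (by rw [Ideal.map_span, Set.image_singleton])
  · rintro z ⟨hza, hzb⟩
    obtain ⟨x, rfl⟩ := Ideal.mem_span_singleton.1 hza
    obtain ⟨y, hy⟩ := Ideal.mem_span_singleton.1 hzb
    have h0 : ∑ i, (![a, -b] : Fin 2 → A) i • (![x, y] : Fin 2 → B) i = 0 := by
      simp [Fin.sum_univ_two, Algebra.smul_def, hy]
    obtain ⟨k, α, w, hw, hrel⟩ := Module.Flat.isTrivialRelation_of_sum_smul_eq_zero (R := A) (M := B) h0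
    have hx : x = ∑ j, α 0 j • w j := hw 0
    rw [hx, Finset.mul_sum]
    refine Ideal.sum_mem _ fun j _ => ?_
    rw [Algebra.smul_def, ← mul_assoc, ← map_mul]
    refine Ideal.mul_mem_right _ _ (Ideal.mem_map_of_mem _ ⟨Ideal.mul_mem_right _ _ (Ideal.mem_span_singleton_self a), ?_⟩)
    have h1 := hrel j
    simp [Fin.sum_univ_two] at h1
    exact Ideal.mem_span_singleton.2 ⟨α 1 j, by linear_combination h1⟩

theorem ufd_of_flat [IsDomain B] [IsNoetherianRing A] (hB : UniqueFactorizationMonoid B) :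
    IsDomain A ∧ UniqueFactorizationMonoid A := by
  classical
  haveI := faithfullyFlat (A := A) (B := B)
  haveI : IsDomain A := (FaithfulSMul.algebraMap_injective A B).isDomain (algebraMap A B)
  letI : GCDMonoid B := UniqueFactorizationMonoid.toGCDMonoid B
  refine ⟨inferInstance, ufm_of_inter_principal fun a b => ?_⟩
  refine isPrincipal_of_map (B := B) _ (lcm (algebraMap A B a) (algebraMap A B b)) ?_
  rw [map_span_inf]
  ext x
  simp only [Submodule.mem_inf, Ideal.mem_span_singleton]
  exact lcm_dvd_iff.symm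

end Groth.Agent.ParaF26
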