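import Groth.Agent.Hensel20.StageFibre
import Groth.Agent.Henz21.LocalLift
import Groth.Agent.Henz21.Unique
import Groth.Agent.ParaF26.UFDDescent
import Groth.Agent.ParaF26.FactorRows
import Mathlib.FieldTheory.IsSepClosed

/-!
Localizations of strict henselizations and strict henselizations of localizations.
-/

set_option autoImplicit false
set_option linter.style.haveILetI false
set_option linter.unusedSectionVars false

universe u

open IsLocalRing TensorProduct

noncomputable section

namespace Groth.Agent.ParaF26

open Henz21 Hensel20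

variable {R K : Type u} [CommRing R] [Field K] [Algebra R K]

/-- An algebra over the henselization which is flat over the base is flat. -/
theorem flat_over_H {T : Type u} [CommRing T] [Algebra R T] [Algebra (H R K) T] [IsScalarTower R (H R K) T]
    [Module.Flat R T] : Module.Flat (H R K) T := by
  classical
  refine Module.Flat.iff_forall_isTrivialRelation.2 fun {l f x} hfx => ?_
  obtain ⟨i, hi⟩ := exists_stage (R := R) (K := K) (Finset.univ : Finset (Fin l)) f
  choose f' hf' using fun k => hi k (Finset.mem_univ k)
  letI : Algebra (Stage i) T := ((algebraMap (H R K) T).comp (stageHom i).toRingHom).toAlgebra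
  haveI : IsScalarTower R (Stage i) T := IsScalarTower.of_algebraMap_eq fun r => by
    show algebraMap R T r = algebraMap (H R K) T (stageHom i (algebraMap R (Stage i) r))
    rw [AlgHom.commutes, ← IsScalarTower.algebraMap_apply]
  haveI : Module.Flat (Stage i) T := flat_of_formallyUnramified R (Stage i) T
  have hs : ∀ (a : Stage i) (t : T), a • t = stageHom i a • t := fun a t =>
    ((Algebra.smul_def a t).trans (Algebra.smul_def (stageHom i a) t).symm :)
  obtain ⟨n, a, y, hy, ha⟩ := Module.Flat.isTrivialRelation_of_sum_smul_eq_zero (R := Stage i) (M := T)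
    (f := f') (x := x) (by simpa [hs, hf'] using hfx)
  refine ⟨n, fun k j => stageHom i (a k j), y, fun k => ?_, fun j => ?_⟩
  · rw [hy k]
    exact Finset.sum_congr rfl fun j _ => hs _ _
  · rw [← map_zero (stageHom i), ← ha j, map_sum]
    exact Finset.sum_congr rfl fun k _ => by rw [map_mul, hf']

variable [IsLocalRing R] [IsLocalHom (algebraMap R K)] [IsNoetherianRing R]

local instance resAlg (q : Ideal (H R K)) [q.IsPrime] : Algebra (q.under R).ResidueField q.ResidueField :=
  (Ideal.ResidueField.map (q.under R) q (algebraMap R (H R K)) rfl).toAlgebra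

local instance resTower (q : Ideal (H R K)) [q.IsPrime] : IsScalarTower R (q.under R).ResidueField q.ResidueField :=
  IsScalarTower.of_algebraMap_eq fun r => by
    rw [RingHom.algebraMap_toAlgebra, Ideal.ResidueField.map_algebraMap]
    exact IsScalarTower.algebraMap_apply R (H R K) q.ResidueField r

/-- The residue extensions at the primes of the henselization are separable. -/
theorem isSeparable_residueField_H (q : Ideal (H R K)) [q.IsPrime] :
    Algebra.IsSeparable (q.under R).ResidueField q.ResidueField := by
  let κ := (q.under R).ResidueField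
  let f : κ ⊗[R] H R K →ₐ[κ] q.ResidueField :=
    Algebra.TensorProduct.lift (Algebra.ofId κ q.ResidueField)
      (IsScalarTower.toAlgHom R (H R K) q.ResidueField) fun _ _ => Commute.all _ _
  haveI : (RingHom.ker f.toRingHom).IsPrime := RingHom.ker_isPrime _
  haveI : IsArtinianRing (κ ⊗[R] H R K) := (fibre_H_structure (K := K) (q.under R)).2.2
  haveI : (RingHom.ker f.toRingHom).IsMaximal := Ideal.isMaximal_of_isPrime _
  haveI : Algebra.IsSeparable κ ((κ ⊗[R] H R K) ⧸ RingHom.ker f.toRingHom) :=
    isSeparable_fibre_quotient (K := K) (q.under R) (RingHom.ker f.toRingHom)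
  let g : ((κ ⊗[R] H R K) ⧸ RingHom.ker f.toRingHom) →ₐ[κ] q.ResidueField := Ideal.kerLiftAlg f
  have hg : Function.Surjective g := by
    intro x
    obtain ⟨a, b, hb, rfl⟩ := IsFractionRing.div_surjective ((H R K) ⧸ q) x
    obtain ⟨a, rfl⟩ := Ideal.Quotient.mk_surjective a
    obtain ⟨b, rfl⟩ := Ideal.Quotient.mk_surjective b
    letI : Field ((κ ⊗[R] H R K) ⧸ RingHom.ker f.toRingHom) := Ideal.Quotient.field _
    have hh : ∀ c : H R K, g (Ideal.Quotient.mk _ ((1 : κ) ⊗ₜ[R] c)) =
        algebraMap ((H R K) ⧸ q) q.ResidueField (Ideal.Quotient.mk q c) := fun c => by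
      show f ((1 : κ) ⊗ₜ[R] c) = _
      rw [Algebra.TensorProduct.lift_tmul, map_one, one_mul]
      rfl
    refine ⟨Ideal.Quotient.mk _ ((1 : κ) ⊗ₜ[R] a) / Ideal.Quotient.mk _ ((1 : κ) ⊗ₜ[R] b), ?_⟩
    rw [div_eq_mul_inv, map_mul, map_inv₀, hh, hh, div_eq_mul_inv]
  haveI := AlgEquiv.Algebra.isSeparable (F := κ) (AlgEquiv.ofBijective g ⟨Ideal.kerLiftAlg_injective f, hg⟩)
  assumption

/-- A prime of the henselization is the preimage of the closed point of any strictly henselian ring over it. -/
theorem exists_map_H (q : Ideal (H R K)) [q.IsPrime] (T : Type u) [CommRing T] [HenselianLocalRing T]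
    [Algebra R T] [IsSepClosed (ResidueField T)] (hT : (maximalIdeal T).comap (algebraMap R T) = q.under R) :
    ∃ φ : H R K →ₐ[R] T, (maximalIdeal T).comap φ = q := by
  haveI := isSeparable_residueField_H q
  let κ := (q.under R).ResidueField
  let j : κ →+* ResidueField T := Ideal.ResidueField.lift (q.under R) (algebraMap R (ResidueField T))
    (fun r hr => by
      rw [RingHom.mem_ker, IsScalarTower.algebraMap_apply R T (ResidueField T)]
      exact (residue_eq_zero_iff _).2 (by rw [← Ideal.mem_comap, hT]; exact hr))
    fun r hr => by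
      show IsUnit (algebraMap R (ResidueField T) r)
      rw [IsScalarTower.algebraMap_apply R T (ResidueField T), isUnit_iff_ne_zero]
      exact fun h => hr (hT ▸ Ideal.mem_comap.2 ((residue_eq_zero_iff _).1 h))
  letI : Algebra κ (ResidueField T) := j.toAlgebra
  haveI : IsScalarTower R κ (ResidueField T) := IsScalarTower.of_algebraMap_eq fun r =>
    (Ideal.ResidueField.lift_algebraMap _ _ _ _ r).symm
  let τ : q.ResidueField →ₐ[κ] ResidueField T := IsSepClosed.lift
  let σ : H R K →ₐ[R] ResidueField T :=
    (τ.restrictScalars R).comp (IsScalarTower.toAlgHom R (H R K) q.ResidueField)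
  let π : T →ₐ[R] ResidueField T := IsScalarTower.toAlgHom R T (ResidueField T)
  choose g hg hu using fun i : Pt R K => existsUnique_lift (σ.comp (H.incl i))
  have hc : ∀ (i k : Pt R K) (f : i ⟶ k), (g k).comp f.φ = g i := fun i k f => hu i _ (by
    show π.comp ((g k).comp f.φ) = _
    rw [← AlgHom.comp_assoc, hg k, AlgHom.comp_assoc, H.incl_comp])
  refine ⟨H.lift g hc, Ideal.ext fun x => ?_⟩
  obtain ⟨i, s, rfl⟩ := H.exists_rep x
  rw [Ideal.mem_comap, H.lift_incl, ← residue_eq_zero_iff]
  have h1 : residue T (g i s) = τ (algebraMap (H R K) q.ResidueField (H.incl i s)) :=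
    DFunLike.congr_fun (hg i) s
  rw [h1, map_eq_zero_iff τ τ.toRingHom.injective, Ideal.algebraMap_residueField_eq_zero]

/-- Factoriality descends to localizations of the henselization from flat strictly henselian rings over them. -/
theorem ufd_atPrime_H (q : Ideal (H R K)) [q.IsPrime] (T : Type u) [CommRing T] [HenselianLocalRing T]
    [Algebra R T] [IsSepClosed (ResidueField T)] [Module.Flat R T]
    (hT : (maximalIdeal T).comap (algebraMap R T) = q.under R)
    [IsDomain T] [UniqueFactorizationMonoid T] :
    IsDomain (Localization.AtPrime q) ∧ UniqueFactorizationMonoid (Localization.AtPrime q) := by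
  obtain ⟨φ, hφ⟩ := exists_map_H q T hT
  letI : Algebra (H R K) T := φ.toRingHom.toAlgebra
  haveI : IsScalarTower R (H R K) T := IsScalarTower.of_algebraMap_eq fun r => (φ.commutes r).symm
  haveI : Module.Flat (H R K) T := flat_over_H
  have hu : ∀ y : q.primeCompl, IsUnit (φ (y : H R K)) := fun y => by
    by_contra h
    exact y.2 (hφ.le ((mem_maximalIdeal _).2 h))
  let ψ : Localization.AtPrime q →+* T := IsLocalization.lift hu
  letI : Algebra (Localization.AtPrime q) T := ψ.toAlgebra
  haveI : IsScalarTower (H R K) (Localization.AtPrime q) T :=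
    IsScalarTower.of_algebraMap_eq fun x => (IsLocalization.lift_eq hu x).symm
  haveI : Module.Flat (Localization.AtPrime q) T :=
    (Module.flat_iff_of_isLocalization (Localization.AtPrime q) q.primeCompl T).2 inferInstance
  haveI : IsLocalHom (algebraMap (Localization.AtPrime q) T) := ⟨fun x hx => by
    obtain ⟨a, b, rfl⟩ := IsLocalization.exists_mk'_eq q.primeCompl x
    rw [IsLocalization.AtPrime.isUnit_mk'_iff]
    intro ha
    have h2 : ψ (IsLocalization.mk' _ a b) * φ b = φ a := by
      rw [show φ b = ψ (algebraMap _ _ (b : H R K)) from (IsLocalization.lift_eq hu _).symm,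
        show φ a = ψ (algebraMap _ _ a) from (IsLocalization.lift_eq hu _).symm, ← map_mul, IsLocalization.mk'_spec]
    exact (mem_maximalIdeal _).1 (Ideal.mem_comap.1 (hφ.ge ha)) (h2 ▸ hx.mul (hu b))⟩
  haveI := isNoetherianRing_H (R := R) (K := K)
  exact ufd_of_flat (B := T) inferInstance

end Groth.Agent.ParaF26
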