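import Groth.Agent.ParaF26.RegularHomPara
import Groth.Agent.ParaF26.EtaleGenerator
import Groth.Agent.ParaF26.SHLoc
import Groth.Agent.FlatCrit65.HensWE
import Groth.Agent.Henz21.ShBranch
import Groth.Agent.Hensel20.FibreRegular
import Groth.Agent.CAlg4.RegHomLoc
import Groth.Agent.CAlg4.QFRegular
import Groth.Agent.CAlg1.SerreNormal
import Groth.Agent.S2039
import Groth.Agent.S2743
import Groth.Agent.S11960

/-!
Geometric parafactoriality for formally smooth algebras and regular homomorphisms.
-/

set_option autoImplicit false
set_option linter.style.haveILetI false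
set_option backward.isDefEq.respectTransparency.types false

universe u

open IsLocalRing

noncomputable section

namespace Groth.Agent.ParaF26

/-- Parafactorial together with all strict henselizations. -/
def GeomPara (B : Type u) [CommRing B] [IsLocalRing B] : Prop :=
  ParaF.IsParafactorialLocalRing B ∧
    ∀ (S : Type u) [CommRing S] [IsLocalRing S] [Algebra B S] [IsLocalHom (algebraMap B S)],
      Hensel.IsStrictHenselization B S → ParaF.IsParafactorialLocalRing S

theorem isRegularHom_strictHenselization (R S : Type u) [CommRing R] [IsLocalRing R] [IsNoetherianRing R]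
    [CommRing S] [IsLocalRing S] [Algebra R S] [IsLocalHom (algebraMap R S)] [Hensel.IsStrictHenselization R S] :
    CAlg.IsRegularHom R S := by
  haveI : IsNoetherianRing S := Henz21.isNoetherianRing_strictHenselization R S
  haveI : Module.FaithfullyFlat R S := Henz21.strictHenselization_faithfullyFlat (R := R) S
  have hF : Hensel20.HasSeparableFibres R S := fun p _ =>
    Hensel20.exists_fields_fibre p (Henz21.strictHenselizationEquiv (R := R) S)
  exact Hensel20.isRegularHom_base_of_top S hF (CAlg4.QFRegular.isRegularHom_of_bijective S S Function.bijective_id)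

/-- A regular local homomorphism with positive fibre dimension: geometric parafactoriality in depth three. -/
theorem geomPara_of_regularHom {A E : Type u} [CommRing A] [IsLocalRing A] [IsNoetherianRing A]
    [CommRing E] [IsLocalRing E] [IsNoetherianRing E] [Algebra A E] [IsLocalHom (algebraMap A E)]
    (h : CAlg.IsRegularHom A E)
    (hF1 : ringKrullDim (E ⧸ (maximalIdeal A).map (algebraMap A E)) ≠ 0)
    (hd : (3 : ℕ∞) ≤ LocCoh.depth E E) : GeomPara E := by
  refine ⟨parafactorial_of_regularHom h hF1 hd, fun S _ _ _ _ hS => ?_⟩
  haveI := hS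
  haveI : IsNoetherianRing S := Henz21.isNoetherianRing_strictHenselization E S
  have hreg := isRegularHom_strictHenselization E S
  haveI : Module.Flat E S := hreg.1
  letI : Algebra A S := ((algebraMap E S).comp (algebraMap A E)).toAlgebra
  haveI : IsScalarTower A E S := IsScalarTower.of_algebraMap_eq fun _ => rfl
  haveI : IsLocalHom (algebraMap A S) := by
    rw [IsScalarTower.algebraMap_eq A E S]; infer_instance
  refine parafactorial_of_regularHom
    (CAlg5.isRegularHom_comp A E S h hreg fun p _ => CAlg4.RegHomLoc.isNoetherianRing_fiber p)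
    (fibre_dim_ne_zero_of_flat (A := A) (D := E) hF1) ?_
  exact hd.trans (le_self_add.trans (CAlg1.depth_of_flat_local E S).ge)

/-- A power of the maximal ideal in an ideal makes the quotient zero-dimensional. -/
theorem ringKrullDim_quotient_eq_zero_of_pow_le {E : Type u} [CommRing E] [IsLocalRing E] (J : Ideal E)
    (hJ : J ≤ maximalIdeal E) (k : ℕ) (h : maximalIdeal E ^ k ≤ J) : ringKrullDim (E ⧸ J) = 0 := by
  haveI : Nontrivial (E ⧸ J) :=
    Ideal.Quotient.nontrivial_iff.2 (ne_top_of_le_ne_top (maximalIdeal.isMaximal E).ne_top hJ)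
  haveI : Ring.KrullDimLE 0 (E ⧸ J) := by
    rw [Ring.krullDimLE_zero_iff]
    intro P hP
    haveI := hP
    have h1 : P.comap (Ideal.Quotient.mk J) = maximalIdeal E := by
      refine le_antisymm (le_maximalIdeal (Ideal.IsPrime.comap _).ne_top)
        ((Ideal.IsPrime.pow_le_iff (n := k + 1) (by omega)).1 ((Ideal.pow_le_pow_right k.le_succ).trans (h.trans ?_)))
      exact fun x hx => Ideal.mem_comap.2 (by rw [Ideal.Quotient.eq_zero_iff_mem.2 hx]; exact zero_mem _)
    rw [← Ideal.map_comap_of_surjective _ Ideal.Quotient.mk_surjective P, h1]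
    exact Ideal.IsMaximal.map_of_surjective_of_ker_le Ideal.Quotient.mk_surjective (by rwa [Ideal.mk_ker])
  exact ringKrullDimZero_iff_ringKrullDim_eq_zero.1 inferInstance

/-- Descent along flat local maps with zero-dimensional closed fibre. -/
theorem geomPara_descend {E E' : Type u} [CommRing E] [IsLocalRing E] [IsNoetherianRing E]
    [CommRing E'] [IsLocalRing E'] [IsNoetherianRing E'] [Algebra E E'] [IsLocalHom (algebraMap E E')]
    [Module.Flat E E'] (hfib : ringKrullDim (E' ⧸ (maximalIdeal E).map (algebraMap E E')) = 0)
    (h : GeomPara E') : GeomPara E := by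
  refine ⟨parafactorial_of_flat hfib h.1, fun S _ _ _ _ hS => ?_⟩
  haveI := hS
  let S' := Henz21.StrictHenselization E'
  have hS' : Hensel.IsStrictHenselization E' S' := Henz21.StrictHenselization.isStrictHenselization E'
  haveI : IsNoetherianRing S := Henz21.isNoetherianRing_strictHenselization E S
  haveI : IsNoetherianRing S' := Henz21.isNoetherianRing_strictHenselization E' S'
  haveI := hS'.henselian
  haveI : IsSepClosure (ResidueField E) (ResidueField S) := hS.isSepClosure
  haveI : IsSepClosure (ResidueField E') (ResidueField S') := hS'.isSepClosure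
  haveI : IsSepClosed (ResidueField S') := IsSepClosure.sep_closed (ResidueField E')
  haveI : Algebra.IsSeparable (ResidueField E) (ResidueField S) := IsSepClosure.separable
  haveI : Module.FaithfullyFlat E' S' := Henz21.strictHenselization_faithfullyFlat (R := E') S'
  letI : Algebra E S' := ((algebraMap E' S').comp (algebraMap E E')).toAlgebra
  haveI : IsScalarTower E E' S' := IsScalarTower.of_algebraMap_eq fun _ => rfl
  haveI : IsLocalHom (algebraMap E S') := by
    rw [IsScalarTower.algebraMap_eq E E' S']; infer_instance
  let τ : ResidueField S →ₐ[ResidueField E] ResidueField S' := IsSepClosed.lift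
  obtain ⟨g, ⟨hg, hgr⟩, -⟩ := hS.universal S' (algebraMap E S') τ.toRingHom (RingHom.ext fun x => τ.commutes x)
  letI : Algebra S S' := g.toAlgebra
  haveI : IsScalarTower E S S' := IsScalarTower.of_algebraMap_eq fun x => (RingHom.congr_fun hg x).symm
  haveI : IsLocalHom (algebraMap S S') := ((local_hom_TFAE (algebraMap S S')).out 2 0).mp
    (Ideal.map_le_iff_le_comap.2 fun x hx => by
      rw [Ideal.mem_comap, ← residue_eq_zero_iff]
      exact (hgr x).trans (by rw [(residue_eq_zero_iff x).2 hx, map_zero]))
  haveI : Module.Flat E S' := Module.Flat.trans E E' S'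
  haveI : Algebra.WeaklyEtale E S := FlatCrit65.weaklyEtale_strictHenselization E S
  haveI : Module.Flat S S' := FlatMor67.flat_of_flat_lmul' (Algebra.WeaklyEtale.flat_lmul' E S) S'
  refine parafactorial_of_flat ?_ (h.2 S' hS')
  let J := (maximalIdeal S).map (algebraMap S S')
  have hJ : J = ((maximalIdeal E).map (algebraMap E E')).map (algebraMap E' S') := by
    show Ideal.map _ _ = _
    rw [← Henz21.strictHenselization_map_maximalIdeal (R := E) S, Ideal.map_map, Ideal.map_map,
      ← IsScalarTower.algebraMap_eq, ← IsScalarTower.algebraMap_eq]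
  have hle : (maximalIdeal E).map (algebraMap E E') ≤ maximalIdeal E' :=
    Ideal.map_le_iff_le_comap.2 fun c hc => map_nonunit _ c hc
  obtain ⟨k, hk⟩ := exists_pow_le_of_dim_zero _ (ne_top_of_le_ne_top (maximalIdeal.isMaximal E').ne_top hle) hfib
  refine ringKrullDim_quotient_eq_zero_of_pow_le J (Ideal.map_le_iff_le_comap.2 fun c hc => map_nonunit _ c hc) k ?_
  rw [hJ, ← Henz21.strictHenselization_map_maximalIdeal (R := E') S', ← Ideal.map_pow]
  exact Ideal.map_mono hk

/-- Localisations of a regular homomorphism off the minimal primes of the fibres. -/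
theorem fibre_dim_ne_zero_of_not_minimal {A B : Type u} [CommRing A] [CommRing B] [IsNoetherianRing A]
    [IsNoetherianRing B] [Algebra A B] (q : Ideal B) [q.IsPrime] (p : Ideal A) [p.IsPrime] [q.LiesOver p]
    [Algebra (Localization.AtPrime p) (Localization.AtPrime q)]
    [IsScalarTower A (Localization.AtPrime p) (Localization.AtPrime q)]
    (hq : q ∉ (p.map (algebraMap A B)).minimalPrimes) :
    ringKrullDim (Localization.AtPrime q ⧸
      (maximalIdeal (Localization.AtPrime p)).map (algebraMap (Localization.AtPrime p) (Localization.AtPrime q))) ≠ 0 := by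
  intro h0
  let L := Localization.AtPrime q
  haveI : IsNoetherianRing L := IsLocalization.isNoetherianRing q.primeCompl _ inferInstance
  let I := (maximalIdeal (Localization.AtPrime p)).map (algebraMap (Localization.AtPrime p) L)
  have hI : I = (p.map (algebraMap A B)).map (algebraMap B L) := by
    show Ideal.map _ _ = _
    rw [← Localization.AtPrime.map_eq_maximalIdeal, Ideal.map_map, ← IsScalarTower.algebraMap_eq, Ideal.map_map,
      ← IsScalarTower.algebraMap_eq]
  have hpq : p.map (algebraMap A B) ≤ q := Ideal.map_le_iff_le_comap.2 (q.over_def p).le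
  have hIm : I ≤ maximalIdeal L := by
    rw [hI, ← Localization.AtPrime.map_eq_maximalIdeal]
    exact Ideal.map_mono hpq
  obtain ⟨k, hk⟩ := exists_pow_le_of_dim_zero I (ne_top_of_le_ne_top (maximalIdeal.isMaximal L).ne_top hIm) h0
  refine hq ⟨⟨inferInstance, hpq⟩, fun P hP hPq x hx => ?_⟩
  haveI := hP.1
  have hdisj : Disjoint (q.primeCompl : Set B) (P : Set B) :=
    Set.disjoint_left.2 fun w hw hw' => hw (hPq hw')
  have h1 : algebraMap B L (x ^ k) ∈ P.map (algebraMap B L) := by
    refine (hI.le.trans (Ideal.map_mono hP.2)) (hk ?_)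
    rw [map_pow]
    exact Ideal.pow_mem_pow ((IsLocalization.AtPrime.to_map_mem_maximal_iff L q x).2 hx) k
  rw [← Ideal.mem_comap, ← Ideal.under_def, IsLocalization.under_map_of_isPrime_disjoint q.primeCompl L hP.1 hdisj] at h1
  exact hP.1.mem_of_pow_mem k h1

/-- Localisations of regular homomorphisms. -/
theorem geomPara_atPrime_of_regularHom {A B : Type u} [CommRing A] [CommRing B] [IsNoetherianRing A]
    [IsNoetherianRing B] [Algebra A B] (h : CAlg.IsRegularHom A B) (q : Ideal B) [q.IsPrime]
    (hq : q ∉ ((q.comap (algebraMap A B)).map (algebraMap A B)).minimalPrimes)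
    (hd : (3 : ℕ∞) ≤ LocCoh.depth (Localization.AtPrime q) (Localization.AtPrime q)) :
    GeomPara (Localization.AtPrime q) := by
  let p := q.comap (algebraMap A B)
  haveI : q.LiesOver p := ⟨rfl⟩
  letI := (Localization.localRingHom p q (algebraMap A B) rfl).toAlgebra
  haveI : IsScalarTower A (Localization.AtPrime p) (Localization.AtPrime q) := .of_algebraMap_eq fun r => by
    rw [RingHom.algebraMap_toAlgebra, Localization.localRingHom_to_map, ← IsScalarTower.algebraMap_apply]
  haveI : IsNoetherianRing (Localization.AtPrime p) := IsLocalization.isNoetherianRing p.primeCompl _ inferInstance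
  haveI : IsNoetherianRing (Localization.AtPrime q) := IsLocalization.isNoetherianRing q.primeCompl _ inferInstance
  haveI : IsLocalHom (algebraMap (Localization.AtPrime p) (Localization.AtPrime q)) :=
    Localization.isLocalHom_localRingHom p q _ _
  exact geomPara_of_regularHom (CAlg4.RegHomLoc.localization_isRegularHom h q) (fibre_dim_ne_zero_of_not_minimal q p hq) hd

/-- Flat descent of geometric parafactoriality to a localisation. -/
theorem geomPara_atPrime_descend {B R : Type u} [CommRing B] [CommRing R] [IsNoetherianRing B]
    [IsNoetherianRing R] [Algebra B R] [Module.Flat B R] (q : Ideal B) [q.IsPrime] (Q : Ideal R) [Q.IsPrime]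
    [Q.LiesOver q] (hQ : Q ∈ (q.map (algebraMap B R)).minimalPrimes)
    (h : GeomPara (Localization.AtPrime Q)) : GeomPara (Localization.AtPrime q) := by
  letI := Localization.AtPrime.algebraOfLiesOver q Q
  haveI : IsNoetherianRing (Localization.AtPrime q) := IsLocalization.isNoetherianRing q.primeCompl _ inferInstance
  haveI : IsNoetherianRing (Localization.AtPrime Q) := IsLocalization.isNoetherianRing Q.primeCompl _ inferInstance
  haveI : IsLocalHom (algebraMap (Localization.AtPrime q) (Localization.AtPrime Q)) :=
    Localization.isLocalHom_localRingHom q Q _ _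
  exact geomPara_descend (fibre_dim_zero_of_minimal q Q hQ) h

/-- A regular local ring of dimension at least two is geometrically parafactorial. -/
theorem geomPara_of_regular {E : Type u} [CommRing E] [IsRegularLocalRing E]
    (hd : (2 : WithBot ℕ∞) ≤ ringKrullDim E) : GeomPara E := by
  refine ⟨parafactorial_of_regular hd, fun S _ _ _ _ hS => ?_⟩
  haveI := hS
  haveI : IsRegularLocalRing S := (S2743.result E S).2 inferInstance
  haveI : Module.FaithfullyFlat E S := Henz21.strictHenselization_faithfullyFlat (R := E) S
  refine parafactorial_of_regular (hd.trans ?_)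
  rw [← maximalIdeal_height_eq_ringKrullDim, ← maximalIdeal_height_eq_ringKrullDim]
  refine WithBot.coe_le_coe.2 ?_
  have : (maximalIdeal S).LiesOver (maximalIdeal E) := ⟨by rw [Ideal.under_def, maximalIdeal_comap]⟩
  rw [Ideal.height_eq_height_add_of_liesOver_of_hasGoingDown (maximalIdeal E) (maximalIdeal S)]
  exact le_self_add

end Groth.Agent.ParaF26
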