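import Groth.Agent.ParaF26.Factorial
import Groth.Agent.CAlg1.FlatFibre

/-!
Parafactoriality descends along flat local maps with zero-dimensional closed fibre.
-/

set_option autoImplicit false
set_option linter.style.haveILetI false
set_option backward.isDefEq.respectTransparency.types false

universe u

open CategoryTheory AlgebraicGeometry Opposite TopologicalSpace IsLocalRing TensorProduct

noncomputable section

namespace Groth.Agent.ParaF26

open Var76.LineBundle Var76.ZeroScheme

/-- In depth two a linear form which is bijective off the closed point generates all linear forms. -/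
theorem exists_eq_smul_form {B : Type u} [CommRing B] [IsNoetherianRing B] [IsLocalRing B]
    (hd : (2 : ℕ∞) ≤ LocCoh.depth B B) {N : Type u} [AddCommGroup N] [Module B N] (φ : N →ₗ[B] B)
    (hφ : ∀ g ∈ maximalIdeal B, BijAway φ g) :
    (∀ ψ : N →ₗ[B] B, ∃ c : B, ψ = c • φ) ∧ ∀ c : B, c • φ = 0 → c = 0 := by
  obtain ⟨a, ha, hreg⟩ := exists_mem_regular hd
  obtain ⟨c, hc, hcreg⟩ := exists_regular_mod hd ha hreg
  obtain ⟨k, x, hx⟩ := (hφ a ha).surj 1
  obtain ⟨l, y, hy⟩ := (hφ c hc).surj 1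
  rw [smul_eq_mul, mul_one] at hx hy
  -- raise the exponent of `a` to be positive
  have hx1 : φ (a • x) = a ^ (k + 1) := by rw [map_smul, hx, smul_eq_mul, pow_succ']
  have hreg' : IsSMulRegular B (a ^ (k + 1)) := hreg.pow _
  have hkill : ∀ (ψ : N →ₗ[B] B) (z : N), φ z = 0 → ψ z = 0 := fun ψ z hz => by
    obtain ⟨n, hn⟩ := (hφ a ha).inj z hz
    refine (hreg.pow n) (show a ^ n • ψ z = a ^ n • (0 : B) from ?_)
    rw [← map_smul, hn, map_zero, smul_zero]
  refine ⟨fun ψ => ?_, fun d hd' => ?_⟩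
  · have h1 : (c ^ l) * ψ (a • x) = a ^ (k + 1) * ψ y := by
      have h0 := hkill ψ (c ^ l • (a • x) - a ^ (k + 1) • y)
        (by rw [map_sub, map_smul, map_smul φ (a ^ (k + 1)), hx1, hy, smul_eq_mul, smul_eq_mul, mul_comm, sub_self])
      rw [map_sub, map_smul, map_smul ψ (a ^ (k + 1)), sub_eq_zero] at h0
      exact h0
    obtain ⟨d, hd1⟩ : ∃ d, ψ (a • x) = a * d := by
      have h2 : c ^ l • (Submodule.Quotient.mk (ψ (a • x)) : QuotSMulTop a B) = 0 := by
        rw [← Submodule.Quotient.mk_smul, Submodule.Quotient.mk_eq_zero]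
        exact ⟨a ^ k * ψ y, trivial, by
          show a • (a ^ k * ψ y) = c ^ l • ψ (a • x)
          rw [smul_eq_mul, smul_eq_mul, ← mul_assoc, ← pow_succ', h1]⟩
      have h3 := (hcreg.pow l) (show c ^ l • (Submodule.Quotient.mk (ψ (a • x)) : QuotSMulTop a B) = c ^ l • 0 by
        rw [h2, smul_zero])
      rw [Submodule.Quotient.mk_eq_zero] at h3
      obtain ⟨d, -, hd⟩ := h3
      exact ⟨d, hd.symm⟩
    -- divide by the higher powers one at a time
    have hall : ∀ n : ℕ, n ≤ k + 1 → ∃ d, ψ (a • x) = a ^ n * d := by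
      intro n hn
      induction n with
      | zero => exact ⟨ψ (a • x), by rw [pow_zero, one_mul]⟩
      | succ n ih =>
        obtain ⟨d, hd⟩ := ih (by omega)
        obtain ⟨j, hj⟩ : ∃ j, k + 1 = n + 1 + j := ⟨k - n, by omega⟩
        have h4 : c ^ l * d = a * (a ^ j * ψ y) := by
          refine (hreg.pow n) (show a ^ n • (c ^ l * d) = a ^ n • (a * (a ^ j * ψ y)) from ?_)
          rw [smul_eq_mul, smul_eq_mul, mul_left_comm, ← hd, h1, hj, pow_add, pow_succ]
          ring
        have h2 : c ^ l • (Submodule.Quotient.mk d : QuotSMulTop a B) = 0 := by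
          rw [← Submodule.Quotient.mk_smul, Submodule.Quotient.mk_eq_zero]
          exact ⟨a ^ j * ψ y, trivial, h4.symm⟩
        have h3 := (hcreg.pow l) (show c ^ l • (Submodule.Quotient.mk d : QuotSMulTop a B) = c ^ l • 0 by
          rw [h2, smul_zero])
        rw [Submodule.Quotient.mk_eq_zero] at h3
        obtain ⟨e, -, he⟩ := h3
        exact ⟨e, by rw [hd, ← show a • e = d from he, smul_eq_mul, pow_succ, mul_assoc]⟩
    obtain ⟨e, he⟩ := hall (k + 1) le_rfl
    refine ⟨e, LinearMap.ext fun z => hreg' ?_⟩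
    show a ^ (k + 1) • ψ z = a ^ (k + 1) • (e * φ z)
    have h0 := hkill ψ (a ^ (k + 1) • z - φ z • (a • x))
      (by rw [map_sub, map_smul, map_smul φ (φ z), hx1, smul_eq_mul, smul_eq_mul, mul_comm, sub_self])
    rw [map_sub, map_smul, map_smul ψ (φ z), sub_eq_zero, he] at h0
    rw [h0, smul_eq_mul, smul_eq_mul]
    ring
  · refine hreg' (show a ^ (k + 1) • d = a ^ (k + 1) • (0 : B) from ?_)
    have h := LinearMap.congr_fun hd' (a • x)
    rw [LinearMap.smul_apply, hx1, LinearMap.zero_apply] at h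
    rw [smul_eq_mul, mul_comm, smul_zero]
    exact h

section Descend

variable {A B : Type u} [CommRing A] [CommRing B] [Algebra A B] {N : Type u} [AddCommGroup N] [Module A N]

/-- The extension of a linear form. -/
def liftForm (h : N →ₗ[A] A) : B ⊗[A] N →ₗ[B] B :=
  (AlgebraTensorModule.rid A B B).toLinearMap ∘ₗ h.baseChange B

theorem liftForm_tmul (h : N →ₗ[A] A) (b : B) (x : N) : liftForm h (b ⊗ₜ[A] x) = h x • b := rfl

theorem exists_descended_form [IsNoetherianRing A] [IsNoetherianRing B] [IsLocalRing B] [Module.Flat A B]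
    [Module.FinitePresentation A N] (hd : (2 : ℕ∞) ≤ LocCoh.depth B B) (φ : B ⊗[A] N →ₗ[B] B)
    (hφ : ∀ g ∈ maximalIdeal B, BijAway φ g) :
    ∃ (h : N →ₗ[A] A) (u : B), IsUnit u ∧ liftForm h = u • φ := by
  obtain ⟨hgen, hzero⟩ := exists_eq_smul_form hd φ hφ
  choose c hc using fun h : N →ₗ[A] A => hgen (liftForm h)
  have hspan : φ ∈ Submodule.span B (Set.range fun h : N →ₗ[A] A => (liftForm h : B ⊗[A] N →ₗ[B] B)) := by
    let f := (AlgebraTensorModule.rid A B B).toLinearMap
    let fi := (AlgebraTensorModule.rid A B B).symm.toLinearMap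
    have key : ∀ ψ : B ⊗[A] N →ₗ[B] B ⊗[A] A,
        f ∘ₗ ψ ∈ Submodule.span B (Set.range fun h : N →ₗ[A] A => (liftForm h : B ⊗[A] N →ₗ[B] B)) := by
      intro ψ
      induction ψ using (Module.FinitePresentation.isBaseChange_map A N A B).inductionOn with
      | zero => rw [LinearMap.comp_zero]; exact zero_mem _
      | tmul h => exact Submodule.subset_span ⟨h, rfl⟩
      | smul b ψ ih => rw [LinearMap.comp_smul]; exact Submodule.smul_mem _ b ih
      | add ψ₁ ψ₂ h₁ h₂ => rw [LinearMap.comp_add]; exact add_mem h₁ h₂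
    convert key (fi ∘ₗ φ)
    rw [← LinearMap.comp_assoc, LinearEquiv.comp_symm, LinearMap.id_comp]
  obtain ⟨r, hr⟩ := (Finsupp.mem_span_range_iff_exists_finsupp).1 hspan
  have hone : r.sum (fun h b => b * c h) = 1 := by
    have h1 : r.sum (fun h b => b * c h) • φ = φ := by
      rw [Finsupp.sum, Finset.sum_smul]
      conv_rhs => rw [← hr, Finsupp.sum]
      refine Finset.sum_congr rfl fun h _ => ?_
      rw [hc h, smul_smul]
    refine sub_eq_zero.1 (hzero _ (LinearMap.ext fun z => ?_))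
    show (_ - 1) * φ z = 0
    rw [sub_mul, one_mul, sub_eq_zero]
    exact LinearMap.congr_fun h1 z
  obtain ⟨h, -, hu⟩ : ∃ h ∈ r.support, IsUnit (r h * c h) := by
    by_contra hno
    have hmem : r.sum (fun h b => b * c h) ∈ maximalIdeal B :=
      Ideal.sum_mem _ fun h hh => (mem_maximalIdeal _).2 fun hu => hno ⟨h, hh, hu⟩
    rw [hone] at hmem
    exact (mem_maximalIdeal (1 : B)).1 hmem isUnit_one
  exact ⟨h, c h, isUnit_of_mul_isUnit_right hu, hc h⟩

theorem bijAway_descend [Module.FaithfullyFlat A B] (h : N →ₗ[A] A) {g : A}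
    (hb : BijAway (liftForm (B := B) h) (algebraMap A B g)) : BijAway h g := by
  constructor
  · intro x hx
    obtain ⟨k, hk⟩ := hb.inj (1 ⊗ₜ[A] x) (by rw [liftForm_tmul, hx, zero_smul])
    refine ⟨k, Module.FaithfullyFlat.tensorProduct_mk_injective (A := A) (B := B) N ?_⟩
    show (1 : B) ⊗ₜ[A] (g ^ k • x) = (1 : B) ⊗ₜ[A] (0 : N)
    rw [tmul_smul, tmul_zero, ← algebraMap_smul B (g ^ k), map_pow, hk]
  · intro y
    obtain ⟨k, z, hz⟩ := hb.surj 1
    have hrange : ∀ z : B ⊗[A] N, liftForm h z ∈ Ideal.map (algebraMap A B) (LinearMap.range h : Ideal A) := by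
      intro z
      induction z with
      | zero => rw [map_zero]; exact zero_mem _
      | tmul b x =>
        rw [liftForm_tmul, Algebra.smul_def]
        exact Ideal.mul_mem_right _ _ (Ideal.mem_map_of_mem _ ⟨x, rfl⟩)
      | add z₁ z₂ h₁ h₂ => rw [map_add]; exact add_mem h₁ h₂
    have h1 : g ^ k ∈ (LinearMap.range h : Ideal A) := by
      rw [← Ideal.comap_map_eq_self_of_faithfullyFlat (B := B) (LinearMap.range h : Ideal A), Ideal.mem_comap,
        map_pow]
      have := hrange z
      rwa [hz, smul_eq_mul, mul_one] at this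
    obtain ⟨x, hx⟩ := h1
    exact ⟨k, y • x, by rw [map_smul, hx, smul_eq_mul, smul_eq_mul, mul_comm]⟩

end Descend

variable {A B : Type u} [CommRing A] [CommRing B] [IsNoetherianRing A] [IsLocalRing A] [IsNoetherianRing B]
  [IsLocalRing B] [Algebra A B] [IsLocalHom (algebraMap A B)] [Module.Flat A B]

theorem parafactorial_of_flat (hfib : ringKrullDim (B ⧸ (maximalIdeal A).map (algebraMap A B)) = 0)
    (hB : ParaF.IsParafactorialLocalRing B) : ParaF.IsParafactorialLocalRing A := by
  classical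
  haveI : Module.FaithfullyFlat A B := Module.FaithfullyFlat.of_flat_of_isLocalHom
  obtain ⟨hdB, hpicB⟩ := parafactorial_iff.1 hB
  obtain ⟨hbij, -⟩ := (S2824.result B).1 hB
  let J := (maximalIdeal A).map (algebraMap A B)
  have hJ : J ≤ maximalIdeal B := Ideal.map_le_iff_le_comap.2 fun x hx =>
    (mem_maximalIdeal _).2 fun hu => (mem_maximalIdeal x).1 hx (isUnit_of_map_unit (algebraMap A B) x hu)
  haveI : Nontrivial (B ⧸ J) := Ideal.Quotient.nontrivial_iff.2 fun h => (maximalIdeal.isMaximal B).ne_top (eq_top_iff.2 (h ▸ hJ))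
  haveI : IsLocalRing (B ⧸ J) := IsLocalRing.of_surjective' (Ideal.Quotient.mk J) Ideal.Quotient.mk_surjective
  have hJrad : ∀ q : PrimeSpectrum B, J ≤ q.asIdeal → q.asIdeal = maximalIdeal B := by
    haveI : Ring.KrullDimLE 0 (B ⧸ J) := Ring.krullDimLE_iff.2 hfib.le
    intro q hq
    have hp : (q.asIdeal.map (Ideal.Quotient.mk J)).IsPrime :=
      Ideal.map_isPrime_of_surjective Ideal.Quotient.mk_surjective (by rwa [Ideal.mk_ker])
    have h1 := IsLocalRing.eq_maximalIdeal hp.isMaximal'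
    have h2 := congrArg (Ideal.comap (Ideal.Quotient.mk J)) h1
    rw [Ideal.comap_map_of_surjective _ Ideal.Quotient.mk_surjective, ← RingHom.ker_eq_comap_bot,
      Ideal.mk_ker, sup_eq_left.2 hq] at h2
    refine le_antisymm (le_maximalIdeal q.2.ne_top) (h2 ▸ ?_)
    exact fun x hx => (mem_maximalIdeal _).2 fun hu => by
      obtain ⟨y, hy⟩ := hu.exists_right_inv
      obtain ⟨y, rfl⟩ := Ideal.Quotient.mk_surjective y
      rw [← map_mul, ← map_one (Ideal.Quotient.mk J), Ideal.Quotient.eq] at hy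
      exact (maximalIdeal.isMaximal B).ne_top ((Ideal.eq_top_iff_one _).2 (by
        simpa using Ideal.sub_mem _ (Ideal.mul_mem_right y _ hx) (hJ hy)))
  have hd : (2 : ℕ∞) ≤ LocCoh.depth A A := by
    have h1 := CAlg1.depth_of_flat_local A B
    have h0 : LocCoh.depth B (B ⧸ J) = 0 := by
      rw [EGA4Alg4.depth_eq_zero_iff, EGA4Alg4.maximalIdeal_mem_assoc_iff]
      intro x hx hreg
      haveI : Nontrivial (B ⧸ J) := inferInstance
      obtain ⟨n, hn⟩ := exists_pow_le J fun q hq hle => hq (hJrad q hle)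
      have h2 : x ^ n • (1 : B ⧸ J) = x ^ n • 0 := by
        rw [smul_zero]
        exact Ideal.Quotient.eq_zero_iff_mem.2 (by simpa using hn (Ideal.pow_mem_pow hx n))
      exact one_ne_zero ((hreg.pow n) h2)
    rw [h0, add_zero] at h1
    exact h1 ▸ hdB
  refine parafactorial_iff.2 ⟨hd, fun L hL => ?_⟩
  obtain ⟨T, ⟨i⟩, s, hs, hcov⟩ := exists_finite_model (R := CommRingCat.of A) (FEt.puncturedSpec A) L hL
  let N : Submodule A T := Submodule.span A ↑(s.image Prod.snd)
  have hmem : ∀ x ∈ s, x.2 ∈ N := fun x hx => Submodule.subset_span (Finset.mem_image_of_mem _ hx)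
  obtain ⟨j⟩ := nonempty_span_restrict_iso (R := CommRingCat.of A) (O := FEt.puncturedSpec A) N fun q hq => by
    obtain ⟨x, hxs, hx⟩ := hcov q hq
    exact ⟨x.1, hx, (span_bijAway (hmem x hxs) (hs x hxs).2).2⟩
  let g : Spec (CommRingCat.of B) ⟶ Spec (CommRingCat.of A) := Spec.map (CommRingCat.ofHom (algebraMap A B))
  have hpre : g ⁻¹ᵁ FEt.puncturedSpec A = FEt.puncturedSpec B := by
    ext x
    refine ⟨fun hx (hx' : x = closedPoint B) => hx ?_, fun hx hx' => hx ?_⟩
    · subst hx'
      exact (comap_closedPoint (algebraMap A B))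
    · refine PrimeSpectrum.ext (hJrad x (Ideal.map_le_iff_le_comap.2 ?_))
      exact (congrArg PrimeSpectrum.asIdeal (hx' : PrimeSpectrum.comap (algebraMap A B) x = closedPoint A)).ge
  have hinv := isInvertible_pull_restrict g _ (FEt.puncturedSpec A) hpre
    (EGA73.isInvertible_of_iso (j ≪≫ i.symm).symm hL)
  obtain ⟨k⟩ := TildePull72.nonempty_pullback_tilde_iso A B N
  obtain ⟨triv⟩ := hpicB _ (EGA73.isInvertible_of_iso
    ((Scheme.Modules.restrictFunctor (FEt.puncturedSpec B).ι).mapIso k) hinv)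
  obtain ⟨ε, hε⟩ := exists_frame_of_restrict_iso triv
  obtain ⟨φ, hφ⟩ := exists_form (R := CommRingCat.of B) hbij hε
  have hle : ∀ b : B, b ∈ maximalIdeal B →
      (PrimeSpectrum.basicOpen b : (Spec (CommRingCat.of B)).Opens) ≤ FEt.puncturedSpec B :=
    fun b hb x hx (hx' : x = closedPoint B) => hx (hx' ▸ hb)
  haveI : Module.Finite A N := Module.Finite.span_of_finite A (Finset.finite_toSet _)
  haveI : Module.FinitePresentation A N := Module.finitePresentation_of_finite A N
  obtain ⟨h, u, hu, heq⟩ := exists_descended_form hdB φ fun b hb => hφ b (hle b hb)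
  obtain ⟨trivA⟩ := nonempty_restrict_iso_unit (R := CommRingCat.of A) (T := ModuleCat.of A N)
    (U := FEt.puncturedSpec A) h fun q hq => by
      have hq' : q.asIdeal ≠ maximalIdeal A := fun e => hq (PrimeSpectrum.ext e)
      obtain ⟨c, hcm, hcq⟩ : ∃ c, c ∈ maximalIdeal A ∧ c ∉ q.asIdeal :=
        SetLike.not_le_iff_exists.1 fun hle => hq' (le_antisymm (le_maximalIdeal q.2.ne_top) hle)
      refine ⟨c, hcq, bijAway_descend (B := B) h ?_⟩
      have h2 := hφ (algebraMap A B c) (hle _ (hJ (Ideal.mem_map_of_mem _ hcm)))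
      rw [heq]
      refine ⟨fun z hz => h2.inj z (hu.smul_eq_zero.1 hz), fun y => ?_⟩
      obtain ⟨n, z, hz⟩ := h2.surj y
      exact ⟨n, (hu.unit⁻¹ : Bˣ).1 • z, by
        rw [LinearMap.smul_apply, map_smul, hz, smul_smul, IsUnit.mul_val_inv, one_smul]⟩
  exact ⟨i ≪≫ j.symm ≪≫ trivA⟩

end Groth.Agent.ParaF26
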