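import Groth.Agent.ParaF26.Depth
import Groth.Agent.ParaF26.AwayBij
import Groth.Agent.LC15.PunctTilde

/-!
Frames of associated sheaves versus maps bijective after inverting elements.
-/

set_option autoImplicit false
set_option linter.style.haveILetI false
set_option backward.isDefEq.respectTransparency.types false

universe u

open CategoryTheory AlgebraicGeometry Opposite TopologicalSpace

noncomputable section

namespace Groth.Agent.ParaF26

open Var76.LineBundle Var76.ZeroScheme

variable {R : CommRingCat.{u}}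

local notation "Dg" g => (PrimeSpectrum.basicOpen g : TopologicalSpace.Opens (PrimeSpectrum R))

/-- A section of `tilde T` given by an element. -/
abbrev elt (T : ModuleCat.{u} R) (U : (Spec R).Opens) (t : T) : Γ(tilde T, U) := tilde.toOpen T U t

theorem elt_res {T : ModuleCat.{u} R} {U V : (Spec R).Opens} (h : V ≤ U) (t : T) :
    res (tilde T) h (elt T U t) = elt T V t :=
  ConcreteCategory.congr_hom (tilde.toOpen_res T U V (homOfLE h)) t

theorem algebraMap_res {U V : (Spec R).Opens} (h : V ≤ U) (a : R) :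
    (Spec R).presheaf.map (homOfLE h).op (algebraMap R Γ(Spec R, U) a) = algebraMap R Γ(Spec R, V) a := rfl

theorem elt_smul {T : ModuleCat.{u} R} (U : (Spec R).Opens) (a : R) (t : T) :
    elt T U (a • t) = algebraMap R Γ(Spec R, U) a • elt T U t := by
  rw [algebraMap_smul]
  exact map_smul (tilde.toOpen T U).hom a t

theorem eq_zero_iff_elt {T : ModuleCat.{u} R} (g : R) (t : T) :
    elt T (PrimeSpectrum.basicOpen g) t = 0 ↔ ∃ k : ℕ, g ^ k • t = 0 := by
  haveI : IsLocalizedModule (Submonoid.powers g) (tilde.toOpen T (PrimeSpectrum.basicOpen g)).hom :=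
    inferInstanceAs (IsLocalizedModule.Away g (tilde.toOpen T (PrimeSpectrum.basicOpen g)).hom)
  refine (IsLocalizedModule.eq_zero_iff (Submonoid.powers g)
    (tilde.toOpen T (PrimeSpectrum.basicOpen g)).hom).trans ⟨?_, ?_⟩
  · rintro ⟨⟨_, k, rfl⟩, hk⟩; exact ⟨k, hk⟩
  · rintro ⟨k, hk⟩; exact ⟨⟨g ^ k, k, rfl⟩, hk⟩

theorem eq_iff_elt {T : ModuleCat.{u} R} (g : R) (t t' : T) :
    elt T (PrimeSpectrum.basicOpen g) t = elt T (PrimeSpectrum.basicOpen g) t' ↔
      ∃ k : ℕ, g ^ k • t = g ^ k • t' := by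
  have h := eq_zero_iff_elt g (t - t')
  simp only [smul_sub, sub_eq_zero] at h
  rw [← h, ← sub_eq_zero]
  exact ⟨fun e => (map_sub (tilde.toOpen T _).hom t t').trans e,
    fun e => (map_sub (tilde.toOpen T _).hom t t').symm.trans e⟩

theorem exists_elt_eq {T : ModuleCat.{u} R} (g : R) (z : Γ(tilde T, PrimeSpectrum.basicOpen g)) :
    ∃ (k : ℕ) (t : T), algebraMap R Γ(Spec R, PrimeSpectrum.basicOpen g) (g ^ k) • z = elt T _ t := by
  haveI : IsLocalizedModule (Submonoid.powers g) (tilde.toOpen T (PrimeSpectrum.basicOpen g)).hom :=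
    inferInstanceAs (IsLocalizedModule.Away g (tilde.toOpen T (PrimeSpectrum.basicOpen g)).hom)
  obtain ⟨⟨t, ⟨_, k, rfl⟩⟩, h⟩ := IsLocalizedModule.surj (Submonoid.powers g)
    (tilde.toOpen T (PrimeSpectrum.basicOpen g)).hom z
  exact ⟨k, t, by rw [algebraMap_smul]; exact h⟩

theorem exists_algebraMap_eq (g : R) (z : Γ(Spec R, PrimeSpectrum.basicOpen g)) :
    ∃ (k : ℕ) (a : R), algebraMap R Γ(Spec R, PrimeSpectrum.basicOpen g) (g ^ k) * z = algebraMap R _ a := by
  obtain ⟨⟨a, ⟨_, k, rfl⟩⟩, h⟩ := IsLocalization.surj (Submonoid.powers g) z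
  exact ⟨k, a, by rw [mul_comm]; exact h⟩

theorem algebraMap_eq_iff (g : R) (a b : R) :
    algebraMap R Γ(Spec R, PrimeSpectrum.basicOpen g) a = algebraMap R _ b ↔
      ∃ k : ℕ, g ^ k * a = g ^ k * b := by
  refine (IsLocalization.eq_iff_exists (Submonoid.powers g) _).trans ⟨?_, ?_⟩
  · rintro ⟨⟨_, k, rfl⟩, hk⟩; exact ⟨k, hk⟩
  · rintro ⟨k, hk⟩; exact ⟨⟨g ^ k, k, rfl⟩, hk⟩

theorem isUnit_algebraMap_pow (g : R) (k : ℕ) :
    IsUnit (algebraMap R Γ(Spec R, PrimeSpectrum.basicOpen g) (g ^ k)) := by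
  rw [map_pow]
  exact (IsLocalization.Away.algebraMap_isUnit g).pow k

/-- An element generating after inverting `g` frames the sheaf on `D(g)`. -/
theorem isFrame_elt {T : ModuleCat.{u} R} {g : R} {t : T} (h : BijAway (LinearMap.toSpanSingleton R T t) g)
    {W : (Spec R).Opens} (hW : W ≤ PrimeSpectrum.basicOpen g) : IsFrame (tilde T) W (elt T W t) := by
  intro V hV
  let f : ModuleCat.of R R ⟶ T := ModuleCat.ofHom (LinearMap.toSpanSingleton R T t)
  let D : (Spec R).Opens := PrimeSpectrum.basicOpen g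
  haveI := LC15.PU.isIso_restrict_tilde_map f D fun p hp => ⟨g, hp, h.localized⟩
  have hb : Function.Bijective ((tilde.map f).app (D.ι ''ᵁ (D.ι ⁻¹ᵁ V))) :=
    ConcreteCategory.bijective_of_isIso
      (((Scheme.Modules.restrictFunctor D.ι).map (tilde.map f)).app (D.ι ⁻¹ᵁ V))
  have hb' : Function.Bijective ((tilde.map f).app V) := by
    revert hb
    generalize hV' : D.ι ''ᵁ (D.ι ⁻¹ᵁ V) = V'
    obtain rfl : V' = V := hV'.symm.trans (image_preimage_of_le D V (hV.trans hW))
    exact id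
  have hone : ∀ a : Γ(Spec R, V), a • elt (ModuleCat.of R R) V (1 : R) = (a : Γ(tilde (ModuleCat.of R R), V)) :=
    fun a => by
      show a * algebraMap R Γ(Spec R, V) 1 = a
      rw [map_one, mul_one]
  have e : (fun a : Γ(Spec R, V) => a • res (tilde T) hV (elt T W t)) =
      (fun a : Γ(Spec R, V) => (tilde.map f).app V (a : Γ(tilde (ModuleCat.of R R), V))) := by
    funext a
    rw [elt_res]
    conv_rhs => rw [← hone a, Scheme.Modules.Hom.app_smul]
    refine congrArg (a • ·) ?_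
    exact ((ConcreteCategory.congr_hom (tilde.toOpen_map_app f V) (1 : R)).trans
      (congrArg (elt T V) (one_smul R t))).symm
  rw [e]
  exact hb'

theorem framedOn_tilde {T : ModuleCat.{u} R} {U : (Spec R).Opens}
    (h : ∀ q : PrimeSpectrum R, q ∈ U → ∃ (g : R) (t : T), g ∉ q.asIdeal ∧
      (PrimeSpectrum.basicOpen g : (Spec R).Opens) ≤ U ∧ BijAway (LinearMap.toSpanSingleton R T t) g) :
    FramedOn (tilde T) U := fun q hq => by
  obtain ⟨g, t, hg, hle, hb⟩ := h q hq
  exact ⟨_, _, hg, hle, isFrame_elt hb le_rfl⟩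

/-- A frame on `D(g)` given by an element. -/
theorem bijAway_of_isFrame {T : ModuleCat.{u} R} {g : R} {t : T}
    (he : IsFrame (tilde T) (PrimeSpectrum.basicOpen g) (elt T _ t)) :
    BijAway (LinearMap.toSpanSingleton R T t) g where
  inj a ha := by
    rw [LinearMap.toSpanSingleton_apply] at ha
    have h1 : algebraMap R Γ(Spec R, PrimeSpectrum.basicOpen g) a = algebraMap R _ 0 := by
      refine (he _ le_rfl).1 ?_
      dsimp only
      rw [Amp73.res_self, ← elt_smul, ← elt_smul, ha, zero_smul]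
    obtain ⟨k, hk⟩ := (algebraMap_eq_iff g a 0).1 h1
    exact ⟨k, by rw [smul_eq_mul, hk, mul_zero]⟩
  surj y := by
    obtain ⟨c, hc⟩ := (he _ le_rfl).2 (elt T _ y)
    dsimp only at hc
    rw [Amp73.res_self] at hc
    obtain ⟨k, a, hk⟩ := exists_algebraMap_eq g c
    have h1 : elt T (PrimeSpectrum.basicOpen g) (a • t) = elt T _ (g ^ k • y) := by
      rw [elt_smul, elt_smul, ← hk, mul_smul, hc]
    obtain ⟨l, hl⟩ := (eq_iff_elt g _ _).1 h1
    exact ⟨l + k, g ^ l * a, by rw [LinearMap.toSpanSingleton_apply, mul_smul, hl, smul_smul, ← pow_add]⟩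

/-- An invertible associated sheaf is generated by elements, locally. -/
theorem exists_generators [IsNoetherianRing R] {T : ModuleCat.{u} R} {U : (Spec R).Opens}
    (h : FramedOn (tilde T) U) :
    ∃ s : Finset (R × T), (∀ p ∈ s, (PrimeSpectrum.basicOpen p.1 : (Spec R).Opens) ≤ U ∧
        BijAway (LinearMap.toSpanSingleton R T p.2) p.1) ∧
      ∀ q : PrimeSpectrum R, q ∈ U → ∃ p ∈ s, p.1 ∉ q.asIdeal := by
  classical
  have key : ∀ q : U, ∃ p : R × T, p.1 ∉ (q.1 : PrimeSpectrum R).asIdeal ∧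
      (PrimeSpectrum.basicOpen p.1 : (Spec R).Opens) ≤ U ∧
        BijAway (LinearMap.toSpanSingleton R T p.2) p.1 := fun q => by
    obtain ⟨W, e, hqW, hWU, he⟩ := h q.1 q.2
    obtain ⟨_, ⟨_, ⟨g, rfl⟩, rfl⟩, hqg, hgW⟩ :=
      PrimeSpectrum.isBasis_basic_opens.exists_subset_of_mem_open hqW W.2
    obtain ⟨k, t, ht⟩ := exists_elt_eq g (res (tilde T) hgW e)
    refine ⟨(g, t), hqg, le_trans hgW hWU, bijAway_of_isFrame ?_⟩
    rw [← ht]
    exact (Amp73.isFrame_smul_iff (he.res hgW) _).2 (isUnit_algebraMap_pow g k)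
  choose p hp1 hp2 hp3 using key
  have hcpt : IsCompact (U : Set (Spec R)) := TopologicalSpace.NoetherianSpace.isCompact _
  obtain ⟨s, hs⟩ := hcpt.elim_finite_subcover
    (fun q : U => (PrimeSpectrum.basicOpen (p q).1 : Set (PrimeSpectrum R)))
    (fun q => (PrimeSpectrum.basicOpen (p q).1).2) fun q hq => Set.mem_iUnion.2 ⟨⟨q, hq⟩, hp1 ⟨q, hq⟩⟩
  refine ⟨s.image p, fun x hx => ?_, fun q hq => ?_⟩
  · obtain ⟨q, -, rfl⟩ := Finset.mem_image.1 hx
    exact ⟨hp2 q, hp3 q⟩
  · obtain ⟨x, hxs, hx⟩ := Set.mem_iUnion₂.1 (hs hq)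
    exact ⟨p x, Finset.mem_image_of_mem p hxs, hx⟩

/-- A frame of `tilde T` on an open with the same functions as `Spec R` gives a linear form. -/
theorem exists_form {T : ModuleCat.{u} R} {U : (Spec R).Opens}
    (hU : Function.Bijective ((Spec R).presheaf.map (homOfLE (le_top : U ≤ ⊤)).op))
    {ε : Γ(tilde T, U)} (hε : IsFrame (tilde T) U ε) :
    ∃ φ : T →ₗ[R] R, ∀ g : R, (PrimeSpectrum.basicOpen g : (Spec R).Opens) ≤ U → BijAway φ g := by
  have hbij : Function.Bijective (algebraMap R Γ(Spec R, U)) := by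
    have e : (algebraMap R Γ(Spec R, U) : R → Γ(Spec R, U)) =
        (Spec R).presheaf.map (homOfLE (le_top : U ≤ ⊤)).op ∘ (Scheme.ΓSpecIso R).inv := rfl
    rw [e]
    exact hU.comp (ConcreteCategory.bijective_of_isIso (Scheme.ΓSpecIso R).inv)
  choose c hc using fun t : T => ((hε U le_rfl).2 (elt T U t))
  choose φ hφ using fun t : T => hbij.2 (c t)
  have huniq : ∀ t a, algebraMap R Γ(Spec R, U) a • ε = elt T U t → φ t = a := fun t a ha => by
    refine hbij.1 ((hε U le_rfl).1 ?_)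
    refine ((congrArg (· • res (tilde T) le_rfl ε) (hφ t)).trans (hc t)).trans ?_
    dsimp only
    rw [Amp73.res_self, ha]
  have hcv : ∀ t, algebraMap R Γ(Spec R, U) (φ t) • ε = elt T U t := fun t => by
    have := hc t
    dsimp only at this
    rw [Amp73.res_self] at this
    rw [hφ, this]
  let Φ : T →ₗ[R] R :=
    { toFun := φ
      map_add' := fun x y => huniq _ _ (by
        rw [map_add, add_smul, hcv, hcv]; exact (map_add (tilde.toOpen T U).hom x y).symm)
      map_smul' := fun a x => huniq _ _ (by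
        rw [RingHom.id_apply, smul_eq_mul, map_mul, mul_smul, hcv, elt_smul]) }
  refine ⟨Φ, fun g hg => ?_⟩
  have hv : ∀ t, algebraMap R Γ(Spec R, PrimeSpectrum.basicOpen g) (φ t) • res (tilde T) hg ε = elt T _ t :=
    fun t => by rw [← algebraMap_res hg, ← res_smul, hcv, elt_res]
  refine ⟨fun x hx => (eq_zero_iff_elt g x).1 ?_, fun y => ?_⟩
  · rw [← hv, show φ x = 0 from hx, map_zero, zero_smul]
  · obtain ⟨k, t, ht⟩ := exists_elt_eq g (algebraMap R Γ(Spec R, PrimeSpectrum.basicOpen g) y • res (tilde T) hg ε)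
    rw [smul_smul, ← map_mul, ← hv] at ht
    obtain ⟨l, hl⟩ := (algebraMap_eq_iff g _ _).1 ((hε _ hg).1 ht)
    exact ⟨l + k, g ^ l • t, by
      rw [map_smul, smul_eq_mul, show Φ t = φ t from rfl, ← hl, smul_eq_mul, pow_add]; ring⟩

/-- A linear form bijective on a cover of `U` trivialises `tilde T` on `U`. -/
theorem nonempty_restrict_iso_unit {T : ModuleCat.{u} R} {U : (Spec R).Opens} (φ : T →ₗ[R] R)
    (h : ∀ q : PrimeSpectrum R, q ∈ U → ∃ g : R, g ∉ q.asIdeal ∧ BijAway φ g) :
    Nonempty ((tilde T).restrict U.ι ≅ Coh.structureModule (U : Scheme.{u})) := by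
  let f : T ⟶ ModuleCat.of R R := ModuleCat.ofHom φ
  haveI := LC15.PU.isIso_restrict_tilde_map f U fun q hq => by
    obtain ⟨g, hg, hb⟩ := h q hq
    exact ⟨g, hg, hb.localized⟩
  refine ⟨asIso ((Scheme.Modules.restrictFunctor U.ι).map (tilde.map f)) ≪≫ Nonempty.some ?_⟩
  exact unitIso U
where
  unitIso (U : (Spec R).Opens) :
      Nonempty ((tilde (ModuleCat.of R R)).restrict U.ι ≅ Coh.structureModule (U : Scheme.{u})) :=
    EGA73.nonempty_restrict_iso_unit _ U (elt (ModuleCat.of R R) U (1 : R)) fun V hV => by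
      have e : (fun a : Γ(Spec R, V) => a • res (tilde (ModuleCat.of R R)) hV
          (elt (ModuleCat.of R R) U (1 : R))) = id := by
        funext a
        rw [elt_res]
        show a * algebraMap R Γ(Spec R, V) 1 = a
        rw [map_one, mul_one]
      rw [e]
      exact Function.bijective_id

end Groth.Agent.ParaF26
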