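import Groth.Agent.ParaF26.RadicialModel
import Groth.Agent.Cohen12.Completion
import Groth.Agent.Cohen12.GeomRegular
import Groth.Agent.EGA4Alg4.FibreDim
import Groth.Agent.S2461

/-!
Parafactoriality of localisations of formally smooth algebras of finite radicial multiplicity.
-/

set_option autoImplicit false
set_option linter.style.haveILetI false
set_option backward.isDefEq.respectTransparency.types false

universe u

open IsLocalRing TensorProduct

noncomputable section

namespace Groth.Agent.ParaF26

/-- A prime minimal over the extension of `q` and lying over `q`. -/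
theorem exists_minimal_liesOver {B R : Type u} [CommRing B] [CommRing R] [Algebra B R] [Module.FaithfullyFlat B R]
    (q : Ideal B) [q.IsPrime] :
    ∃ Q : Ideal R, Q.IsPrime ∧ Q ∈ (q.map (algebraMap B R)).minimalPrimes ∧ Q.under B = q := by
  have hne : q.map (algebraMap B R) ≠ ⊤ := fun h => ‹q.IsPrime›.ne_top (by
    rw [← Ideal.comap_map_eq_self_of_faithfullyFlat (B := R) q, h, Ideal.comap_top])
  obtain ⟨Q, hQ⟩ := Ideal.nonempty_minimalPrimes hne
  haveI := hQ.1.1
  refine ⟨Q, inferInstance, hQ, ?_⟩
  have hle : q ≤ Q.under B := Ideal.map_le_iff_le_comap.1 hQ.1.2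
  haveI : Q.LiesOver (Q.under B) := ⟨rfl⟩
  obtain ⟨P, hPQ, hP, hPo⟩ := Ideal.exists_ideal_le_liesOver_of_le (p := q) (q := Q.under B) Q hle
  have h1 : q.map (algebraMap B R) ≤ P := Ideal.map_le_iff_le_comap.2 hPo.over.le
  rw [le_antisymm (hQ.2 ⟨hP, h1⟩ hPQ) hPQ]
  exact hPo.over.symm

/-- The closed fibre at a minimal prime over the extension has dimension zero. -/
theorem fibre_dim_zero_of_minimal {B R : Type u} [CommRing B] [CommRing R] [Algebra B R]
    (q : Ideal B) [q.IsPrime] (Q : Ideal R) [Q.IsPrime] [Q.LiesOver q]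
    (hQ : Q ∈ (q.map (algebraMap B R)).minimalPrimes)
    [Algebra (Localization.AtPrime q) (Localization.AtPrime Q)]
    [IsScalarTower B (Localization.AtPrime q) (Localization.AtPrime Q)] :
    ringKrullDim (Localization.AtPrime Q ⧸
      (maximalIdeal (Localization.AtPrime q)).map (algebraMap (Localization.AtPrime q) (Localization.AtPrime Q))) = 0 := by
  let L := Localization.AtPrime Q
  let I := (maximalIdeal (Localization.AtPrime q)).map (algebraMap (Localization.AtPrime q) L)
  have hI : I = (q.map (algebraMap B R)).map (algebraMap R L) := by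
    show Ideal.map _ _ = _
    rw [← Localization.AtPrime.map_eq_maximalIdeal, Ideal.map_map, ← IsScalarTower.algebraMap_eq, Ideal.map_map,
      ← IsScalarTower.algebraMap_eq]
  have hIm : I ≤ maximalIdeal L := by
    rw [hI, ← Localization.AtPrime.map_eq_maximalIdeal]
    exact Ideal.map_mono hQ.1.2
  haveI : Nontrivial (L ⧸ I) := Ideal.Quotient.nontrivial_iff.2 (ne_top_of_le_ne_top (maximalIdeal.isMaximal L).ne_top hIm)
  haveI : Ring.KrullDimLE 0 (L ⧸ I) := by
    rw [Ring.krullDimLE_zero_iff]
    intro P hP
    haveI := hP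
    let P' := P.comap (Ideal.Quotient.mk I)
    have hIP : I ≤ P' := by
      rw [← Ideal.mk_ker (I := I)]
      exact Ideal.comap_mono bot_le
    have hP'Q : P'.under R ≤ Q := fun x hx => by
      have h1 : algebraMap R L x ∈ maximalIdeal L := le_maximalIdeal (Ideal.IsPrime.comap _).ne_top hx
      exact (IsLocalization.AtPrime.to_map_mem_maximal_iff L Q x).1 h1
    have h2 : q.map (algebraMap B R) ≤ P'.under R :=
      Ideal.map_le_iff_le_comap.1 (hI.ge.trans hIP)
    have h3 : Q ≤ P'.under R := hQ.2 ⟨inferInstance, h2⟩ hP'Q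
    have h4 : P' = maximalIdeal L := by
      refine le_antisymm (le_maximalIdeal (Ideal.IsPrime.comap _).ne_top) ?_
      rw [← Localization.AtPrime.map_eq_maximalIdeal]
      exact Ideal.map_le_iff_le_comap.2 h3
    have h5 : P'.map (Ideal.Quotient.mk I) = P := Ideal.map_comap_of_surjective _ Ideal.Quotient.mk_surjective P
    rw [← h5, h4]
    exact Ideal.IsMaximal.map_of_surjective_of_ker_le Ideal.Quotient.mk_surjective (by rwa [Ideal.mk_ker])
  exact ringKrullDimZero_iff_ringKrullDim_eq_zero.1 inferInstance

/-- Descent of parafactoriality to `q` from a minimal prime over its extension. -/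
theorem parafactorial_atPrime_descend {B R : Type u} [CommRing B] [CommRing R] [IsNoetherianRing B]
    [IsNoetherianRing R] [Algebra B R] [Module.Flat B R] (q : Ideal B) [q.IsPrime] (Q : Ideal R) [Q.IsPrime]
    [Q.LiesOver q] (hQ : Q ∈ (q.map (algebraMap B R)).minimalPrimes)
    (h : ParaF.IsParafactorialLocalRing (Localization.AtPrime Q)) :
    ParaF.IsParafactorialLocalRing (Localization.AtPrime q) := by
  letI := Localization.AtPrime.algebraOfLiesOver q Q
  haveI : IsNoetherianRing (Localization.AtPrime q) := IsLocalization.isNoetherianRing q.primeCompl _ inferInstance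
  haveI : IsNoetherianRing (Localization.AtPrime Q) := IsLocalization.isNoetherianRing Q.primeCompl _ inferInstance
  haveI : IsLocalHom (algebraMap (Localization.AtPrime q) (Localization.AtPrime Q)) :=
    Localization.isLocalHom_localRingHom q Q _ _
  exact parafactorial_of_flat (fibre_dim_zero_of_minimal q Q hQ) h

/-- Depth does not drop along flat localisations. -/
theorem depth_atPrime_le {B R : Type u} [CommRing B] [CommRing R] [IsNoetherianRing B]
    [IsNoetherianRing R] [Algebra B R] [Module.Flat B R] (q : Ideal B) [q.IsPrime] (Q : Ideal R) [Q.IsPrime]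
    [Q.LiesOver q] :
    LocCoh.depth (Localization.AtPrime q) (Localization.AtPrime q) ≤
      LocCoh.depth (Localization.AtPrime Q) (Localization.AtPrime Q) := by
  letI := Localization.AtPrime.algebraOfLiesOver q Q
  haveI : IsNoetherianRing (Localization.AtPrime q) := IsLocalization.isNoetherianRing q.primeCompl _ inferInstance
  haveI : IsNoetherianRing (Localization.AtPrime Q) := IsLocalization.isNoetherianRing Q.primeCompl _ inferInstance
  haveI : IsLocalHom (algebraMap (Localization.AtPrime q) (Localization.AtPrime Q)) :=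
    Localization.isLocalHom_localRingHom q Q _ _
  exact le_self_add.trans (CAlg1.depth_of_flat_local _ _).ge

/-- The complete case. -/
theorem parafactorial_atPrime_of_complete {A B : Type u} [CommRing A] [IsLocalRing A] [IsNoetherianRing A]
    [CommRing B] [IsLocalRing B] [IsNoetherianRing B] [IsAdicComplete (maximalIdeal B) B] [Algebra A B]
    [IsLocalHom (algebraMap A B)]
    (hfs : EGA41.IsFormallySmoothAdic A (maximalIdeal A) B (maximalIdeal B))
    (k' : Type u) [Field k'] [Algebra (ResidueField A) k'] [Module.Finite (ResidueField A) k']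
    [IsPurelyInseparable (ResidueField A) k']
    (hk' : Algebra.IsGeometricallyReduced k'
      ((k' ⊗[ResidueField A] ResidueField B) ⧸ nilradical (k' ⊗[ResidueField A] ResidueField B)))
    (q : Ideal B) [q.IsPrime] (hq : ¬ q ≤ (maximalIdeal A).map (algebraMap A B))
    (p : Ideal A) [p.IsPrime] [q.LiesOver p]
    (hd : (3 : ℕ∞) ≤ LocCoh.depth (Localization.AtPrime q) (Localization.AtPrime q) ∨
      (2 : ℕ∞) ≤ LocCoh.depth (Localization.AtPrime p) (Localization.AtPrime p)) :
    ParaF.IsParafactorialLocalRing (Localization.AtPrime q) := by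
  obtain ⟨C, _, _, _, _, g, n, φ, hg, hφl, hφ, hmC, hcomm⟩ := exists_powerSeries_model hfs k' hk'
  let R := MvPowerSeries (Fin n) C
  haveI : IsNoetherianRing R := Cohen12.isNoetherianRing_powerSeries C n
  letI : Algebra B R := φ.toAlgebra
  haveI : Module.Flat B R := hφ
  haveI : IsLocalHom (algebraMap B R) := hφl
  haveI : Module.FaithfullyFlat B R := Module.FaithfullyFlat.of_flat_of_isLocalHom
  obtain ⟨Q, _, hQmin, hQq⟩ := exists_minimal_liesOver (R := R) q
  haveI : Q.LiesOver q := ⟨hQq.symm⟩
  refine parafactorial_atPrime_descend q Q hQmin (parafactorial_atPrime_mvPowerSeries_depth C n Q ?_ ?_)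
  · intro hle
    refine hq fun x hx => ?_
    rw [← Ideal.comap_map_eq_self_of_faithfullyFlat (B := R) ((maximalIdeal A).map (algebraMap A B)), Ideal.mem_comap]
    have h1 : algebraMap B R x ∈ Q := by
      have h := hQq.ge hx
      exact h
    have h2 := hle h1
    rw [← hmC, Ideal.map_map] at h2
    rw [Ideal.map_map, show (algebraMap B R).comp (algebraMap A B) = (MvPowerSeries.C : C →+* R).comp g from
      RingHom.ext hcomm]
    exact h2
  · rcases hd with h | h
    · exact Or.inl (h.trans (depth_atPrime_le q Q))
    refine Or.inr ?_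
    letI : Algebra A C := g.toAlgebra
    haveI : Module.Flat A C := hg
    haveI : (Q.under C).IsPrime := Ideal.IsPrime.under C Q
    refine two_le_depth_of_under (A := A) (Q.under C) p ?_ h
    ext a
    rw [show p = q.under A from q.over_def p, ← hQq]
    simp only [Ideal.under_def, Ideal.mem_comap]
    rw [show algebraMap B R (algebraMap A B a) = MvPowerSeries.C (g a) from hcomm a]
    rfl

/-- Changing the base field along an isomorphism and the algebra along an equivalence. -/
theorem geomRed_congr {k k₂ k' K K₂ : Type u} [Field k] [Field k₂] [Field k'] [Field K] [Field K₂]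
    [Algebra k k₂] (hs : Function.Surjective (algebraMap k k₂)) [Algebra k k'] [Algebra k₂ k'] [IsScalarTower k k₂ k']
    [Algebra k K] [Algebra k K₂] [Algebra k₂ K₂] [IsScalarTower k k₂ K₂] (e : K ≃ₐ[k] K₂)
    (h : Algebra.IsGeometricallyReduced k' ((k' ⊗[k] K) ⧸ nilradical (k' ⊗[k] K))) :
    Algebra.IsGeometricallyReduced k' ((k' ⊗[k₂] K₂) ⧸ nilradical (k' ⊗[k₂] K₂)) := by
  haveI : TensorProduct.CompatibleSMul k k₂ k' K₂ := ⟨fun r a b => by
    obtain ⟨c, rfl⟩ := hs r
    rw [algebraMap_smul, algebraMap_smul, TensorProduct.smul_tmul]⟩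
  let E : (k' ⊗[k₂] K₂) ≃ₐ[k'] k' ⊗[k] K :=
    (Algebra.TensorProduct.equivOfCompatibleSMul k₂ k k' k' K₂).symm.trans
      (Algebra.TensorProduct.congr AlgEquiv.refl e.symm)
  have hn : nilradical (k' ⊗[k₂] K₂) = (nilradical (k' ⊗[k] K)).comap E.toAlgHom := by
    ext x
    rw [Ideal.mem_comap, mem_nilradical, mem_nilradical]
    exact ⟨fun hx => hx.map E.toAlgHom, fun hx => by simpa using hx.map E.symm.toAlgHom⟩
  refine Algebra.IsGeometricallyReduced.of_injective (Ideal.quotientMapₐ _ E.toAlgHom hn.le) ?_
  exact Ideal.quotientMap_injective' (f := E.toRingEquiv.toRingHom) (H := hn.le) hn.ge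

/-- The completion as an algebra with the same residue field. -/
theorem exists_residue_algEquiv {A B : Type u} [CommRing A] [IsLocalRing A] [CommRing B] [IsLocalRing B]
    [IsNoetherianRing B] [Algebra A B] [IsLocalHom (algebraMap A B)]
    [IsLocalHom (algebraMap A (AdicCompletion (maximalIdeal B) B))] :
    Nonempty (ResidueField B ≃ₐ[ResidueField A] ResidueField (AdicCompletion (maximalIdeal B) B)) := by
  obtain ⟨r, hr⟩ := Cohen12.exists_residueField_equiv B
  refine ⟨AlgEquiv.ofRingEquiv (f := r) fun c => ?_⟩
  obtain ⟨a, rfl⟩ := residue_surjective c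
  show r (residue B (algebraMap A B a)) = residue _ (algebraMap A _ a)
  rw [hr, ← IsScalarTower.algebraMap_apply]

/-- Localisations of depth at least three. -/
theorem parafactorial_atPrime_of_radicial {A B : Type u} [CommRing A] [IsLocalRing A] [IsNoetherianRing A]
    [CommRing B] [IsLocalRing B] [IsNoetherianRing B] [Algebra A B] [IsLocalHom (algebraMap A B)]
    (hfs : EGA41.IsFormallySmoothAdic A (maximalIdeal A) B (maximalIdeal B))
    (k' : Type u) [Field k'] [Algebra (ResidueField A) k'] [Module.Finite (ResidueField A) k']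
    [IsPurelyInseparable (ResidueField A) k']
    (hk' : Algebra.IsGeometricallyReduced k'
      ((k' ⊗[ResidueField A] ResidueField B) ⧸ nilradical (k' ⊗[ResidueField A] ResidueField B)))
    (q : Ideal B) [q.IsPrime] (hq : ¬ q ≤ (maximalIdeal A).map (algebraMap A B))
    (hd : (3 : ℕ∞) ≤ LocCoh.depth (Localization.AtPrime q) (Localization.AtPrime q)) :
    ParaF.IsParafactorialLocalRing (Localization.AtPrime q) := by
  let B' := AdicCompletion (maximalIdeal B) B
  have hmax : maximalIdeal B' = (maximalIdeal B).map (algebraMap B B') := AdicCompletion.maximalIdeal_eq_map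
  haveI : IsNoetherianRing B' := Cohen12.isNoetherianRing_completion B
  haveI : IsAdicComplete (maximalIdeal B') B' := Cohen12.isAdicComplete_completion B
  haveI : IsLocalHom (algebraMap B B') := ((local_hom_TFAE (algebraMap B B')).out 2 0).mp hmax.ge
  haveI : IsLocalHom (algebraMap A B') := by
    rw [IsScalarTower.algebraMap_eq A B B']
    infer_instance
  have hfs' : EGA41.IsFormallySmoothAdic A (maximalIdeal A) B' (maximalIdeal B') := by
    rw [hmax]
    exact (S2461.result (maximalIdeal A) (maximalIdeal B)).mp hfs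
  obtain ⟨e⟩ := exists_residue_algEquiv (A := A) (B := B)
  haveI : Module.FaithfullyFlat B B' := Module.FaithfullyFlat.of_flat_of_isLocalHom
  obtain ⟨Q, _, hQmin, hQq⟩ := exists_minimal_liesOver (R := B') q
  haveI : Q.LiesOver q := ⟨hQq.symm⟩
  refine parafactorial_atPrime_descend q Q hQmin (parafactorial_atPrime_of_complete hfs' k'
    (geomRed_congr (k₂ := ResidueField A) Function.surjective_id e hk') Q ?_ (Q.under A)
    (Or.inl (hd.trans (depth_atPrime_le q Q))))
  intro hle
  refine hq fun x hx => ?_
  rw [← Ideal.comap_map_eq_self_of_faithfullyFlat (B := B') ((maximalIdeal A).map (algebraMap A B)), Ideal.mem_comap,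
    Ideal.map_map, ← IsScalarTower.algebraMap_eq]
  exact hle (hQq.ge hx)

end Groth.Agent.ParaF26
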