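import Groth.Agent.Pure83.Cech
import Mathlib.Algebra.Algebra.Subalgebra.Basic
import Mathlib.RingTheory.Localization.Away.Basic
import Mathlib.RingTheory.Ideal.Quotient.Operations

/-!
Elementary Čech cohomology in degrees at most two on a punctured spectrum, inside an ambient ring.
-/

set_option autoImplicit false
set_option linter.style.haveILetI false

universe u v w

namespace Groth.Agent.ParaF26.CechP

open Pure83

variable {Q : Type u} [CommRing Q] (R : Type v) [CommRing R] [Algebra Q R]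

/-- The elements of `R` which lie in `Q[1/c]`. -/
def loc (c : Q) : Subalgebra Q R where
  carrier := {z | ∃ (k : ℕ) (a : Q), algebraMap Q R c ^ k * z = algebraMap Q R a}
  mul_mem' := by
    rintro z w ⟨k, a, ha⟩ ⟨l, b, hb⟩
    exact ⟨k + l, a * b, by rw [map_mul, ← ha, ← hb, pow_add]; ring⟩
  add_mem' := by
    rintro z w ⟨k, a, ha⟩ ⟨l, b, hb⟩
    exact ⟨k + l, c ^ l * a + c ^ k * b, by
      rw [map_add, map_mul, map_mul, map_pow, map_pow, ← ha, ← hb, pow_add]; ring⟩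
  algebraMap_mem' a := ⟨0, a, by rw [pow_zero, one_mul]⟩

variable {R}

theorem mem_loc {c : Q} {z : R} :
    z ∈ loc R c ↔ ∃ (k : ℕ) (a : Q), algebraMap Q R c ^ k * z = algebraMap Q R a := Iff.rfl

theorem mem_loc_iff_inLoc {c : Q} {z : R} : z ∈ loc R c ↔ InLoc (1 : Submodule Q R) c z := by
  simp [mem_loc, InLoc, Submodule.mem_one, Algebra.smul_def, eq_comm]

theorem exists_pow {c : Q} {z : R} (h : z ∈ loc R c) :
    ∃ k, ∀ l, k ≤ l → ∃ a : Q, algebraMap Q R c ^ l * z = algebraMap Q R a := by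
  obtain ⟨k, a, ha⟩ := h
  refine ⟨k, fun l hl => ⟨c ^ (l - k) * a, ?_⟩⟩
  rw [map_mul, map_pow, ← ha, ← mul_assoc, ← pow_add, Nat.sub_add_cancel hl]

theorem loc_mono {c d : Q} {n : ℕ} (h : c ∣ d ^ n) : loc R c ≤ loc R d := by
  rintro z ⟨k, a, ha⟩
  obtain ⟨e, he⟩ := h
  refine ⟨n * k, e ^ k * a, ?_⟩
  rw [pow_mul, ← map_pow, he, map_mul, map_mul, map_pow, ← ha]
  ring

theorem loc_le_mul (c d : Q) : loc R c ≤ loc R (c * d) :=
  loc_mono (n := 1) (by rw [pow_one]; exact dvd_mul_right c d)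

theorem loc_le_mul_left (c d : Q) : loc R d ≤ loc R (c * d) :=
  loc_mono (n := 1) (by rw [pow_one]; exact dvd_mul_left d c)

theorem inv_mem_loc {c : Q} {v : R} (h : algebraMap Q R c * v = 1) : v ∈ loc R c :=
  ⟨1, 1, by rw [pow_one, h, map_one]⟩

variable {ι : Type w}

/-- Degree zero. -/
theorem exists_h0 (hinj : Function.Injective (algebraMap Q R)) (g : ι → Q) (i0 i1 : ι)
    (hu : IsUnit (algebraMap Q R (g i0))) (hx : IsSMulRegular Q (g i0))
    (hy : RegMod (Ideal.span {g i0}) (g i1)) {z : R} (hz : ∀ i, z ∈ loc R (g i)) :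
    ∃ q : Q, algebraMap Q R q = z :=
  Submodule.mem_one.1 (h0Prop_base hinj g i0 i1 hu hx hy z fun i => mem_loc_iff_inLoc.1 (hz i))

/-- Degree one. -/
theorem exists_h1 [Finite ι] (hinj : Function.Injective (algebraMap Q R)) (g : ι → Q) (i0 i1 : ι)
    (hu : ∀ i, IsUnit (algebraMap Q R (g i))) (hx : IsSMulRegular Q (g i0))
    (hy : RegMod (Ideal.span {g i0}) (g i1)) (z : Q) (hz : RegMod (Ideal.span {g i0, g i1}) z)
    (hzrad : z ∈ (Ideal.span (Set.range g)).radical) (a : ι → ι → R)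
    (ha : ∀ i j, a i j ∈ loc R (g i * g j)) (hcoc : ∀ i j l, a i l = a i j + a j l) :
    ∃ α : ι → R, (∀ i, α i ∈ loc R (g i)) ∧ ∀ i j, a i j = α i - α j := by
  have key : ∀ i j, a i j = a i i0 - a j i0 := fun i j => by rw [hcoc i j i0]; ring
  obtain ⟨c, hc⟩ := h1Prop_base hinj g hu i0 i1 hx hy z hz hzrad (fun i => a i i0) fun i j => by
    rw [← key]
    exact mem_loc_iff_inLoc.1 (ha i j)
  refine ⟨fun i => a i i0 - c, fun i => mem_loc_iff_inLoc.2 ?_, fun i j => by rw [key]; ring⟩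
  have := hc i
  rwa [one_smul] at this

theorem mem_quotient_span {x a : Q} :
    Ideal.Quotient.mk (Ideal.span {x}) a = 0 ↔ ∃ b, a = x * b := by
  rw [Ideal.Quotient.eq_zero_iff_mem, Ideal.mem_span_singleton]
  rfl

theorem regMod_quotient (I : Ideal Q) {K : Ideal Q} {z : Q} (h : RegMod (I ⊔ K) z) :
    RegMod (K.map (Ideal.Quotient.mk I)) (Ideal.Quotient.mk I z) := by
  intro a' ha'
  obtain ⟨a, rfl⟩ := Ideal.Quotient.mk_surjective a'
  rw [← map_mul] at ha'
  obtain ⟨b, hb, hba⟩ := (Ideal.mem_map_iff_of_surjective _ Ideal.Quotient.mk_surjective).1 ha'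
  rw [Ideal.Quotient.eq] at hba
  have h1 := h a (by
    rw [show z * a = -(b - z * a) + b by ring]
    exact Submodule.add_mem_sup (neg_mem hba) hb)
  obtain ⟨i, hi, k, hk, rfl⟩ := Submodule.mem_sup.1 h1
  rw [map_add, Ideal.Quotient.eq_zero_iff_mem.2 hi, zero_add]
  exact Ideal.mem_map_of_mem _ hk

theorem isSMulRegular_quotient {I : Ideal Q} {z : Q} (h : RegMod I z) :
    IsSMulRegular (Q ⧸ I) (Ideal.Quotient.mk I z) := by
  refine isSMulRegular_iff_right_eq_zero_of_smul.2 fun a' ha' => ?_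
  obtain ⟨a, rfl⟩ := Ideal.Quotient.mk_surjective a'
  exact Ideal.Quotient.eq_zero_iff_mem.2 (h a (Ideal.Quotient.eq_zero_iff_mem.1 ((map_mul _ z a).trans ha')))

section DegreeTwo

variable [Finite ι] (hinj : Function.Injective (algebraMap Q R)) (g : ι → Q)
  (hu : ∀ i, IsUnit (algebraMap Q R (g i))) (i0 i1 i2 : ι) (hne1 : i1 ≠ i0) (hne2 : i2 ≠ i0)
  (hx : IsSMulRegular Q (g i0)) (hgx : ∀ i, i ≠ i0 → RegMod (Ideal.span {g i0}) (g i))
  (hy : RegMod (Ideal.span {g i0, g i1}) (g i2)) (w : Q)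
  (hw : RegMod (Ideal.span {g i0, g i1, g i2}) w) (hwrad : w ∈ (Ideal.span (Set.range g)).radical)

include hinj hu hne1 hne2 hgx hy hw hwrad in
/-- Degree one modulo `x`. -/
theorem exists_h1_mod (β : ι → ι → R) (hβ : ∀ i j, i ≠ i0 → j ≠ i0 → β i j ∈ loc R (g i * g j))
    (hcoc : ∀ i j l, i ≠ i0 → j ≠ i0 → l ≠ i0 →
      ∃ e ∈ loc R (g i * g j * g l), β j l - β i l + β i j = algebraMap Q R (g i0) * e) :
    ∃ α : ι → R, (∀ i, α i ∈ loc R (g i)) ∧ ∀ i j, i ≠ i0 → j ≠ i0 →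
      ∃ e ∈ loc R (g i * g j), β i j - (α i - α j) = algebraMap Q R (g i0) * e := by
  classical
  have := Fintype.ofFinite ι
  let X : Ideal Q := Ideal.span {g i0}
  let g' : {i // i ≠ i0} → Q ⧸ X := fun i => Ideal.Quotient.mk X (g i)
  have hg' : ∀ i, IsSMulRegular (Q ⧸ X) (g' i) := fun i => isSMulRegular_quotient (hgx i i.2)
  let G' := ∏ i, g' i
  have hG' : IsSMulRegular (Q ⧸ X) G' :=
    Finset.prod_induction g' (IsSMulRegular (Q ⧸ X)) (fun _ _ => IsSMulRegular.mul)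
      (IsSMulRegular.one _) fun i _ => hg' i
  let R' := Localization.Away G'
  have hinj' : Function.Injective (algebraMap (Q ⧸ X) R') :=
    IsLocalization.injective (M := Submonoid.powers G') R' fun a ⟨j, e⟩ => e ▸
      mem_nonZeroDivisors_iff_right.mpr fun b hb => (hG'.pow j).right_eq_zero_of_smul
        (by show G' ^ j * b = 0; rwa [mul_comm])
  have hu' : ∀ i, IsUnit (algebraMap (Q ⧸ X) R' (g' i)) := fun i => isUnit_of_dvd_unit
    (map_dvd _ (Finset.dvd_prod_of_mem g' (Finset.mem_univ i))) (IsLocalization.Away.algebraMap_isUnit G')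
  choose v hv using fun i => (hu' i).exists_right_inv
  -- a uniform exponent
  choose! k hk using fun i (hi : i ≠ i0) j (hj : j ≠ i0) => exists_pow (hβ i j hi hj)
  obtain ⟨M, hM⟩ := Finite.exists_le (fun p : ι × ι => k p.1 p.2)
  choose! a ha using fun i (hi : i ≠ i0) j (hj : j ≠ i0) => hk i hi j hj M (hM (i, j))
  let η : {i // i ≠ i0} → {i // i ≠ i0} → R' := fun i j =>
    algebraMap (Q ⧸ X) R' (Ideal.Quotient.mk X (a i j)) * (v i * v j) ^ M
  have hη : ∀ i j, η i j ∈ loc R' (g' i * g' j) := fun i j => Subalgebra.mul_mem _ (Subalgebra.algebraMap_mem _ _)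
    (Subalgebra.pow_mem _ (Subalgebra.mul_mem _ (loc_le_mul _ _ (inv_mem_loc (hv i)))
      (loc_le_mul_left _ _ (inv_mem_loc (hv j)))) _)
  have hηcoc : ∀ i j l, η i l = η i j + η j l := by
    intro i j l
    obtain ⟨e, he, heq⟩ := hcoc i j l i.2 j.2 l.2
    obtain ⟨m, b, hb⟩ := he
    let d : Q := g i.1 * g j * g l
    have h1 : d ^ m * (g i.1 ^ M * a j l - g j ^ M * a i l + g l ^ M * a i j) = g i0 * (d ^ M * b) := hinj (by
      simp only [d, map_mul, map_pow, map_add, map_sub, ← ha i i.2 j j.2, ← ha j j.2 l l.2, ← ha i i.2 l l.2, ← hb]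
      linear_combination ((algebraMap Q R (g i) * algebraMap Q R (g j) * algebraMap Q R (g l)) ^ m *
        (algebraMap Q R (g i) * algebraMap Q R (g j) * algebraMap Q R (g l)) ^ M) * heq)
    have h2 := congrArg (fun q => algebraMap (Q ⧸ X) R' (Ideal.Quotient.mk X q)) h1
    simp only [d, map_mul, map_pow, map_add, map_sub,
      show Ideal.Quotient.mk X (g i0) = 0 from Ideal.Quotient.eq_zero_iff_mem.2 (Ideal.mem_span_singleton_self _),
      map_zero, zero_mul] at h2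
    have hvi : algebraMap (Q ⧸ X) R' (Ideal.Quotient.mk X (g i)) * v i = 1 := hv i
    have hvj : algebraMap (Q ⧸ X) R' (Ideal.Quotient.mk X (g j)) * v j = 1 := hv j
    have hvl : algebraMap (Q ⧸ X) R' (Ideal.Quotient.mk X (g l)) * v l = 1 := hv l
    have h3 := IsUnit.mul_right_eq_zero (((hu' i).mul (hu' j)).mul (hu' l) |>.pow m) |>.1 h2
    have e1 : (algebraMap (Q ⧸ X) R' (Ideal.Quotient.mk X (g i)) * v i) ^ M = 1 := by rw [hvi, one_pow]
    have e2 : (algebraMap (Q ⧸ X) R' (Ideal.Quotient.mk X (g j)) * v j) ^ M = 1 := by rw [hvj, one_pow]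
    have e3 : (algebraMap (Q ⧸ X) R' (Ideal.Quotient.mk X (g l)) * v l) ^ M = 1 := by rw [hvl, one_pow]
    simp only [η]
    linear_combination (-(v i * v j * v l) ^ M) * h3 +
      (algebraMap (Q ⧸ X) R' (Ideal.Quotient.mk X (a j l)) * (v j * v l) ^ M) * e1 -
      (algebraMap (Q ⧸ X) R' (Ideal.Quotient.mk X (a i l)) * (v i * v l) ^ M) * e2 +
      (algebraMap (Q ⧸ X) R' (Ideal.Quotient.mk X (a i j)) * (v i * v j) ^ M) * e3
  have hpair : Ideal.span {g' ⟨i1, hne1⟩, g' ⟨i2, hne2⟩} = (Ideal.span {g i1, g i2}).map (Ideal.Quotient.mk X) := by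
    rw [Ideal.map_span, Set.image_pair]
  obtain ⟨α, hα, hαη⟩ := exists_h1 hinj' g' ⟨i1, hne1⟩ ⟨i2, hne2⟩ hu' (hg' _)
    (by
      have := regMod_quotient X (K := Ideal.span {g i1}) (z := g i2) (by rwa [← Ideal.span_insert])
      rwa [Ideal.map_span, Set.image_singleton] at this)
    (Ideal.Quotient.mk X w)
    (hpair ▸ regMod_quotient X (by rwa [← Ideal.span_insert]))
    (by
      obtain ⟨n, hn⟩ := hwrad
      refine ⟨n, ?_⟩
      rw [← map_pow]
      refine SetLike.le_def.1 ?_ (Ideal.mem_map_of_mem (Ideal.Quotient.mk X) hn)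
      rw [Ideal.map_span, Ideal.span_le]
      rintro _ ⟨_, ⟨i, rfl⟩, rfl⟩
      by_cases hi : i = i0
      · rw [hi, show Ideal.Quotient.mk X (g i0) = 0 from Ideal.Quotient.eq_zero_iff_mem.2 (Ideal.mem_span_singleton_self _)]
        exact zero_mem _
      · exact Ideal.subset_span ⟨⟨i, hi⟩, rfl⟩)
    η hη hηcoc
  choose n c hc using fun i => hα i
  choose q hq using fun i => Ideal.Quotient.mk_surjective (c i)
  choose r hr using fun i : ι => (hu i).exists_right_inv
  let α' : ι → R := fun i => if hi : i ≠ i0 then algebraMap Q R (q ⟨i, hi⟩) * r i ^ n ⟨i, hi⟩ else 0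
  refine ⟨α', fun i => ?_, fun i j hi hj => ?_⟩
  · by_cases hi : i ≠ i0
    · simp only [α', dif_pos hi]
      exact Subalgebra.mul_mem _ (Subalgebra.algebraMap_mem _ _) (Subalgebra.pow_mem _ (inv_mem_loc (hr i)) _)
    · simp only [α', dif_neg hi]
      exact zero_mem _
  · let ni := n ⟨i, hi⟩
    let nj := n ⟨j, hj⟩
    let b : Q := (g i ^ ni * g j ^ nj) * a i j -
      (g i * g j) ^ M * (g j ^ nj * q ⟨i, hi⟩ - g i ^ ni * q ⟨j, hj⟩)
    have hb : Ideal.Quotient.mk X b = 0 := hinj' (by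
      have h4 := hαη ⟨i, hi⟩ ⟨j, hj⟩
      have e1 : (algebraMap (Q ⧸ X) R' (g' ⟨i, hi⟩) * v ⟨i, hi⟩) ^ M = 1 := by rw [hv, one_pow]
      have e2 : (algebraMap (Q ⧸ X) R' (g' ⟨j, hj⟩) * v ⟨j, hj⟩) ^ M = 1 := by rw [hv, one_pow]
      simp only [η, g'] at h4 e1 e2
      simp only [b, ni, nj, map_sub, map_mul, map_pow, map_zero, hq, ← hc, g']
      linear_combination (algebraMap (Q ⧸ X) R' (Ideal.Quotient.mk X (g i)) ^ n ⟨i, hi⟩ *
          algebraMap (Q ⧸ X) R' (Ideal.Quotient.mk X (g j)) ^ n ⟨j, hj⟩ *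
          (algebraMap (Q ⧸ X) R' (Ideal.Quotient.mk X (g i)) * algebraMap (Q ⧸ X) R' (Ideal.Quotient.mk X (g j))) ^ M) * h4 -
        (algebraMap (Q ⧸ X) R' (Ideal.Quotient.mk X (g i)) ^ n ⟨i, hi⟩ *
          algebraMap (Q ⧸ X) R' (Ideal.Quotient.mk X (g j)) ^ n ⟨j, hj⟩ *
          algebraMap (Q ⧸ X) R' (Ideal.Quotient.mk X (a i j))) * e1 -
        (algebraMap (Q ⧸ X) R' (Ideal.Quotient.mk X (g i)) ^ n ⟨i, hi⟩ *
          algebraMap (Q ⧸ X) R' (Ideal.Quotient.mk X (g j)) ^ n ⟨j, hj⟩ *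
          algebraMap (Q ⧸ X) R' (Ideal.Quotient.mk X (a i j)) *
          (algebraMap (Q ⧸ X) R' (Ideal.Quotient.mk X (g i)) * v ⟨i, hi⟩) ^ M) * e2)
    obtain ⟨e, he⟩ := mem_quotient_span.1 hb
    refine ⟨algebraMap Q R e * (r i * r j) ^ M * r i ^ ni * r j ^ nj, ?_, ?_⟩
    · have hi' := loc_le_mul (g i) (g j) (inv_mem_loc (hr i))
      have hj' := loc_le_mul_left (g i) (g j) (inv_mem_loc (hr j))
      exact Subalgebra.mul_mem _ (Subalgebra.mul_mem _ (Subalgebra.mul_mem _ (Subalgebra.algebraMap_mem _ _)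
        (Subalgebra.pow_mem _ (Subalgebra.mul_mem _ hi' hj') _)) (Subalgebra.pow_mem _ hi' _))
        (Subalgebra.pow_mem _ hj' _)
    · refine ((((hu i).mul (hu j)).pow M).mul (((hu i).pow ni).mul ((hu j).pow nj))).mul_left_cancel ?_
      have h5 := congrArg (algebraMap Q R) he
      simp only [b, map_sub, map_mul, map_pow, ← ha i hi j hj] at h5
      have e1 : (algebraMap Q R (g i) * r i) ^ ni = 1 := by rw [hr, one_pow]
      have e2 : (algebraMap Q R (g j) * r j) ^ nj = 1 := by rw [hr, one_pow]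
      have e3 : (algebraMap Q R (g i) * r i * (algebraMap Q R (g j) * r j)) ^ M = 1 := by
        rw [hr, hr, one_mul, one_pow]
      simp only [α', dif_pos hi, dif_pos hj]

      linear_combination h5 -
        ((algebraMap Q R (g i) * algebraMap Q R (g j)) ^ M * algebraMap Q R (g j) ^ nj * algebraMap Q R (q ⟨i, hi⟩)) * e1 +
        ((algebraMap Q R (g i) * algebraMap Q R (g j)) ^ M * algebraMap Q R (g i) ^ ni * algebraMap Q R (q ⟨j, hj⟩)) * e2 -
        (algebraMap Q R (g i0) * algebraMap Q R e * (algebraMap Q R (g i) * r i) ^ ni *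
          (algebraMap Q R (g j) * r j) ^ nj) * e3 -
        (algebraMap Q R (g i0) * algebraMap Q R e * (algebraMap Q R (g j) * r j) ^ nj) * e1 -
        (algebraMap Q R (g i0) * algebraMap Q R e) * e2

include hinj hu hne1 hne2 hgx hy hw hwrad in
/-- Degree one modulo powers of `x`. -/
theorem exists_h1_mod_pow (N : ℕ) (β : ι → ι → R) (hβ : ∀ i j, i ≠ i0 → j ≠ i0 → β i j ∈ loc R (g i * g j))
    (hcoc : ∀ i j l, i ≠ i0 → j ≠ i0 → l ≠ i0 →
      ∃ e ∈ loc R (g i * g j * g l), β j l - β i l + β i j = algebraMap Q R (g i0) ^ N * e) :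
    ∃ α : ι → R, (∀ i, α i ∈ loc R (g i)) ∧ ∀ i j, i ≠ i0 → j ≠ i0 →
      ∃ e ∈ loc R (g i * g j), β i j - (α i - α j) = algebraMap Q R (g i0) ^ N * e := by
  induction N generalizing β with
  | zero =>
    exact ⟨0, fun i => zero_mem _, fun i j hi hj => ⟨β i j, hβ i j hi hj, by simp⟩⟩
  | succ N ih =>
    obtain ⟨α, hα, hαβ⟩ := exists_h1_mod hinj g hu i0 i1 i2 hne1 hne2 hgx hy w hw hwrad β hβ fun i j l hi hj hl => by
      obtain ⟨e, he, h⟩ := hcoc i j l hi hj hl
      exact ⟨algebraMap Q R (g i0) ^ N * e, Subalgebra.mul_mem _ (Subalgebra.pow_mem _ (Subalgebra.algebraMap_mem _ _) _) he,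
        by rw [h, pow_succ']; ring⟩
    choose! γ hγ hγβ using fun i (hi : i ≠ i0) j (hj : j ≠ i0) => hαβ i j hi hj
    obtain ⟨α₂, hα₂, hα₂γ⟩ := ih γ (fun i j hi hj => hγ i hi j hj) fun i j l hi hj hl => by
      obtain ⟨e, he, h⟩ := hcoc i j l hi hj hl
      refine ⟨e, he, (hu i0).mul_left_cancel ?_⟩
      linear_combination h - hγβ j hj l hl + hγβ i hi l hl - hγβ i hi j hj
    refine ⟨fun i => α i + algebraMap Q R (g i0) * α₂ i,
      fun i => add_mem (hα i) (Subalgebra.mul_mem _ (Subalgebra.algebraMap_mem _ _) (hα₂ i)), fun i j hi hj => ?_⟩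
    obtain ⟨e, he, h⟩ := hα₂γ i j hi hj
    exact ⟨e, he, by linear_combination hγβ i hi j hj + algebraMap Q R (g i0) * h⟩

include hinj hu hne1 hne2 hgx hy hw hwrad in
/-- Degree two. -/
theorem exists_h2 (c : ι → ι → ι → R) (hc : ∀ i j l, c i j l ∈ loc R (g i * g j * g l))
    (hcoc : ∀ i j l m, c j l m - c i l m + c i j m - c i j l = 0) :
    ∃ b : ι → ι → R, (∀ i j, b i j ∈ loc R (g i * g j)) ∧ ∀ i j l, c i j l = b j l - b i l + b i j := by
  classical
  obtain ⟨x', hx'⟩ := (hu i0).exists_right_inv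
  have hxmem : x' ∈ loc R (g i0) := inv_mem_loc hx'
  -- a uniform exponent of the pole along `x`
  have hbnd : ∀ p : ι × ι × ι, ∃ k : ℕ,
      algebraMap Q R (g i0) ^ k * c p.1 p.2.1 i0 ∈ loc R (g p.1 * g p.2.1) := fun p => by
    obtain ⟨k, a, ha⟩ := hc p.1 p.2.1 i0
    rw [map_mul, mul_pow] at ha
    exact ⟨k, k, a, by rw [← ha, mul_assoc]⟩
  choose kb hkb using hbnd
  obtain ⟨N, hN⟩ := Finite.exists_le kb
  let β : ι → ι → R := fun i j => algebraMap Q R (g i0) ^ N * c i j i0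
  have hβ : ∀ i j, β i j ∈ loc R (g i * g j) := fun i j => by
    have := Subalgebra.mul_mem _ (Subalgebra.pow_mem _ (Subalgebra.algebraMap_mem (loc R (g i * g j)) (g i0))
      (N - kb (i, j, i0))) (hkb (i, j, i0))
    rwa [← mul_assoc, ← pow_add, Nat.sub_add_cancel (hN (i, j, i0))] at this
  obtain ⟨α, hα, hαβ⟩ := exists_h1_mod_pow hinj g hu i0 i1 i2 hne1 hne2 hgx hy w hw hwrad N β
    (fun i j _ _ => hβ i j) fun i j l _ _ _ =>
      ⟨c i j l, hc i j l, by linear_combination (algebraMap Q R (g i0) ^ N) * hcoc i j l i0⟩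
  let a : ι → R := fun i => if i = i0 then 0 else x' ^ N * α i
  have ha : ∀ i, a i ∈ loc R (g i0 * g i) := fun i => by
    simp only [a]
    split_ifs
    · exact zero_mem _
    · exact Subalgebra.mul_mem _ (Subalgebra.pow_mem _ (loc_le_mul _ _ hxmem) _) (loc_le_mul_left _ _ (hα i))
  refine ⟨fun i j => c i j i0 - (a i - a j), fun i j => ?_, fun i j l => ?_⟩
  · by_cases hi : i = i0
    · have hsub : loc R (g i0 * g j * g i0) ≤ loc R (g i0 * g j) :=
        loc_mono (n := 2) ⟨g j, by ring⟩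
      refine sub_mem (hi ▸ hsub (hc i0 j i0)) (sub_mem ?_ ?_)
      · simp [a, hi]
      · exact hi ▸ ha j
    by_cases hj : j = i0
    · have hsub : loc R (g i * g i0 * g i0) ≤ loc R (g i * g i0) :=
        loc_mono (n := 2) ⟨g i, by ring⟩
      refine sub_mem (hj ▸ hsub (hc i i0 i0)) (sub_mem ?_ ?_)
      · rw [hj, mul_comm]; exact ha i
      · simp [a, hj]
    obtain ⟨e, he, h⟩ := hαβ i j hi hj
    have heq : c i j i0 - (a i - a j) = e := by
      refine ((hu i0).pow N).mul_left_cancel ?_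
      have e1 : (algebraMap Q R (g i0) * x') ^ N = 1 := by rw [hx', one_pow]
      simp only [a, if_neg hi, if_neg hj, β] at h ⊢
      linear_combination h - (α i - α j) * e1
    show c i j i0 - (a i - a j) ∈ _
    rw [heq]; exact he
  · linear_combination -(hcoc i j l i0)

end DegreeTwo

end Groth.Agent.ParaF26.CechP
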