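import Groth.Agent.ParaF26.FlatSec
import Groth.Agent.ParaF26.Open
import Groth.Agent.Desc59.ModDesc
import Groth.Agent.QCqs72.Basic
import Groth.Agent.Mero90.Triv
import Groth.Agent.Amp73.PullTensor
import Groth.Agent.EGA73.Invertible

/-!
Invertibility of direct images descends along faithfully flat base change.
-/

set_option autoImplicit false
set_option backward.isDefEq.respectTransparency false
set_option backward.isDefEq.respectTransparency.types false
set_option linter.style.haveILetI false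
set_option maxHeartbeats 1000000

noncomputable section

universe u

open CategoryTheory Limits AlgebraicGeometry TopologicalSpace Opposite TensorProduct

namespace Groth.Agent.ParaF26.DescPush

open Var76.LineBundle Var76.ZeroScheme

variable {X Y X' Y' : Scheme.{u}} (f : X ⟶ Y) (g : Y' ⟶ Y) (f' : X' ⟶ Y') (g' : X' ⟶ X)
  [QuasiCompact f] [QuasiSeparated f] [Flat g] (H : IsPullback g' f' f g)
  (L : X.Modules) [L.IsQuasicoherent] {V : Y.Opens} {W : Y'.Opens} (hWV : W ≤ g ⁻¹ᵁ V)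

omit [Flat g] [QuasiCompact f] in
theorem isQuasiSeparated_preimage (hV : IsAffineOpen V) : IsQuasiSeparated ((f ⁻¹ᵁ V : X.Opens) : Set X) := by
  rw [isQuasiSeparated_iff_quasiSeparatedSpace _ (f ⁻¹ᵁ V).isOpen]
  have : IsAffine V.toScheme := hV
  exact quasiSeparatedSpace_of_quasiSeparated (f ∣_ V)

include H hWV in
/-- Sections of `g^* f_* L` on small affine opens are those of `f'_* g'^* L`. -/
theorem exists_sections_equiv (hV : IsAffineOpen V) (hW : IsAffineOpen W) :
    Nonempty (Γ((Scheme.Modules.pullback g).obj ((Scheme.Modules.pushforward f).obj L), W) ≃ₗ[Γ(Y', W)]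
      Γ((Scheme.Modules.pushforward f').obj ((Scheme.Modules.pullback g').obj L), W)) := by
  let N := (Scheme.Modules.pushforward f).obj L
  let G := (Scheme.Modules.pullback g').obj L
  let P := (Scheme.Modules.pushforward f').obj G
  haveI : N.IsQuasicoherent := QCqs72.isQuasicoherent_pushforward L f
  letI := (g.appLE V W hWV).hom.toAlgebra
  letI := FlatSec.mdl f L (le_refl (f ⁻¹ᵁ V))
  let E₁ := QCPull72.sectionsPullbackEquiv g N hV hW hWV
  let c : Γ(N, V) ≃ₗ[Γ(Y, V)] Γ(L, f ⁻¹ᵁ V) :=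
    { toFun := fun x => x
      invFun := fun x => x
      map_add' := fun _ _ => rfl
      map_smul' := fun a x => by
        show f.app V a • (show Γ(L, f ⁻¹ᵁ V) from x) = f.appLE V (f ⁻¹ᵁ V) le_rfl a • (show Γ(L, f ⁻¹ᵁ V) from x)
        rw [Scheme.Hom.app_eq_appLE]
      left_inv := fun _ => rfl
      right_inv := fun _ => rfl }
  let E₂ := c.baseChange Γ(Y, V) Γ(Y', W) _ _
  have hO : f' ⁻¹ᵁ W ≤ g' ⁻¹ᵁ (f ⁻¹ᵁ V) ⊓ f' ⁻¹ᵁ W := le_inf (fun z hz => by
    show f (g' z) ∈ V
    rw [← Scheme.Hom.comp_apply, H.w, Scheme.Hom.comp_apply]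
    exact hWV hz) le_rfl
  have hμ := FlatSec.μ_bijective f g f' g' H L hWV hV hW le_rfl (f.isCompact_preimage hV.isCompact)
    (isQuasiSeparated_preimage f hV)
  let μ := FlatSec.μ f g f' g' H L hWV (le_refl (f ⁻¹ᵁ V))
  let F : Γ(Y', W) ⊗[Γ(Y, V)] Γ(L, f ⁻¹ᵁ V) →ₗ[Γ(Y', W)] Γ(P, W) :=
    { toFun := fun z => res G hO (μ z)
      map_add' := fun a b => (congrArg (res G hO) (map_add μ a b)).trans (QC70.res_add _ _ _)
      map_smul' := fun b z => by
        induction z with
        | zero =>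
          rw [smul_zero, map_zero]
          exact (QC70.res_zero hO).trans ((congrArg (fun t : Γ(P, W) => b • t) (QC70.res_zero (M := G) hO)).trans (smul_zero b)).symm
        | add p q hp hq =>
          rw [smul_add, map_add, map_add]
          exact ((QC70.res_add hO _ _).trans ((congrArg₂ (· + ·) hp hq).trans (smul_add (A := Γ(P, W)) b _ _).symm)).trans
            (congrArg (fun t : Γ(P, W) => b • t) (QC70.res_add (M := G) hO _ _).symm)
        | tmul a x =>
          rw [TensorProduct.smul_tmul', smul_eq_mul]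
          simp only [μ, FlatSec.μ_tmul, res_smul, RingHom.id_apply]
          show _ = f'.app W b • (show Γ(G, f' ⁻¹ᵁ W) from _)
          rw [map_mul, map_mul, mul_smul]
          refine congrArg (fun c : Γ(X', f' ⁻¹ᵁ W) => c • _) ?_
          rw [Scheme.Hom.app_eq_appLE]
          exact ConcreteCategory.congr_hom (Scheme.Hom.appLE_map f'
            (inf_le_right : g' ⁻¹ᵁ (f ⁻¹ᵁ V) ⊓ f' ⁻¹ᵁ W ≤ f' ⁻¹ᵁ W) (homOfLE hO).op) b }
  have hF : Function.Bijective F := by
    show Function.Bijective (res G hO ∘ μ)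
    refine Function.Bijective.comp ?_ hμ
    have he : g' ⁻¹ᵁ (f ⁻¹ᵁ V) ⊓ f' ⁻¹ᵁ W = f' ⁻¹ᵁ W := le_antisymm inf_le_right hO
    exact ParaF26.bijective_res_of_eq G hO he.le
  exact ⟨E₁ ≪≫ₗ E₂ ≪≫ₗ LinearEquiv.ofBijective F hF⟩

/-- Sections on the domain of a frame form a free module of rank one. -/
def frameEquiv {M : X.Modules} {U : X.Opens} {e : Γ(M, U)} (he : IsFrame M U e) : Γ(X, U) ≃ₗ[Γ(X, U)] Γ(M, U) :=
  LinearEquiv.ofBijective (LinearMap.toSpanSingleton Γ(X, U) Γ(M, U) e) (by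
    have h := he U le_rfl
    have e' : (fun a : Γ(X, U) => a • res M le_rfl e) = fun a : Γ(X, U) => a • e :=
      funext fun a => by rw [Amp73.res_self]
    rw [e'] at h
    exact h)

include H in
/-- A direct image whose flat base change is invertible is invertible. -/
theorem isInvertible_pushforward [QuasiCompact g] [Surjective g]
    (hP : PicF.IsInvertible ((Scheme.Modules.pushforward f').obj ((Scheme.Modules.pullback g').obj L))) :
    PicF.IsInvertible ((Scheme.Modules.pushforward f).obj L) := by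
  let N := (Scheme.Modules.pushforward f).obj L
  haveI : N.IsQuasicoherent := QCqs72.isQuasicoherent_pushforward L f
  have key : ∀ (y : Y') (V : Y.Opens), IsAffineOpen V → g y ∈ V →
      ∃ W : Y'.Opens, IsAffineOpen W ∧ y ∈ W ∧ ∃ _ : W ≤ g ⁻¹ᵁ V,
        Nonempty (Γ((Scheme.Modules.pullback g).obj N, W) ≃ₗ[Γ(Y', W)] Γ(Y', W)) := by
    intro y V hV hy
    obtain ⟨W, hyW, hWV, e, he⟩ := Mero90.exists_affine_frame hP y (g ⁻¹ᵁ V) hy
    obtain ⟨E⟩ := exists_sections_equiv f g f' g' H L hWV hV W.2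
    exact ⟨W.1, W.2, hyW, hWV, ⟨E ≪≫ₗ (frameEquiv he).symm⟩⟩
  haveI := QCPull72.isQuasicoherent_pullback g N
  have hpl : FlatMod.IsFinLocFree ((Scheme.Modules.pullback g).obj N) := by
    refine FlatMor68.LocFree.isFinLocFree_of_projective_sections _ fun y => ?_
    obtain ⟨V, hV, hy, -⟩ := exists_isAffineOpen_mem_and_subset (x := g y) (U := ⊤) trivial
    obtain ⟨W, hW, hyW, -, ⟨E⟩⟩ := key y V hV hy
    exact ⟨W, hW, hyW, Module.Projective.of_equiv E.symm, Module.Finite.equiv E.symm⟩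
  have hs := g.singleton_mem_qcPrecoverage
  rw [← Presieve.ofArrows_pUnit.{_, _, u + 1}] at hs
  have : QuasiCompactCover (⟨PUnit.{u + 1}, fun _ => Y', fun _ => g⟩ : PreZeroHypercover.{u} Y) :=
    Scheme.presieve₀_mem_qcPrecoverage_iff.mp hs
  have hfl : FlatMod.IsFinLocFree N :=
    Desc59.ModDesc.isFinLocFree_of_pullback (ι := PUnit.{u + 1}) (fun _ => g) (fun _ => inferInstance) N fun _ => hpl
  refine Mero90.isInvertible_of_frames fun x => ?_
  obtain ⟨U, n, s, hxU, hs⟩ := Props58.LocFree.isFinLocFree_iff.mp hfl x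
  obtain ⟨V, hV, hxV, hVU⟩ := exists_isAffineOpen_mem_and_subset (x := x) (U := U) hxU
  obtain ⟨y, hy⟩ := g.surjective x
  obtain ⟨W, hW, hyW, hWV, ⟨E⟩⟩ := key y V hV (hy ▸ hxV)
  let b : (Fin n → Γ(Y, V)) →ₗ[Γ(Y, V)] Γ(N, V) :=
    Fintype.linearCombination Γ(Y, V) fun i => res N hVU (s i)
  have hb : Function.Bijective b := hs.bijective hVU
  letI := (g.appLE V W hWV).hom.toAlgebra
  haveI : Nonempty W := ⟨⟨y, hyW⟩⟩
  have h1 : Module.finrank Γ(Y', W) (Γ(Y', W) ⊗[Γ(Y, V)] (Fin n → Γ(Y, V))) = 1 := by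
    rw [((LinearEquiv.ofBijective b hb).baseChange Γ(Y, V) Γ(Y', W) _ _).finrank_eq,
      ← (QCPull72.sectionsPullbackEquiv g N hV hW hWV).finrank_eq, E.finrank_eq, Module.finrank_self]
  haveI : Nonempty V := ⟨⟨x, hxV⟩⟩
  rw [Module.finrank_baseChange, Module.finrank_fin_fun] at h1
  subst h1
  refine ⟨U, hxU, s 0, fun W hW => ?_⟩
  have hb := (hs.bijective hW).comp (Equiv.funUnique (Fin 1) Γ(Y, W)).symm.bijective
  refine (show (fun c : Γ(Y, W) => c • res N hW (s 0)) = _ from ?_) ▸ hb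
  funext c
  simp

include H in
/-- The adjoint of a frame of the direct image is a frame, if the module becomes trivial. -/
theorem isFrame_of_trivial [Surjective g] (hL : PicF.IsInvertible L)
    (φ : (Scheme.Modules.pullback g').obj L ≅ Coh.structureModule X') (hV : IsAffineOpen V)
    {e : Γ((Scheme.Modules.pushforward f).obj L, V)} (he : IsFrame ((Scheme.Modules.pushforward f).obj L) V e) :
    IsFrame L (f ⁻¹ᵁ V) (show Γ(L, f ⁻¹ᵁ V) from e) := by
  let N := (Scheme.Modules.pushforward f).obj L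
  let G := (Scheme.Modules.pullback g').obj L
  let e₀ : Γ(L, f ⁻¹ᵁ V) := e
  obtain ⟨t, ht⟩ := exists_frame_of_iso_unit φ
  let p : Γ(G, g' ⁻¹ᵁ (f ⁻¹ᵁ V)) := Amp73.pullS g' L (f ⁻¹ᵁ V) e₀
  have hp : IsFrame G (g' ⁻¹ᵁ (f ⁻¹ᵁ V)) p := by
    refine Amp73.isFrame_of_locally p fun z hz => ?_
    have hz' : g (f' z) ∈ V := by
      rw [← Scheme.Hom.comp_apply, ← H.w]
      exact hz
    obtain ⟨W, hW, hzW, hWV⟩ := exists_isAffineOpen_mem_and_subset (x := f' z) (U := g ⁻¹ᵁ V) hz'
    letI := FlatSec.mdl f L (le_refl (f ⁻¹ᵁ V))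
    letI := (g.appLE V W hWV).hom.toAlgebra
    let O := g' ⁻¹ᵁ (f ⁻¹ᵁ V) ⊓ f' ⁻¹ᵁ W
    refine ⟨O, inf_le_left, ⟨hz, hzW⟩, ?_⟩
    let μ := FlatSec.μ f g f' g' H L hWV (le_refl (f ⁻¹ᵁ V))
    have himg : ∀ w, ∃ c : Γ(X', O), μ w = c • res G inf_le_left p := by
      intro w
      induction w with
      | zero => exact ⟨0, by rw [map_zero, zero_smul]⟩
      | add a b ha hb =>
        obtain ⟨c, hc⟩ := ha
        obtain ⟨d, hd⟩ := hb
        exact ⟨c + d, by rw [map_add, hc, hd, add_smul]⟩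
      | tmul a x =>
        obtain ⟨v, hv⟩ := (he V le_rfl).2 (show Γ(N, V) from x)
        dsimp only at hv
        rw [Amp73.res_self] at hv
        have hx : x = f.app V v • e₀ := hv.symm
        refine ⟨f'.appLE W O inf_le_right a * (X'.presheaf.map (homOfLE inf_le_left).op) (g'.app _ (f.app V v)), ?_⟩
        rw [FlatSec.μ_tmul, hx, Amp73.pullS_smul, QC70.res_smul, mul_smul]
    obtain ⟨w, hw⟩ := (FlatSec.μ_bijective f g f' g' H L hWV hV hW le_rfl (f.isCompact_preimage hV.isCompact)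
      (isQuasiSeparated_preimage f hV)).2 (res G (le_top : O ≤ ⊤) t)
    obtain ⟨c, hc⟩ := himg w
    have htO := ht.res (le_top : O ≤ ⊤)
    obtain ⟨d, hd⟩ := (htO O le_rfl).2 (res G inf_le_left p)
    dsimp only at hd
    rw [Amp73.res_self] at hd
    rw [← hd]
    refine (Amp73.isFrame_smul_iff htO d).2 (IsUnit.of_mul_eq_one c ((htO O le_rfl).1 ?_))
    dsimp only
    rw [Amp73.res_self, one_smul, mul_comm, mul_smul, hd]
    exact hc.symm.trans hw
  refine Amp73.isFrame_of_locally _ fun x hx => ?_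
  obtain ⟨U, hxU, hUV, s, hs⟩ := Mero90.exists_affine_frame hL x (f ⁻¹ᵁ V) hx
  obtain ⟨c, hc⟩ := (hs U.1 le_rfl).2 (res L hUV e₀)
  dsimp only at hc
  rw [Amp73.res_self] at hc
  refine ⟨U.1, hUV, hxU, ?_⟩
  rw [show res L hUV (show Γ(L, f ⁻¹ᵁ V) from e) = c • s from hc.symm]
  refine (Amp73.isFrame_smul_iff hs c).2 ?_
  have h1 := Amp73.isFrame_pullS g' hL hs
  have h2 := hp.res (g'.preimage_mono hUV)
  rw [Amp73.res_pullS g' L hUV e₀, ← hc, Amp73.pullS_smul] at h2
  have hu := (Amp73.isFrame_smul_iff h1 _).1 h2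
  haveI : Surjective g' := MorphismProperty.of_isPullback (P := @Surjective) H.flip inferInstance
  have hb : g' ⁻¹ᵁ X.basicOpen c = g' ⁻¹ᵁ U.1 :=
    (Scheme.preimage_basicOpen g' c).trans (X'.basicOpen_of_isUnit hu)
  have hb' : X.basicOpen c = U.1 := le_antisymm (X.basicOpen_le c) fun a ha => by
    obtain ⟨z, rfl⟩ := g'.surjective a
    exact hb.ge ha
  exact X.toRingedSpace.isUnit_of_isUnit_germ U.1 c fun y hy => (X.mem_basicOpen c y hy).1 (hb'.ge hy)

end Groth.Agent.ParaF26.DescPush
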