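import Groth.Agent.Desc59.FlatH0

/-!
Flat base change of sections over an affine open of the base.
-/

set_option autoImplicit false
set_option backward.isDefEq.respectTransparency false
set_option backward.isDefEq.respectTransparency.types false
set_option linter.style.haveILetI false
set_option maxHeartbeats 1000000

noncomputable section

universe u

open CategoryTheory Limits AlgebraicGeometry TopologicalSpace Opposite TensorProduct
open Groth.Agent.QC70

namespace Groth.Agent.ParaF26.FlatSec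

open Desc59.FlatH0 (eq_of_cover exists_finite_affine_cover exists_coord_lift)

variable {X Y X' Y' : Scheme.{u}} (f : X ⟶ Y) (g : Y' ⟶ Y) (f' : X' ⟶ Y') (g' : X' ⟶ X)
  (H : IsPullback g' f' f g) (F : X.Modules) {V : Y.Opens} {W : Y'.Opens} (hWV : W ≤ g ⁻¹ᵁ V)

/-- the module structure over the functions of `V` -/
@[reducible] def mdl {U : X.Opens} (hU : U ≤ f ⁻¹ᵁ V) : Module Γ(Y, V) Γ(F, U) :=
  Module.compHom _ (f.appLE V U hU).hom

/-- restriction, linear over `V` -/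
def resLin {U T : X.Opens} (hU : U ≤ f ⁻¹ᵁ V) (h : T ≤ U) :
    letI := mdl f F hU
    letI := mdl f F (h.trans hU)
    Γ(F, U) →ₗ[Γ(Y, V)] Γ(F, T) :=
  letI := mdl f F hU
  letI := mdl f F (h.trans hU)
  { toFun := res F h
    map_add' := map_add _
    map_smul' := fun a x => by
      refine (res_smul (M := F) h (f.appLE V U hU a) x).trans ?_
      exact congrArg (fun c : Γ(X, T) => c • res F h x)
        (ConcreteCategory.congr_hom (Scheme.Hom.appLE_map f hU (homOfLE h).op) a) }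

/-- `Γ(W) ⊗ Γ(F, U) → Γ(g'^*F, g'⁻¹U ∩ f'⁻¹W)` -/
def μ {U : X.Opens} (hU : U ≤ f ⁻¹ᵁ V) :
    letI := mdl f F hU
    letI := (g.appLE V W hWV).hom.toAlgebra
    Γ(Y', W) ⊗[Γ(Y, V)] Γ(F, U) →+ Γ((Scheme.Modules.pullback g').obj F, g' ⁻¹ᵁ U ⊓ f' ⁻¹ᵁ W) :=
  letI := mdl f F hU
  letI := (g.appLE V W hWV).hom.toAlgebra
  TensorProduct.liftAddHom
    (AddMonoidHom.mk' (fun a => AddMonoidHom.mk'
        (fun x : Γ(F, U) => f'.appLE W (g' ⁻¹ᵁ U ⊓ f' ⁻¹ᵁ W) inf_le_right a •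
          res ((Scheme.Modules.pullback g').obj F) (inf_le_left : g' ⁻¹ᵁ U ⊓ f' ⁻¹ᵁ W ≤ g' ⁻¹ᵁ U) (Amp73.pullS g' F U x))
        fun x y => by
          rw [← smul_add, ← res_add]
          congr 2
          exact map_add (((Scheme.Modules.pullbackPushforwardAdjunction g').unit.app F).app U).hom x y)
      fun a b => by
        ext x
        show f'.appLE W (g' ⁻¹ᵁ U ⊓ f' ⁻¹ᵁ W) inf_le_right (a + b) •
            res ((Scheme.Modules.pullback g').obj F) (inf_le_left : g' ⁻¹ᵁ U ⊓ f' ⁻¹ᵁ W ≤ g' ⁻¹ᵁ U) (Amp73.pullS g' F U x) = _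
        rw [map_add, add_smul]
        rfl)
    fun r a x => by
      show f'.appLE W (g' ⁻¹ᵁ U ⊓ f' ⁻¹ᵁ W) inf_le_right (g.appLE V W hWV r * a) •
          res ((Scheme.Modules.pullback g').obj F) (inf_le_left : g' ⁻¹ᵁ U ⊓ f' ⁻¹ᵁ W ≤ g' ⁻¹ᵁ U) (Amp73.pullS g' F U x) =
        f'.appLE W (g' ⁻¹ᵁ U ⊓ f' ⁻¹ᵁ W) inf_le_right a •
          res ((Scheme.Modules.pullback g').obj F) (inf_le_left : g' ⁻¹ᵁ U ⊓ f' ⁻¹ᵁ W ≤ g' ⁻¹ᵁ U) (Amp73.pullS g' F U (f.appLE V U hU r • x))
      rw [Amp73.pullS_smul, res_smul, map_mul, mul_comm, mul_smul]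
      congr 2
      have h1 : g.appLE V W hWV ≫ f'.appLE W (g' ⁻¹ᵁ U ⊓ f' ⁻¹ᵁ W) inf_le_right =
          f.appLE V U hU ≫ g'.appLE U (g' ⁻¹ᵁ U ⊓ f' ⁻¹ᵁ W) inf_le_left := by
        rw [Scheme.Hom.appLE_comp_appLE, Scheme.Hom.appLE_comp_appLE]
        congr 1
        exact H.w.symm
      exact ConcreteCategory.congr_hom h1 r

theorem μ_tmul {U : X.Opens} (hU : U ≤ f ⁻¹ᵁ V) (a : Γ(Y', W)) (x : Γ(F, U)) :
    letI := mdl f F hU
    letI := (g.appLE V W hWV).hom.toAlgebra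
    μ f g f' g' H F hWV hU (a ⊗ₜ x) = f'.appLE W (g' ⁻¹ᵁ U ⊓ f' ⁻¹ᵁ W) inf_le_right a •
      res ((Scheme.Modules.pullback g').obj F) (inf_le_left : g' ⁻¹ᵁ U ⊓ f' ⁻¹ᵁ W ≤ g' ⁻¹ᵁ U) (Amp73.pullS g' F U x) := rfl

theorem μ_natural {U T : X.Opens} (hU : U ≤ f ⁻¹ᵁ V) (h : T ≤ U) :
    letI := mdl f F hU
    letI := mdl f F (h.trans hU)
    letI := (g.appLE V W hWV).hom.toAlgebra
    ∀ z, res ((Scheme.Modules.pullback g').obj F) (inf_le_inf_right _ (g'.preimage_mono h))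
        (μ f g f' g' H F hWV hU z) =
      μ f g f' g' H F hWV (h.trans hU) ((resLin f F hU h).lTensor Γ(Y', W) z) := by
  letI := mdl f F hU
  letI := mdl f F (h.trans hU)
  letI := (g.appLE V W hWV).hom.toAlgebra
  intro z
  induction z with
  | zero => rw [map_zero, map_zero, map_zero]; exact res_zero _
  | add a b ha hb => rw [map_add, map_add, map_add, ← ha, ← hb]; exact map_add _ _ _
  | tmul a x =>
    rw [μ_tmul, res_smul, res_res]
    show _ = f'.appLE W (g' ⁻¹ᵁ T ⊓ f' ⁻¹ᵁ W) inf_le_right a •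
      res _ inf_le_left (Amp73.pullS g' F T (res F h x))
    rw [← Amp73.res_pullS g' F h x]
    refine congrArg₂ (fun (c : Γ(X', g' ⁻¹ᵁ T ⊓ f' ⁻¹ᵁ W)) t => c • t) ?_ (res_res _ _ _).symm
    exact ConcreteCategory.congr_hom (Scheme.Hom.appLE_map f'
      (inf_le_right : g' ⁻¹ᵁ U ⊓ f' ⁻¹ᵁ W ≤ f' ⁻¹ᵁ W) (homOfLE (inf_le_inf_right _ (g'.preimage_mono h))).op) a

variable [F.IsQuasicoherent] (hV : IsAffineOpen V) (hW : IsAffineOpen W)

include hV hW in
theorem μ_bijective_affine {U : X.Opens} (hU : U ≤ f ⁻¹ᵁ V) (hUa : IsAffineOpen U) :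
    Function.Bijective (μ f g f' g' H F hWV hU) := by
  let O := g' ⁻¹ᵁ U ⊓ f' ⁻¹ᵁ W
  have hO : IsAffineOpen O := by
    have : IsAffine _ := hV
    have : IsAffine _ := hW
    have : IsAffine _ := hUa
    exact .of_isIso (Scheme.Hom.isPullback_resLE H hWV hU (UY := O) rfl).isoPullback.hom
  have hpo := (isIso_pushoutSection_iff H (US := V) (UT := W) (UX := U) (UY := O) hWV hU rfl).1
    (isIso_pushoutSection_of_isAffineOpen H hWV hU rfl hV hW hUa)
  letI := mdl f F hU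
  letI := (g.appLE V W hWV).hom.toAlgebra
  letI := (g'.appLE U O inf_le_left).hom.toAlgebra
  letI := (f.appLE V U hU).hom.toAlgebra
  letI := (f'.appLE W O inf_le_right).hom.toAlgebra
  letI : Algebra Γ(Y, V) Γ(X', O) := ((g'.appLE U O inf_le_left).hom.comp (f.appLE V U hU).hom).toAlgebra
  haveI : IsScalarTower Γ(Y, V) Γ(X, U) Γ(X', O) := IsScalarTower.of_algebraMap_eq' rfl
  haveI : IsScalarTower Γ(Y, V) Γ(Y', W) Γ(X', O) := IsScalarTower.of_algebraMap_eq' (by
    show (g'.appLE U O inf_le_left).hom.comp (f.appLE V U hU).hom =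
      (f'.appLE W O inf_le_right).hom.comp (g.appLE V W hWV).hom
    have h1 : f.appLE V U hU ≫ g'.appLE U O inf_le_left = g.appLE V W hWV ≫ f'.appLE W O inf_le_right := by
      rw [Scheme.Hom.appLE_comp_appLE, Scheme.Hom.appLE_comp_appLE]
      congr 1
      exact H.w
    exact congrArg CommRingCat.Hom.hom h1)
  haveI : IsScalarTower Γ(Y, V) Γ(X, U) Γ(F, U) := IsScalarTower.of_algebraMap_smul fun _ _ => rfl
  have hp : Algebra.IsPushout Γ(Y, V) Γ(Y', W) Γ(X, U) Γ(X', O) :=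
    CommRingCat.isPushout_iff_isPushout.mp hpo.flip
  obtain ⟨E, hE⟩ := LimTop61.exists_baseChange_equiv g' F hUa hO inf_le_left
  let c := Algebra.IsPushout.cancelBaseChange Γ(Y, V) Γ(Y', W) Γ(X, U) Γ(X', O) Γ(F, U)
  have hμ : ∀ z, μ f g f' g' H F hWV hU z = E.symm (c.symm z) := by
    intro z
    induction z with
    | zero =>
      rw [map_zero, map_zero]
      exact (map_zero E.symm).symm
    | add a b ha hb =>
      rw [map_add, map_add, ha, hb]
      exact (map_add E.symm _ _).symm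
    | tmul a x =>
      rw [μ_tmul]
      refine (E.injective ?_)
      rw [LinearEquiv.apply_symm_apply, map_smul]
      have hx : E (res _ inf_le_left (Amp73.pullS g' F U x)) = 1 ⊗ₜ x := hE x
      rw [hx, TensorProduct.smul_tmul', smul_eq_mul, mul_one]
      exact (Algebra.IsPushout.cancelBaseChange_symm_tmul _ _ _ _ _ a x).symm
  have : (μ f g f' g' H F hWV hU : _ → _) = fun z => E.symm (c.symm z) := funext hμ
  rw [this]
  exact E.symm.bijective.comp c.symm.bijective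

omit [F.IsQuasicoherent] in
theorem gluing_iff {O : X.Opens} {n : ℕ} (U : Fin n → X.Opens) (hU : ∀ i, U i ≤ O)
    (hcov : ∀ x ∈ O, ∃ k, x ∈ U k) {m : Fin n × Fin n → ℕ} (P : ∀ p, Fin (m p) → X.Opens)
    (hP : ∀ p k, P p k ≤ U p.1 ⊓ U p.2) (hPcov : ∀ p, ∀ x ∈ U p.1 ⊓ U p.2, ∃ k, x ∈ P p k) (t : ∀ i, Γ(F, U i)) :
    (∀ k : Σ p : Fin n × Fin n, Fin (m p), res F ((hP k.1 k.2).trans inf_le_left) (t k.1.1) =
        res F ((hP k.1 k.2).trans inf_le_right) (t k.1.2)) ↔
      ∃ x : Γ(F, O), ∀ i, res F (hU i) x = t i := by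
  refine ⟨fun ht => ?_, ?_⟩
  · obtain ⟨x, hx, -⟩ := TopCat.Sheaf.existsUnique_gluing'
      (C := AddCommGrpCat.{u}) (⟨F.presheaf, F.isSheaf⟩ : TopCat.Sheaf AddCommGrpCat.{u} X)
      U O (fun i => homOfLE (hU i)) (fun x hx => Opens.mem_iSup.mpr (hcov x hx)) t (fun i j =>
        show res F (inf_le_left : U i ⊓ U j ≤ U i) (t i) = res F (inf_le_right : U i ⊓ U j ≤ U j) (t j) from
        eq_of_cover F (P (i, j)) (hP (i, j)) (hPcov (i, j)) fun k => by
          rw [res_res, res_res]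
          exact ht ⟨(i, j), k⟩)
    exact ⟨x, hx⟩
  · rintro ⟨x, hx⟩ k
    rw [← hx, ← hx, res_res, res_res]

include hV hW in
/-- Sections over a quasi-compact quasi-separated open commute with flat base change. -/
theorem μ_bijective [Flat g] {U : X.Opens} (hU : U ≤ f ⁻¹ᵁ V) (hc : IsCompact (U : Set X))
    (hq : IsQuasiSeparated (U : Set X)) : Function.Bijective (μ f g f' g' H F hWV hU) := by
  classical
  obtain ⟨n, T, hT, hcov⟩ := exists_finite_affine_cover hc
  have hij : ∀ p : Fin n × Fin n, IsCompact ((T p.1 ⊓ T p.2 : X.Opens) : Set X) := fun p =>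
    hq (T p.1) (T p.2) (hT p.1).2 (T p.1).2 (hT p.1).1.isCompact (hT p.2).2 (T p.2).2 (hT p.2).1.isCompact
  choose m P hP hPcov using fun p => exists_finite_affine_cover (hij p)
  letI := mdl f F hU
  letI : ∀ i, Module Γ(Y, V) Γ(F, T i) := fun i => mdl f F ((hT i).2.trans hU)
  letI : ∀ k : Σ p : Fin n × Fin n, Fin (m p), Module Γ(Y, V) Γ(F, P k.1 k.2) :=
    fun k => mdl f F (((hP k.1 k.2).2.trans inf_le_left).trans ((hT _).2.trans hU))
  letI := (g.appLE V W hWV).hom.toAlgebra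
  haveI : Module.Flat Γ(Y, V) Γ(Y', W) :=
    HasRingHomProperty.appLE @Flat g inferInstance ⟨V, hV⟩ ⟨W, hW⟩ hWV
  have hbT := fun i => μ_bijective_affine f g f' g' H F hWV hV hW ((hT i).2.trans hU) (hT i).1
  refine ⟨(injective_iff_map_eq_zero _).2 fun z hz => ?_, fun s => ?_⟩
  · let ι : Γ(F, U) →ₗ[Γ(Y, V)] ∀ i, Γ(F, T i) := LinearMap.pi fun i => resLin f F hU (hT i).2
    have hι : Function.Injective ι := fun s t h =>
      eq_of_cover F T (fun i => (hT i).2) (fun x hx => hcov x hx) fun i => congrFun h i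
    refine Module.Flat.lTensor_preserves_injective_linearMap (M := Γ(Y', W)) ι hι ?_
    rw [map_zero]
    refine (TensorProduct.piRight Γ(Y, V) Γ(Y, V) Γ(Y', W) fun i => Γ(F, T i)).injective (funext fun i => ?_)
    rw [map_zero, Pi.zero_apply]
    have hproj : ∀ w, TensorProduct.piRight Γ(Y, V) Γ(Y, V) Γ(Y', W) (fun i => Γ(F, T i)) (ι.lTensor Γ(Y', W) w) i =
        (resLin f F hU (hT i).2).lTensor Γ(Y', W) w := by
      intro w
      induction w with
      | zero => simp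
      | add a b ha hb => rw [map_add, map_add, Pi.add_apply, ha, hb, map_add]
      | tmul a x => simp [ι]
    rw [hproj]
    refine (hbT i).1 ?_
    rw [← μ_natural f g f' g' H F hWV hU (hT i).2, hz, map_zero]
    exact res_zero _
  · choose z hz using fun i => (hbT i).2
      (res ((Scheme.Modules.pullback g').obj F) (inf_le_inf_right _ (g'.preimage_mono (hT i).2)) s)
    obtain ⟨z₀, hz₀⟩ := exists_coord_lift (K := Σ p : Fin n × Fin n, Fin (m p)) (B := Γ(Y', W))
      (N := fun i => Γ(F, T i)) (P := fun k => Γ(F, P k.1 k.2))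
      (fun i => resLin f F hU (hT i).2) (fun k => k.1.1) (fun k => k.1.2)
      (fun k => resLin f F ((hT k.1.1).2.trans hU) ((hP k.1 k.2).2.trans inf_le_left))
      (fun k => resLin f F ((hT k.1.2).2.trans hU) ((hP k.1 k.2).2.trans inf_le_right))
      (gluing_iff F T (fun i => (hT i).2) hcov P (fun p k => (hP p k).2) hPcov) z (fun k => by
        refine (μ_bijective_affine f g f' g' H F hWV hV hW
          (((hP k.1 k.2).2.trans inf_le_left).trans ((hT k.1.1).2.trans hU)) (hP k.1 k.2).1).1 ?_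
        rw [← μ_natural f g f' g' H F hWV ((hT k.1.1).2.trans hU) ((hP k.1 k.2).2.trans inf_le_left),
          ← μ_natural f g f' g' H F hWV ((hT k.1.2).2.trans hU) ((hP k.1 k.2).2.trans inf_le_right),
          hz, hz, res_res, res_res])
    refine ⟨z₀, eq_of_cover _ (fun i => g' ⁻¹ᵁ T i ⊓ f' ⁻¹ᵁ W) (fun i => inf_le_inf_right _ (g'.preimage_mono (hT i).2))
      (fun x hx => (hcov (g' x) hx.1).imp fun i hi => ⟨hi, hx.2⟩) fun i => ?_⟩
    rw [μ_natural f g f' g' H F hWV hU (hT i).2, hz₀, hz]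

end Groth.Agent.ParaF26.FlatSec
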