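import Groth.Agent.ParaF26.RadicialPara
import Groth.Agent.ParaF26.CData
import Groth.Agent.FBase64.PurelyInsepReduce
import Groth.Agent.CAlg1.Serre
import Groth.Agent.EGA4H10.NormOpen
import Groth.Agent.S2821
import Groth.Agent.S2834

/-!
Parafactoriality at the points of a centre in the special fibre of a local smooth algebra.
-/

set_option autoImplicit false
set_option linter.style.haveILetI false
set_option backward.isDefEq.respectTransparency.types false

universe u

open IsLocalRing

noncomputable section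

namespace Groth.Agent.ParaF26

/-- The special fibre of a formally smooth local algebra is regular. -/
theorem isRegularLocalRing_fibre_of_fs {A B : Type u} [CommRing A] [IsLocalRing A] [CommRing B] [IsLocalRing B]
    [IsNoetherianRing B] [Algebra A B] [IsLocalHom (algebraMap A B)]
    (hfs : EGA41.IsFormallySmoothAdic A (maximalIdeal A) B (maximalIdeal B)) :
    IsRegularLocalRing (B ⧸ (maximalIdeal A).map (algebraMap A B)) := by
  let J := (maximalIdeal A).map (algebraMap A B)
  let F := B ⧸ J
  haveI : Nontrivial F := Ideal.Quotient.nontrivial_iff.2 (ne_top_of_le_ne_top (maximalIdeal.isMaximal B).ne_top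
    (Ideal.map_le_iff_le_comap.2 fun a ha => map_nonunit _ a ha))
  haveI : IsLocalRing F := .of_surjective' (Ideal.Quotient.mk J) Ideal.Quotient.mk_surjective
  have hmF : (maximalIdeal B).map (Ideal.Quotient.mk J) = maximalIdeal F :=
    IsLocalRing.map_maximalIdeal_of_surjective (R := B) (S := F) (Ideal.Quotient.mk J) Ideal.Quotient.mk_surjective
  have hFS := Cohen12.formallySmooth_fibre (A := A) (A₀ := A) (B := B) (B₀ := B) (fun x => ⟨x, rfl⟩)
    (RingHom.id B) Function.surjective_id
    (by rw [(RingHom.injective_iff_ker_eq_bot (RingHom.id B)).mp Function.injective_id]; exact bot_le)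
    (fun a => rfl) hfs
  letI : Field (A ⧸ maximalIdeal A) := Ideal.Quotient.field _
  exact (Cohen12.regular_of_formallySmooth_field (k := A ⧸ maximalIdeal A) (A := F) (hmF ▸ hFS)).1

/-- Formally smooth algebras are adically formally smooth. -/
theorem fsAdic_of_formallySmooth {A B : Type u} [CommRing A] [IsLocalRing A] [CommRing B] [IsLocalRing B]
    [Algebra A B] [Algebra.FormallySmooth A B] :
    EGA41.IsFormallySmoothAdic A (maximalIdeal A) B (maximalIdeal B) :=
  fun C _ _ J hJ _ u _ => ⟨Algebra.FormallySmooth.lift J hJ u, Algebra.FormallySmooth.comp_lift J hJ u⟩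

/-- A regular local ring of dimension at least two is parafactorial. -/
theorem parafactorial_of_regular {E : Type u} [CommRing E] [IsRegularLocalRing E]
    (hd : (2 : WithBot ℕ∞) ≤ ringKrullDim E) : ParaF.IsParafactorialLocalRing E := by
  obtain ⟨_, hufd⟩ := S2821.result E
  exact S2834.result E hufd hd

/-- A finitely generated residue extension has finite radicial multiplicity, so localisations of smooth algebras
are parafactorial off the special fibre in depth three. -/
theorem parafactorial_atPrime_of_essFiniteType {A B : Type u} [CommRing A] [IsLocalRing A] [IsNoetherianRing A]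
    [CommRing B] [IsLocalRing B] [IsNoetherianRing B] [Algebra A B] [IsLocalHom (algebraMap A B)]
    [Algebra.EssFiniteType A B]
    (hfs : EGA41.IsFormallySmoothAdic A (maximalIdeal A) B (maximalIdeal B))
    (z : Ideal B) [z.IsPrime] (hz : ¬ z ≤ (maximalIdeal A).map (algebraMap A B))
    (hd : (3 : ℕ∞) ≤ LocCoh.depth (Localization.AtPrime z) (Localization.AtPrime z)) :
    ParaF.IsParafactorialLocalRing (Localization.AtPrime z) := by
  haveI : Algebra.EssFiniteType A (ResidueField B) := inferInstanceAs (Algebra.EssFiniteType A (B ⧸ maximalIdeal B))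
  haveI : Algebra.EssFiniteType (ResidueField A) (ResidueField B) :=
    Algebra.EssFiniteType.of_comp A (ResidueField A) (ResidueField B)
  obtain ⟨k', _, _, hfin, hpi, hgr⟩ := FBase64.PIReduce.exists_reduce (k := ResidueField A) (ResidueField B)
  haveI := hfin
  haveI := hpi
  exact parafactorial_atPrime_of_radicial hfs k' hgr z hz hd

/-- The points of a centre in the special fibre of a local smooth algebra. -/
theorem parafactorial_atPrime_centre {A B : Type u} [CommRing A] [IsLocalRing A] [IsNoetherianRing A]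
    [CommRing B] [IsLocalRing B] [IsNoetherianRing B] [Algebra A B] [IsLocalHom (algebraMap A B)]
    [Module.Flat A B] [Algebra.EssFiniteType A B] [Algebra.FormallySmooth A B] {r : ℕ} (f : Fin r → B)
    (z : Ideal B) [z.IsPrime] (hfz : ∀ j, f j ∈ z)
    (hmz : (maximalIdeal A).map (algebraMap A B) ≤ z)
    (hne : ∃ j, f j ∉ (maximalIdeal A).map (algebraMap A B))
    (hdA : (2 : ℕ∞) ≤ LocCoh.depth A A ∨ (1 : ℕ∞) ≤ LocCoh.depth A A ∧ ∀ p ∈ maximalIdeal B,
      ∃ j, f j ∉ (maximalIdeal A).map (algebraMap A B) ⊔ Ideal.span {p}) :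
    ParaF.IsParafactorialLocalRing (Localization.AtPrime z) := by
  classical
  have hfs : EGA41.IsFormallySmoothAdic A (maximalIdeal A) B (maximalIdeal B) := fsAdic_of_formallySmooth
  let M := (maximalIdeal A).map (algebraMap A B)
  have hregB : IsRegularLocalRing (B ⧸ M) := isRegularLocalRing_fibre_of_fs hfs
  obtain ⟨hdom, hufd⟩ := S2821.result (B ⧸ M)
  haveI hMp : M.IsPrime := (Ideal.Quotient.isDomain_iff_prime M).1 hdom
  have hnotle : ¬ z ≤ M := fun hle => by
    obtain ⟨j, hj⟩ := hne
    exact hj (hle (hfz j))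
  refine parafactorial_atPrime_of_essFiniteType hfs z hnotle ?_
  let L := Localization.AtPrime z
  haveI : IsNoetherianRing L := IsLocalization.isNoetherianRing z.primeCompl _ inferInstance
  haveI : Algebra.FormallySmooth B L := Algebra.FormallySmooth.of_isLocalization z.primeCompl
  haveI : Algebra.FormallySmooth A L := Algebra.FormallySmooth.comp A B L
  haveI : Module.Flat A L := Module.Flat.trans A B L
  let J := (maximalIdeal A).map (algebraMap A L)
  have hJ : J = M.map (algebraMap B L) := by
    show _ = Ideal.map _ _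
    rw [Ideal.map_map, ← IsScalarTower.algebraMap_eq]
  have hJm : J ≤ maximalIdeal L := by
    rw [hJ, ← Localization.AtPrime.map_eq_maximalIdeal]
    exact Ideal.map_mono hmz
  haveI : IsLocalHom (algebraMap A L) := ((local_hom_TFAE (algebraMap A L)).out 2 0).mp hJm
  haveI hregQ : IsRegularLocalRing (L ⧸ J) := isRegularLocalRing_fibre_of_fs fsAdic_of_formallySmooth
  obtain ⟨hdomQ, -⟩ := S2821.result (L ⧸ J)
  let φ : B →+* L ⧸ J := (Ideal.Quotient.mk J).comp (algebraMap B L)
  -- primes between `M` and `z`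
  have hlift : ∀ P : Ideal B, P.IsPrime → M ≤ P → P ≤ z →
      (P.map φ).IsPrime ∧ (P.map φ).comap φ = P := by
    intro P hP hMP hPz
    haveI := hP
    have hdisj : Disjoint (z.primeCompl : Set B) (P : Set B) :=
      Set.disjoint_left.2 fun w hw hw' => hw (hPz hw')
    haveI : (P.map (algebraMap B L)).IsPrime :=
      IsLocalization.isPrime_of_isPrime_disjoint z.primeCompl L P hP hdisj
    have hle : J ≤ P.map (algebraMap B L) := hJ ▸ Ideal.map_mono hMP
    have hker : RingHom.ker (Ideal.Quotient.mk J) ≤ P.map (algebraMap B L) := by rwa [Ideal.mk_ker]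
    refine ⟨?_, ?_⟩
    · rw [← Ideal.map_map]
      exact Ideal.map_isPrime_of_surjective Ideal.Quotient.mk_surjective hker
    · rw [← Ideal.map_map, ← Ideal.comap_comap, Ideal.comap_map_of_surjective _ Ideal.Quotient.mk_surjective,
        ← RingHom.ker_eq_comap_bot, sup_eq_left.2 hker, ← Ideal.under_def,
        IsLocalization.under_map_of_isPrime_disjoint z.primeCompl L hP hdisj]
  have hstep : ∀ P P' : Ideal B, P.IsPrime → P'.IsPrime → M ≤ P → P < P' → P' ≤ z →
      (P.map φ).height + 1 ≤ (P'.map φ).height := by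
    intro P P' hP hP' hMP hlt hP'z
    obtain ⟨h1, h2⟩ := hlift P hP hMP (hlt.le.trans hP'z)
    obtain ⟨h3, h4⟩ := hlift P' hP' (hMP.trans hlt.le) hP'z
    haveI := h1
    haveI := h3
    refine Ideal.height_add_one_le_of_lt_of_isPrime (lt_of_le_of_ne (Ideal.map_mono hlt.le) fun e => hlt.ne ?_)
    rw [← h2, e, h4]
  have hle_dim : ∀ P : Ideal B, P.IsPrime → M ≤ P → P ≤ z →
      ((P.map φ).height : WithBot ℕ∞) ≤ ringKrullDim (L ⧸ J) := fun P hP hMP hPz =>
    Ideal.height_le_ringKrullDim_of_ne_top (hlift P hP hMP hPz).1.ne_top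
  have hdepth : ∀ n : ℕ∞, ((n : ℕ∞) : WithBot ℕ∞) ≤ ringKrullDim (L ⧸ J) →
      LocCoh.depth A A + n ≤ LocCoh.depth L L := fun n hn => by
    rw [CAlg1.depth_of_flat_local A L, CAlg1.depth_quotient_self L J]
    gcongr
    exact WithBot.coe_le_coe.1 (hn.trans (EGA4H10.ringKrullDim_le_depth_of_regular (L ⧸ J)))
  have hMz : M < z := lt_of_le_not_ge hmz hnotle
  rcases hdA with h2 | ⟨h1, hp⟩
  · refine le_trans ?_ (hdepth 1 ((WithBot.coe_le_coe.2 ?_).trans (hle_dim z inferInstance hmz le_rfl)))
    · exact le_trans (show (3 : ℕ∞) ≤ 2 + 1 from le_rfl) (by gcongr)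
    · exact le_trans le_add_self (hstep M z hMp inferInstance le_rfl hMz le_rfl)
  -- a principal prime strictly between
  haveI := hdom
  haveI := hufd
  haveI hz' : (z.map (Ideal.Quotient.mk M)).IsPrime :=
    Ideal.map_isPrime_of_surjective Ideal.Quotient.mk_surjective (by rwa [Ideal.mk_ker])
  have hz0 : z.map (Ideal.Quotient.mk M) ≠ ⊥ := fun h0 => by
    rw [Ideal.map_eq_bot_iff_le_ker, Ideal.mk_ker] at h0
    exact hnotle h0
  obtain ⟨π, hπz, hπ⟩ := Ideal.IsPrime.exists_mem_prime_of_ne_bot hz' hz0
  obtain ⟨p, hpz, rfl⟩ := (Ideal.mem_map_iff_of_surjective _ Ideal.Quotient.mk_surjective).1 hπz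
  let P := (Ideal.span {Ideal.Quotient.mk M p}).comap (Ideal.Quotient.mk M)
  haveI : (Ideal.span {Ideal.Quotient.mk M p}).IsPrime := (Ideal.span_singleton_prime hπ.ne_zero).2 hπ
  have hPp : P.IsPrime := Ideal.IsPrime.comap _
  have hPeq : P = M ⊔ Ideal.span {p} := by
    show Ideal.comap _ _ = _
    rw [← Set.image_singleton, ← Ideal.map_span, Ideal.comap_map_of_surjective _ Ideal.Quotient.mk_surjective,
      ← RingHom.ker_eq_comap_bot, Ideal.mk_ker, sup_comm]
  have hPz : P ≤ z := hPeq ▸ sup_le hmz ((Ideal.span_singleton_le_iff_mem _).2 hpz)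
  have hMP : M < P := lt_of_le_of_ne (hPeq ▸ le_sup_left) fun e => hπ.ne_zero (Ideal.Quotient.eq_zero_iff_mem.2 (by
    rw [e, hPeq]
    exact Submodule.mem_sup_right (Ideal.mem_span_singleton_self p)))
  have hPz' : P < z := lt_of_le_of_ne hPz fun e => by
    obtain ⟨j, hj⟩ := hp p (le_maximalIdeal ‹z.IsPrime›.ne_top hpz)
    exact hj (hPeq ▸ e ▸ hfz j)
  refine le_trans ?_ (hdepth 2 ((WithBot.coe_le_coe.2 ?_).trans (hle_dim z inferInstance hmz le_rfl)))
  · exact le_trans (show (3 : ℕ∞) ≤ 1 + 2 from le_rfl) (by gcongr)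
  · calc (2 : ℕ∞) = 0 + 1 + 1 := rfl
      _ ≤ (M.map φ).height + 1 + 1 := by gcongr; exact zero_le
      _ ≤ (P.map φ).height + 1 := by gcongr; exact hstep M P hMp hPp le_rfl hMP hPz
      _ ≤ (z.map φ).height := hstep P z hPp inferInstance hMP.le hPz' le_rfl

end Groth.Agent.ParaF26
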