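import Groth.Agent.ParaF26.CDataLift
import Groth.Agent.ParaF26.RegularHomCentre
import Groth.Agent.CAlg1.Pop.Main
import Groth.Agent.CAlg1.FSFlat
import Groth.Agent.S0595

/-!
The target of a regular local homomorphism is parafactorial in depth three when the special fibre has
positive dimension.
-/

set_option autoImplicit false
set_option linter.style.haveILetI false
set_option backward.isDefEq.respectTransparency.types false

universe u

open IsLocalRing

noncomputable section

namespace Groth.Agent.ParaF26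

/-- A quotient by an ideal containing a covering family of the punctured spectrum has dimension zero. -/
theorem ringKrullDim_quotient_eq_zero_of_cover {E : Type u} [CommRing E] [IsLocalRing E] {r : ℕ} (f : Fin r → E)
    (hcov : ∀ q : PrimeSpectrum E, q.asIdeal ≠ maximalIdeal E → ∃ j, f j ∉ q.asIdeal)
    (J : Ideal E) (hJ : J ≤ maximalIdeal E) (hf : ∀ j, f j ∈ J) : ringKrullDim (E ⧸ J) = 0 := by
  haveI : Nontrivial (E ⧸ J) :=
    Ideal.Quotient.nontrivial_iff.2 (ne_top_of_le_ne_top (maximalIdeal.isMaximal E).ne_top hJ)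
  haveI : Ring.KrullDimLE 0 (E ⧸ J) := by
    rw [Ring.krullDimLE_zero_iff]
    intro P hP
    have h1 : P.comap (Ideal.Quotient.mk J) = maximalIdeal E := by
      by_contra hne
      obtain ⟨j, hj⟩ := hcov ⟨_, Ideal.IsPrime.comap (Ideal.Quotient.mk J) (K := P)⟩ hne
      exact hj (show Ideal.Quotient.mk J (f j) ∈ P by
        rw [Ideal.Quotient.eq_zero_iff_mem.2 (hf j)]; exact zero_mem _)
    rw [← Ideal.map_comap_of_surjective _ Ideal.Quotient.mk_surjective P, h1]
    exact Ideal.IsMaximal.map_of_surjective_of_ker_le Ideal.Quotient.mk_surjective (by rwa [Ideal.mk_ker])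
  exact ringKrullDimZero_iff_ringKrullDim_eq_zero.1 inferInstance

/-- The covering family of a quotient. -/
theorem cover_quotient {E : Type u} [CommRing E] [IsLocalRing E] {r : ℕ} (f : Fin r → E)
    (hcov : ∀ q : PrimeSpectrum E, q.asIdeal ≠ maximalIdeal E → ∃ j, f j ∉ q.asIdeal) (J : Ideal E)
    [IsLocalRing (E ⧸ J)] :
    ∀ q : PrimeSpectrum (E ⧸ J), q.asIdeal ≠ maximalIdeal (E ⧸ J) →
      ∃ j, (Ideal.Quotient.mk J ∘ f) j ∉ q.asIdeal := fun q hq => by
  obtain ⟨j, hj⟩ := hcov (PrimeSpectrum.comap (Ideal.Quotient.mk J) q) fun e => hq (by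
    have := congrArg (Ideal.map (Ideal.Quotient.mk J)) e
    rw [PrimeSpectrum.comap_asIdeal, Ideal.map_comap_of_surjective _ Ideal.Quotient.mk_surjective,
      IsLocalRing.map_maximalIdeal_of_surjective (R := E) (S := E ⧸ J) (Ideal.Quotient.mk J)
        Ideal.Quotient.mk_surjective] at this
    exact this)
  exact ⟨j, hj⟩

/-- The special fibre of a regular local homomorphism is regular. -/
theorem isRegularLocalRing_fibre_of_regularHom {A E : Type u} [CommRing A] [IsLocalRing A] [IsNoetherianRing A]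
    [CommRing E] [IsLocalRing E] [IsNoetherianRing E] [Algebra A E] [IsLocalHom (algebraMap A E)]
    (h : CAlg.IsRegularHom A E) : IsRegularLocalRing (E ⧸ (maximalIdeal A).map (algebraMap A E)) :=
  isRegularLocalRing_fibre_of_fs (CAlg1.egaFS_of_adicFS _ _
    (CAlg1.flat_geometricallyRegular_iff_adicFS.1 ⟨h.1, (h.2 (maximalIdeal A)).2⟩))

/-- Trivialisations through a smooth factorisation, in positive depth. -/
theorem triv_of_popescu {A E : Type u} [CommRing A] [IsLocalRing A] [IsNoetherianRing A]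
    [CommRing E] [IsLocalRing E] [IsNoetherianRing E] [Algebra A E] [IsLocalHom (algebraMap A E)]
    (h : CAlg.IsRegularHom A E)
    (hF1 : ringKrullDim (E ⧸ (maximalIdeal A).map (algebraMap A E)) ≠ 0)
    (hdA : (2 : ℕ∞) ≤ LocCoh.depth A A ∨ (1 : ℕ∞) ≤ LocCoh.depth A A ∧
      (2 : WithBot ℕ∞) ≤ ringKrullDim (E ⧸ (maximalIdeal A).map (algebraMap A E)))
    {r : ℕ} (f : Fin r → E) (a : Fin r → Fin r → E) (k : ℕ) (hf : ∀ j, f j ∈ maximalIdeal E)
    (hcov : ∀ q : PrimeSpectrum E, q.asIdeal ≠ maximalIdeal E → ∃ j, f j ∉ q.asIdeal)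
    (hcoh : Coh f a k) : Triv f a k := by
  classical
  let mE := (maximalIdeal A).map (algebraMap A E)
  have hmE : mE ≤ maximalIdeal E := Ideal.map_le_iff_le_comap.2 fun c hc => map_nonunit _ c hc
  obtain ⟨s, x, hx⟩ := Submodule.fg_iff_exists_fin_generating_family.1 (IsNoetherian.noetherian (maximalIdeal A))
  have hxm : ∀ i, x i ∈ maximalIdeal A := fun i => hx ▸ Submodule.subset_span ⟨i, rfl⟩
  obtain ⟨N, hN⟩ := exists_pow_le (Ideal.span (Set.range f)) fun q hq hle => by
    obtain ⟨j, hj⟩ := hcov q hq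
    exact hj (hle (Ideal.subset_span ⟨j, rfl⟩))
  choose b hb using fun i => Ideal.mem_span_range_iff_exists_fun.1
    (hN (Ideal.pow_mem_pow (map_nonunit (algebraMap A E) _ (hxm i)) N))
  obtain ⟨K, hK⟩ := hcoh.cocycle
  -- the finitely presented model
  let V := Fin r ⊕ (Fin r × Fin r) ⊕ (Fin s × Fin r)
  let Xf : Fin r → MvPolynomial V A := fun j => MvPolynomial.X (Sum.inl j)
  let Xa : Fin r → Fin r → MvPolynomial V A := fun i j => MvPolynomial.X (Sum.inr (Sum.inl (i, j)))
  let Xb : Fin s → Fin r → MvPolynomial V A := fun i j => MvPolynomial.X (Sum.inr (Sum.inr (i, j)))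
  let rel : (Fin r × Fin r × Fin r) ⊕ Fin r ⊕ Fin s → MvPolynomial V A := Sum.elim
    (fun p => Xf p.2.1 ^ K * (Xf p.2.2 ^ k * Xa p.1 p.2.1 - Xa p.1 p.2.2 * Xa p.2.2 p.2.1))
    (Sum.elim (fun j => Xa j j - Xf j ^ k) (fun i => MvPolynomial.C (x i) ^ N - ∑ j, Xb i j * Xf j))
  let ev : MvPolynomial V A →ₐ[A] E :=
    MvPolynomial.aeval (Sum.elim f (Sum.elim (fun p => a p.1 p.2) (fun p => b p.1 p.2)))
  let I := Ideal.span (Set.range rel)
  have hI : ∀ z ∈ I, ev z = 0 := fun z hz => by
    refine (Ideal.span_le (I := RingHom.ker ev)).2 ?_ hz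
    rintro _ ⟨p | j | i, rfl⟩
    · simpa [rel, ev, Xf, Xa] using hK p.1 p.2.1 p.2.2
    · simp [rel, ev, Xf, Xa, hcoh.diag j]
    · simp [rel, ev, Xf, Xb, hb i]
  let P := MvPolynomial V A ⧸ I
  haveI : Algebra.FinitePresentation A P := Algebra.FinitePresentation.quotient (Submodule.fg_span (Set.finite_range _))
  obtain ⟨D, _, _, hsm, g, hD, hgD⟩ := S0595.result A E h P (Ideal.Quotient.liftₐ I ev hI)
  haveI := hsm
  -- localise at the centre of `E`
  let q := (maximalIdeal E).comap hD.toRingHom
  let B := Localization.AtPrime q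
  have hunit : ∀ y : q.primeCompl, IsUnit (hD y) := fun y => by
    by_contra hno
    exact y.2 ((mem_maximalIdeal _).2 hno)
  let ψ : B →ₐ[A] E := IsLocalization.liftAlgHom (M := q.primeCompl) (f := hD) hunit
  have hψ : ∀ d, ψ (algebraMap D B d) = hD d := fun d => by
    rw [IsLocalization.liftAlgHom_apply]
    exact IsLocalization.lift_eq _ d
  haveI : Algebra.FiniteType A D := inferInstance
  haveI : IsNoetherianRing D := Algebra.FiniteType.isNoetherianRing A D
  haveI : IsNoetherianRing B := IsLocalization.isNoetherianRing q.primeCompl _ inferInstance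
  haveI : Algebra.FormallySmooth D B := Algebra.FormallySmooth.of_isLocalization q.primeCompl
  haveI : Algebra.FormallySmooth A B := Algebra.FormallySmooth.comp A D B
  haveI : Algebra.EssFiniteType D B := Algebra.EssFiniteType.of_isLocalization B q.primeCompl
  haveI : Algebra.EssFiniteType A B := Algebra.EssFiniteType.comp A D B
  haveI : IsLocalHom (algebraMap A B) := ⟨fun c hc => by
    have h1 := hc.map ψ
    rw [AlgHom.commutes] at h1
    exact isUnit_of_map_unit (algebraMap A E) c h1⟩
  haveI : Module.Flat A B := CAlg1.flat_of_adicFS (CAlg1.adicFS_of_egaFS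
    (Ideal.map_le_iff_le_comap.2 fun c hc => map_nonunit _ c hc) fsAdic_of_formallySmooth)
  let τ : MvPolynomial V A →ₐ[A] B := (IsScalarTower.toAlgHom A D B).comp (g.comp (Ideal.Quotient.mkₐ A I))
  have hψτ : ∀ p, ψ (τ p) = ev p := fun p => (hψ _).trans (AlgHom.congr_fun hgD (Ideal.Quotient.mk I p))
  have hτ : ∀ i, τ (rel i) = 0 := fun i => by
    show algebraMap D B (g (Ideal.Quotient.mk I (rel i))) = 0
    rw [Ideal.Quotient.eq_zero_iff_mem.2 (Ideal.subset_span (Set.mem_range_self i) : rel i ∈ I), map_zero, map_zero]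
  let f' : Fin r → B := fun j => τ (Xf j)
  let a' : Fin r → Fin r → B := fun i j => τ (Xa i j)
  have hf' : ∀ j, ψ (f' j) = f j := fun j => by rw [hψτ]; simp [ev, Xf]
  have ha' : ∀ i j, ψ (a' i j) = a i j := fun i j => by rw [hψτ]; simp [ev, Xa]
  have hcoh' : Coh f' a' k := ⟨fun j => by
      have := hτ (Sum.inr (Sum.inl j))
      simpa [rel, f', a', sub_eq_zero] using this, K, fun i j l => by
      have := hτ (Sum.inl (i, j, l))
      simpa [rel, f', a'] using this⟩
  have hψm : (maximalIdeal A).map (algebraMap A B) ≤ mE.comap ψ := Ideal.map_le_iff_le_comap.2 fun c hc => by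
    show ψ (algebraMap A B c) ∈ mE
    rw [AlgHom.commutes]
    exact Ideal.mem_map_of_mem _ hc
  suffices Triv f' a' k by
    have h1 := this.map ψ.toRingHom
    have h2 : ψ.toRingHom ∘ f' = f := funext hf'
    have h3 : (fun i j => ψ.toRingHom (a' i j)) = a := funext fun i => funext fun j => ha' i j
    rwa [h2, h3] at h1
  refine triv_of_parafactorial f' a' k hcoh' fun z hz => parafactorial_atPrime_centre (A := A) f' z.asIdeal hz ?_ ?_ ?_
  · rw [← hx, Ideal.submodule_span_eq, Ideal.map_span, Ideal.span_le]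
    rintro _ ⟨_, ⟨i, rfl⟩, rfl⟩
    refine z.2.mem_of_pow_mem N ?_
    have h1 := hτ (Sum.inr (Sum.inr i))
    simp only [rel, Sum.elim_inr, map_sub, map_pow, map_sum, map_mul, sub_eq_zero] at h1
    rw [show τ (MvPolynomial.C (x i)) = algebraMap A B (x i) from τ.commutes (x i)] at h1
    rw [h1]
    exact Ideal.sum_mem _ fun j _ => Ideal.mul_mem_left _ _ (hz j)
  · by_contra! hall
    refine hF1 (ringKrullDim_quotient_eq_zero_of_cover f hcov mE hmE fun j => ?_)
    rw [← hf']
    exact hψm (hall j)
  refine hdA.imp id fun hd1 => ⟨hd1.1, fun p hp => ?_⟩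
  by_contra! hall
  let F := E ⧸ mE
  haveI hFreg : IsRegularLocalRing F := isRegularLocalRing_fibre_of_regularHom h
  let y : F := Ideal.Quotient.mk mE (ψ p)
  have hy : Ideal.span {y} ≤ maximalIdeal F := by
    rw [Ideal.span_singleton_le_iff_mem, mem_maximalIdeal]
    intro hu
    obtain ⟨v, hv⟩ := hu.exists_right_inv
    obtain ⟨v, rfl⟩ := Ideal.Quotient.mk_surjective v
    have h1 : ψ p * v - 1 ∈ maximalIdeal E := hmE (Ideal.Quotient.eq.1 (by rw [map_mul, map_one]; exact hv))
    have h2 : ψ p ∈ maximalIdeal E := by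
      by_contra hno
      obtain ⟨⟨d, u⟩, hdu⟩ := IsLocalization.surj q.primeCompl p
      have h3 : d ∈ q := (IsLocalization.AtPrime.to_map_mem_maximal_iff B q d).1 (by
        rw [← hdu]; exact Ideal.mul_mem_right _ _ hp)
      have h4 : ψ p * hD u = hD d := by rw [← hψ, ← hψ, ← map_mul, hdu]
      have h5 : hD d ∈ maximalIdeal E := h3
      rw [← h4] at h5
      exact hno (((maximalIdeal.isMaximal E).isPrime.mem_or_mem h5).resolve_right fun h6 =>
        (mem_maximalIdeal _).1 h6 (hunit u))
    have h7 := sub_mem (Ideal.mul_mem_right v _ h2) h1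
    rw [sub_sub_cancel] at h7
    exact (maximalIdeal.isMaximal E).ne_top ((Ideal.eq_top_iff_one _).2 h7)
  have h0 : ringKrullDim (F ⧸ Ideal.span {y}) = 0 := by
    refine ringKrullDim_quotient_eq_zero_of_cover _ (cover_quotient f hcov mE) _ hy fun j => ?_
    obtain ⟨u, hu, w, hw, huw⟩ := Submodule.mem_sup.1 (hall j)
    obtain ⟨e, rfl⟩ := Ideal.mem_span_singleton'.1 hw
    show Ideal.Quotient.mk mE (f j) ∈ _
    have h5 : Ideal.Quotient.mk mE (ψ u) = 0 := Ideal.Quotient.eq_zero_iff_mem.2 (hψm hu)
    rw [← hf', ← huw, map_add, map_add, h5, zero_add, map_mul, map_mul]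
    exact Ideal.mul_mem_left _ _ (Ideal.mem_span_singleton_self y)
  have h1 : ringKrullDim F ≤ 1 := by
    refine (ringKrullDim_le_ringKrullDim_quotient_add_spanFinrank (R := F) (Ideal.span {y})
      (hy.trans (by rw [IsLocalRing.ringJacobson_eq_maximalIdeal]))).trans ?_
    rw [h0, zero_add]
    have : (Ideal.span {y}).spanFinrank ≤ 1 :=
      (Submodule.spanFinrank_span_le_ncard_of_finite (Set.finite_singleton _)).trans (Set.ncard_singleton _).le
    exact_mod_cast this
  exact absurd (hd1.2.trans h1) (by decide)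

/-- **Parafactoriality along regular homomorphisms.** -/
theorem parafactorial_of_regularHom {A E : Type u} [CommRing A] [IsLocalRing A] [IsNoetherianRing A]
    [CommRing E] [IsLocalRing E] [IsNoetherianRing E] [Algebra A E] [IsLocalHom (algebraMap A E)]
    (h : CAlg.IsRegularHom A E)
    (hF1 : ringKrullDim (E ⧸ (maximalIdeal A).map (algebraMap A E)) ≠ 0)
    (hd : (3 : ℕ∞) ≤ LocCoh.depth E E) : ParaF.IsParafactorialLocalRing E := by
  classical
  suffices key : ∀ I : Ideal A, ∀ (A' : Type u) [CommRing A'] [IsLocalRing A'] [IsNoetherianRing A']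
      (φ : A →+* A'), Function.Surjective φ → RingHom.ker φ = I →
      ∀ (E' : Type u) [CommRing E'] [IsLocalRing E'] [IsNoetherianRing E'] [Algebra A' E']
        [IsLocalHom (algebraMap A' E')], CAlg.IsRegularHom A' E' →
        ringKrullDim (E' ⧸ (maximalIdeal A').map (algebraMap A' E')) ≠ 0 →
        (3 : ℕ∞) ≤ LocCoh.depth E' E' → ParaF.IsParafactorialLocalRing E' by
    exact key ⊥ A (RingHom.id A) Function.surjective_id
      ((RingHom.injective_iff_ker_eq_bot _).1 Function.injective_id) E h hF1 hd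
  clear h hF1 hd
  intro I
  induction I using WellFoundedGT.induction with
  | ind I ih =>
  intro A _ _ _ φ hφ hker E _ _ _ _ _ h hF1 hd
  haveI : Module.Flat A E := h.1
  have hd2 : (2 : ℕ∞) ≤ LocCoh.depth E E := le_trans (by norm_num) hd
  let mE := (maximalIdeal A).map (algebraMap A E)
  let F := E ⧸ mE
  haveI hFreg : IsRegularLocalRing F := isRegularLocalRing_fibre_of_regularHom h
  have hdepth := CAlg1.depth_of_flat_local A E
  rw [CAlg1.depth_quotient_self E mE] at hdepth
  have hFle : ((LocCoh.depth F F : ℕ∞) : WithBot ℕ∞) ≤ ringKrullDim F := by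
    rw [← Module.supportDim_self_eq_ringKrullDim]
    exact EGA4Alg4.depth_le_supportDim
  by_cases hm : maximalIdeal A = ⊥
  · -- the base is a field
    have hbot : mE = ⊥ := by show Ideal.map _ _ = _; rw [hm, Ideal.map_bot]
    let e : E ≃+* F := (RingEquiv.quotientBot E).symm.trans (Ideal.quotEquivOfEq hbot.symm)
    haveI : IsRegularLocalRing E := IsRegularLocalRing.of_ringEquiv (R := F) e.symm
    refine parafactorial_of_regular ((WithBot.coe_le_coe.2 hd2).trans ?_)
    rw [← Module.supportDim_self_eq_ringKrullDim]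
    exact EGA4Alg4.depth_le_supportDim
  refine parafactorial_of_triv hd2 fun r f a k hf hcov hcoh => ?_
  by_cases h0 : LocCoh.depth A A = 0
  · -- devissage along a socle element
    obtain ⟨-, t, ht⟩ := isAssociatedPrime_iff.1 (EGA4Alg4.depth_eq_zero_iff.1 h0)
    have htm' : ∀ c, c ∈ maximalIdeal A ↔ c * t = 0 := fun c => by
      rw [ht, Submodule.mem_colon_singleton, Submodule.mem_bot, smul_eq_mul]
    have ht0 : t ≠ 0 := fun h0' => (maximalIdeal.isMaximal A).ne_top
      ((Ideal.eq_top_iff_one _).2 ((htm' 1).2 (by rw [h0', mul_zero])))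
    have htm : t ∈ maximalIdeal A := by
      by_contra hno
      rw [mem_maximalIdeal, mem_nonunits_iff, not_not] at hno
      exact hm (eq_bot_iff.2 fun c hc => (Submodule.mem_bot A).2 (hno.mul_left_eq_zero.1 ((htm' c).1 hc)))
    let A₁ := A ⧸ Ideal.span {t}
    haveI : Nontrivial A₁ := Ideal.Quotient.nontrivial_iff.2
      (ne_top_of_le_ne_top (maximalIdeal.isMaximal A).ne_top ((Ideal.span_singleton_le_iff_mem _).2 htm))
    haveI : IsLocalRing A₁ := .of_surjective' (Ideal.Quotient.mk _) Ideal.Quotient.mk_surjective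
    let T := (Ideal.span {t}).map (algebraMap A E)
    have hT : T = Ideal.span {algebraMap A E t} := by
      show Ideal.map _ _ = _; rw [Ideal.map_span, Set.image_singleton]
    have hTm : T ≤ mE := Ideal.map_mono ((Ideal.span_singleton_le_iff_mem _).2 htm)
    have hmEm : mE ≤ maximalIdeal E := Ideal.map_le_iff_le_comap.2 fun c hc => map_nonunit _ c hc
    let E₁ := E ⧸ T
    haveI : Nontrivial E₁ := Ideal.Quotient.nontrivial_iff.2
      (ne_top_of_le_ne_top (maximalIdeal.isMaximal E).ne_top (hTm.trans hmEm))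
    haveI : IsLocalRing E₁ := .of_surjective' (Ideal.Quotient.mk _) Ideal.Quotient.mk_surjective
    haveI : IsLocalHom (Ideal.Quotient.mk T) := IsLocalHom.of_surjective _ Ideal.Quotient.mk_surjective
    haveI : IsLocalHom (algebraMap A₁ E₁) := ⟨fun c hc => by
      obtain ⟨c, rfl⟩ := Ideal.Quotient.mk_surjective c
      have h1 : IsUnit (Ideal.Quotient.mk T (algebraMap A E c)) := hc
      exact ((isUnit_of_map_unit (algebraMap A E) c (isUnit_of_map_unit (Ideal.Quotient.mk T) _ h1))).map _⟩
    have hh₁ : CAlg.IsRegularHom A₁ E₁ := CAlg1.Pop.isRegularHom_quotient h _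
    haveI : Module.Flat A₁ E₁ := hh₁.1
    have hm₁ : (maximalIdeal A₁).map (algebraMap A₁ E₁) = mE.map (Ideal.Quotient.mk T) := by
      rw [← IsLocalRing.map_maximalIdeal_of_surjective (R := A) (S := A₁) (Ideal.Quotient.mk _)
        Ideal.Quotient.mk_surjective, Ideal.map_map, Ideal.map_map]
      rfl
    let eF : (E₁ ⧸ (maximalIdeal A₁).map (algebraMap A₁ E₁)) ≃+* F :=
      (Ideal.quotEquivOfEq hm₁).trans (DoubleQuot.quotQuotEquivQuotOfLE hTm)
    have hF1' : ringKrullDim (E₁ ⧸ (maximalIdeal A₁).map (algebraMap A₁ E₁)) ≠ 0 := by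
      rwa [ringKrullDim_eq_of_ringEquiv eF]
    haveI : IsLocalRing (E₁ ⧸ (maximalIdeal A₁).map (algebraMap A₁ E₁)) := eF.symm.isLocalRing
    have hdF : (3 : ℕ∞) ≤ LocCoh.depth F F := by rwa [hdepth, h0, zero_add] at hd
    have hd₁ : (3 : ℕ∞) ≤ LocCoh.depth E₁ E₁ := by
      rw [CAlg1.depth_of_flat_local A₁ E₁, CAlg1.depth_quotient_self E₁, CAlg1.depth_eq_of_ringEquiv eF]
      exact hdF.trans le_add_self
    have hlt : I < RingHom.ker ((Ideal.Quotient.mk (Ideal.span {t})).comp φ) := by
      subst hker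
      refine lt_of_le_of_ne (fun c hc => ?_) fun e => ?_
      · rw [RingHom.mem_ker, RingHom.comp_apply, RingHom.mem_ker.1 hc, map_zero]
      · obtain ⟨c, hc⟩ := hφ t
        have h1 : c ∈ RingHom.ker φ := e ▸ (show c ∈ RingHom.ker ((Ideal.Quotient.mk (Ideal.span {t})).comp φ) by
          rw [RingHom.mem_ker, RingHom.comp_apply, hc]
          exact Ideal.Quotient.eq_zero_iff_mem.2 (Ideal.mem_span_singleton_self t))
        exact ht0 (hc ▸ RingHom.mem_ker.1 h1)
    have hpara := ih _ hlt A₁ ((Ideal.Quotient.mk _).comp φ) (Ideal.Quotient.mk_surjective.comp hφ) rfl E₁ hh₁ hF1' hd₁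
    have hreg : ∀ j, Ideal.Quotient.mk T (f j) ∈ maximalIdeal E₁ := fun j => map_nonunit (Ideal.Quotient.mk T) _ (hf j)
    have hcov₁ := cover_quotient f hcov T
    haveI hmEp : mE.IsPrime := (Ideal.Quotient.isDomain_iff_prime mE).1 (S2821.result F).1
    have hann : ∀ y, algebraMap A E t * y = 0 ↔ y ∈ mE := by
      intro y
      constructor
      · intro hy
        have hexact : Function.Exact ((Submodule.subtype (maximalIdeal A)).lTensor E)
            ((LinearMap.toSpanSingleton A A t).lTensor E) :=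
          Module.Flat.lTensor_exact E (LinearMap.exact_iff.2 (by
            rw [Submodule.range_subtype]
            ext c
            rw [LinearMap.mem_ker, LinearMap.toSpanSingleton_apply, smul_eq_mul]
            exact (htm' c).symm))
        obtain ⟨w, hw⟩ := (hexact (y ⊗ₜ[A] (1 : A))).1 (by
          rw [LinearMap.lTensor_tmul, LinearMap.toSpanSingleton_apply, one_smul]
          refine (TensorProduct.rid A E).injective ?_
          rw [TensorProduct.rid_tmul, map_zero, Algebra.smul_def, hy])
        have h2 := congrArg (TensorProduct.rid A E) hw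
        rw [TensorProduct.rid_tmul, one_smul] at h2
        rw [← h2]
        clear hw h2
        induction w using TensorProduct.induction_on with
        | zero => simp
        | tmul e c =>
          rw [LinearMap.lTensor_tmul, TensorProduct.rid_tmul, Algebra.smul_def]
          exact Ideal.mul_mem_right _ _ (Ideal.mem_map_of_mem _ c.2)
        | add u v hu hv => rw [map_add, map_add]; exact add_mem hu hv
      · intro hy
        refine (Ideal.map_le_iff_le_comap (K := LinearMap.ker (LinearMap.toSpanSingleton E E (algebraMap A E t)))).2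
          (fun c hc => ?_) hy |> fun h2 => (mul_comm _ _).trans h2
        show algebraMap A E c * algebraMap A E t = 0
        rw [← map_mul, (htm' c).1 hc, map_zero]
    haveI : IsLocalRing (E ⧸ mE) := inferInstance
    refine triv_of_socle mE (algebraMap A E t) (Ideal.mem_map_of_mem _ htm) hann hdF f a k hf hcov hcoh ?_
    have hTriv : Triv (Ideal.Quotient.mk T ∘ f) (fun i j => Ideal.Quotient.mk T (a i j)) k := by
      refine triv_of_parafactorial_global hpara _ _ k hreg hcov₁ (hcoh.map _)
    exact (hTriv.map (Ideal.Quotient.factor hT.le))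
  · have h1 : (1 : ℕ∞) ≤ LocCoh.depth A A := Order.one_le_iff_ne_zero.2 h0
    refine triv_of_popescu h hF1 ?_ f a k hf hcov hcoh
    by_cases h2 : (2 : ℕ∞) ≤ LocCoh.depth A A
    · exact Or.inl h2
    refine Or.inr ⟨h1, le_trans (WithBot.coe_le_coe.2 ?_) hFle⟩
    have h3 : LocCoh.depth A A = 1 := le_antisymm (Order.le_of_lt_succ (by
      rw [not_le] at h2; simpa [show (2 : ℕ∞) = Order.succ (1 : ℕ∞) from rfl] using h2)) h1
    rw [hdepth, h3, add_comm, show (3 : ℕ∞) = 2 + 1 from rfl] at hd
    exact (ENat.add_le_add_iff_right ENat.one_ne_top).1 hd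

end Groth.Agent.ParaF26
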