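import Groth.Agent.ParaF26.DimOne
import Groth.Agent.FreeLift3.Basic

/-!
Flat local algebras generated by one element modulo the base, up to localisation.
-/

set_option autoImplicit false
set_option linter.style.haveILetI false
set_option backward.isDefEq.respectTransparency.types false

universe u

open IsLocalRing TensorProduct Polynomial

noncomputable section

namespace Groth.Agent.ParaF26

/-- A finite extension of the residue field is realised by a finite free local algebra. -/
theorem exists_local_split {A : Type u} [CommRing A] [IsLocalRing A] (L : Type u) [Field L] [Algebra A L]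
    [Algebra (ResidueField A) L] [IsScalarTower A (ResidueField A) L] [Module.Finite (ResidueField A) L] :
    ∃ (S : Type u) (_ : CommRing S) (_ : Algebra A S) (_ : Module.Finite A S) (_ : Module.Free A S)
      (_ : IsLocalRing S), (maximalIdeal A).map (algebraMap A S) = maximalIdeal S ∧
      ∃ ψ : S →ₐ[A] L, Function.Surjective ψ ∧ RingHom.ker ψ = maximalIdeal S := by
  let p := maximalIdeal A
  let e₀ : ResidueField A ≃+* p.ResidueField :=
    RingEquiv.ofBijective (algebraMap (A ⧸ p) p.ResidueField) (Ideal.bijective_algebraMap_quotient_residueField p)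
  letI : Algebra p.ResidueField L := ((algebraMap (ResidueField A) L).comp e₀.symm.toRingHom).toAlgebra
  haveI : IsScalarTower A p.ResidueField L := IsScalarTower.of_algebraMap_eq fun a => by
    show _ = algebraMap (ResidueField A) L (e₀.symm (algebraMap A p.ResidueField a))
    rw [show algebraMap A p.ResidueField a = e₀ (residue A a) from
      (Ideal.algebraMap_quotient_residueField_mk p a).symm, RingEquiv.symm_apply_apply,
      ← ResidueField.algebraMap_eq, ← IsScalarTower.algebraMap_apply]
  haveI : Module.Finite p.ResidueField L := by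
    obtain ⟨s, hs⟩ := (inferInstance : Module.Finite (ResidueField A) L).fg_top
    refine ⟨⟨s, eq_top_iff.2 fun y hy' => ?_⟩⟩
    clear hy'
    have hy : y ∈ Submodule.span (ResidueField A) (s : Set L) := hs ▸ trivial
    induction hy using Submodule.span_induction with
    | mem z hz => exact Submodule.subset_span hz
    | zero => exact zero_mem _
    | add a b _ _ ha hb => exact add_mem ha hb
    | smul c a _ ha =>
      rw [show c • a = e₀ c • a by
        rw [Algebra.smul_def, Algebra.smul_def]
        show _ = algebraMap (ResidueField A) L (e₀.symm (e₀ c)) * a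
        rw [RingEquiv.symm_apply_apply]]
      exact Submodule.smul_mem _ _ ha
  obtain ⟨S, iS, iA, iF, iFr, hP, e, he⟩ := FreeLift3.exists_finite_free_residueField (R := A) (L := L) p
  let P := p.map (algebraMap A S)
  haveI : P.IsPrime := hP
  have hle : ∀ M : Ideal S, M.IsMaximal → P ≤ M := fun M hM => by
    haveI := hM
    refine Ideal.map_le_iff_le_comap.2 (le_of_eq ?_)
    haveI : (M.comap (algebraMap A S)).IsMaximal := Ideal.isMaximal_comap_of_isIntegral_of_isMaximal M
    exact (eq_maximalIdeal this).symm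
  have hmax : P.IsMaximal := by
    haveI : P.LiesOver p := ⟨(maximalIdeal.isMaximal A).eq_of_le
      (Ideal.IsPrime.comap (algebraMap A S)).ne_top Ideal.le_comap_map⟩
    exact Ideal.IsMaximal.of_liesOver_isMaximal P p
  haveI : IsLocalRing S := IsLocalRing.of_unique_max_ideal
    ⟨P, hmax, fun M hM => (hmax.eq_of_le hM.ne_top (hle M hM)).symm⟩
  let ψ : S →ₐ[A] L := AlgHom.mk (e.toRingHom.comp (algebraMap S P.ResidueField)) fun a => by
    show e (algebraMap S P.ResidueField (algebraMap A S a)) = _
    rw [← IsScalarTower.algebraMap_apply, he]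
  refine ⟨S, iS, iA, iF, iFr, inferInstance, eq_maximalIdeal hmax, ψ, ?_, ?_⟩
  · exact e.surjective.comp ((Ideal.bijective_algebraMap_quotient_residueField P).2.comp
      Ideal.Quotient.mk_surjective)
  · rw [← eq_maximalIdeal hmax]
    ext s
    rw [RingHom.mem_ker]
    show e (algebraMap S P.ResidueField s) = 0 ↔ _
    rw [map_eq_zero_iff e e.injective, Ideal.algebraMap_residueField_eq_zero]

variable {A B : Type u} [CommRing A] [CommRing B] [IsLocalRing A] [IsLocalRing B] [Algebra A B]
  [IsLocalHom (algebraMap A B)]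

/-- `x` generates `B` modulo the closed fibre, up to denominators. -/
def GenModFibre (x : B) : Prop :=
  ∀ b : B, ∃ r s : A[X], IsUnit (aeval x s) ∧
    b * aeval x s - aeval x r ∈ (maximalIdeal A).map (algebraMap A B) ⊔
      Ideal.span ((aeval x : A[X] →ₐ[A] B) '' {h | aeval x h ∈ maximalIdeal B})

omit [IsLocalRing A] [IsLocalHom (algebraMap A B)] in
theorem residue_aeval (x : B) (r : A[X]) :
    residue B (aeval x r) = aeval (residue B x) r :=
  (aeval_algHom_apply (IsScalarTower.toAlgHom A B (ResidueField B)) x r).symm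

/-- The maximal ideal is generated by the base and one polynomial, and the residue field is finite. -/
theorem exists_minpoly_lift (x : B) (hx : GenModFibre (A := A) x)
    (hP : ∃ P : A[X], P.Monic ∧ aeval x P ∈ maximalIdeal B) :
    ∃ g : A[X], g.Monic ∧ aeval x g ∈ maximalIdeal B ∧
      maximalIdeal B = (maximalIdeal A).map (algebraMap A B) ⊔ Ideal.span {aeval x g} ∧
      Module.Finite (ResidueField A) (ResidueField B) ∧
      ∀ κ : ResidueField B, ∃ r : A[X], residue B (aeval x r) = κ := by
  obtain ⟨P, hPm, hPx⟩ := hP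
  let k := ResidueField A
  let κ := ResidueField B
  let a := residue B x
  have haev : ∀ r : A[X], residue B (aeval x r) = aeval a (r.map (residue A)) := fun r =>
    (residue_aeval x r).trans (Polynomial.aeval_map_algebraMap k a r).symm
  have hint : IsIntegral k a := ⟨P.map (residue A), hPm.map _, by
    rw [← aeval_def, ← haev, residue_eq_zero_iff]; exact hPx⟩
  obtain ⟨g, hg, -, hgm⟩ := Polynomial.lifts_and_degree_eq_and_monic
    (f := residue A) (p := minpoly k a) (by
      exact (Polynomial.lifts_iff_coeff_lifts _).2 fun n => residue_surjective _) (minpoly.monic hint)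
  have hgx : aeval x g ∈ maximalIdeal B := by
    rw [← residue_eq_zero_iff, haev, hg, minpoly.aeval]
  have hmA : (maximalIdeal A).map (algebraMap A B) ≤ maximalIdeal B :=
    Ideal.map_le_iff_le_comap.2 fun c hc => map_nonunit _ c hc
  let J := (maximalIdeal A).map (algebraMap A B) ⊔ Ideal.span {aeval x g}
  have hJ : J ≤ maximalIdeal B := sup_le hmA ((Ideal.span_singleton_le_iff_mem _).2 hgx)
  have hpoly : ∀ h : A[X], aeval x h ∈ maximalIdeal B → aeval x h ∈ J := by
    intro h hh
    rw [← residue_eq_zero_iff, haev] at hh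
    obtain ⟨c, hc⟩ := minpoly.dvd k a hh
    obtain ⟨c', rfl⟩ := Polynomial.map_surjective (residue A) residue_surjective c
    have h1 : h - g * c' ∈ (maximalIdeal A).map (Polynomial.C : A →+* A[X]) := by
      rw [Ideal.mem_map_C_iff]
      intro n
      rw [← residue_eq_zero_iff, ← Polynomial.coeff_map, Polynomial.map_sub, Polynomial.map_mul, hg, ← hc,
        sub_self, coeff_zero]
    have h2 := Ideal.mem_map_of_mem (aeval x : A[X] →ₐ[A] B).toRingHom h1
    rw [Ideal.map_map, show ((aeval x : A[X] →ₐ[A] B).toRingHom.comp Polynomial.C) = algebraMap A B from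
      RingHom.ext fun c => aeval_C x c] at h2
    have h3 : aeval x g * aeval x c' ∈ J :=
      Ideal.mul_mem_right _ _ (Submodule.mem_sup_right (Ideal.mem_span_singleton_self _))
    have := add_mem (show _ ∈ J from Submodule.mem_sup_left h2) h3
    rwa [show (aeval x : A[X] →ₐ[A] B).toRingHom (h - g * c') = aeval x h - aeval x g * aeval x c' by
      show aeval x (h - g * c') = _
      rw [map_sub, map_mul], sub_add_cancel] at this
  have hsub : (maximalIdeal A).map (algebraMap A B) ⊔
      Ideal.span ((aeval x : A[X] →ₐ[A] B) '' {h | aeval x h ∈ maximalIdeal B}) ≤ J :=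
    sup_le le_sup_left (Ideal.span_le.2 (by rintro _ ⟨h, hh, rfl⟩; exact hpoly h hh))
  have hfield : ∀ z : κ, ∃ r : A[X], residue B (aeval x r) = z := by
    intro z
    obtain ⟨b, rfl⟩ := residue_surjective z
    obtain ⟨r, s, hs, hrs⟩ := hx b
    have h0 : residue B (b * aeval x s - aeval x r) = 0 := (residue_eq_zero_iff _).2 (hJ (hsub hrs))
    rw [map_sub, map_mul, sub_eq_zero, haev, haev] at h0
    have hne : aeval a (s.map (residue A)) ≠ 0 := by
      rw [← haev]; exact (hs.map _).ne_zero
    have hmem : ∀ q : k[X], aeval a q ∈ Algebra.adjoin k ({a} : Set κ) := fun q => aeval_mem_adjoin_singleton k a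
    have hinv : (aeval a (s.map (residue A)))⁻¹ ∈ Algebra.adjoin k ({a} : Set κ) :=
      IsIntegral.inv_mem ((Algebra.IsIntegral.adjoin (R := k) (S := ({a} : Set κ))
        (fun y hy => (Set.mem_singleton_iff.1 hy) ▸ hint)).isIntegral (⟨_, hmem _⟩ : Algebra.adjoin k ({a} : Set κ)) |>.map
        (Subalgebra.val _)) (hmem _)
    have hb : residue B b ∈ Algebra.adjoin k ({a} : Set κ) := by
      rw [← mul_inv_cancel_right₀ hne (residue B b), h0]
      exact mul_mem (hmem _) hinv
    rw [Algebra.adjoin_singleton_eq_range_aeval] at hb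
    obtain ⟨q, hq⟩ := hb
    obtain ⟨q', rfl⟩ := Polynomial.map_surjective (residue A) residue_surjective q
    exact ⟨q', (haev q').trans hq⟩
  refine ⟨g, hgm, hgx, le_antisymm (fun b hb => ?_) hJ, ?_, hfield⟩
  · obtain ⟨r, s, hs, hrs⟩ := hx b
    have hrs' := hsub hrs
    have hr : aeval x r ∈ maximalIdeal B := by
      have := sub_mem (Ideal.mul_mem_right (aeval x s) _ hb) (hJ hrs')
      rwa [sub_sub_cancel] at this
    have h1 := add_mem hrs' (hpoly r hr)
    rw [sub_add_cancel] at h1
    exact (Ideal.mul_unit_mem_iff_mem J hs).1 h1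
  · have htop : (Algebra.adjoin k ({a} : Set κ)) = ⊤ := by
      refine eq_top_iff.2 fun z _ => ?_
      obtain ⟨r, rfl⟩ := hfield z
      rw [haev]
      exact aeval_mem_adjoin_singleton k a
    have := hint.fg_adjoin_singleton
    rw [htop, Algebra.top_toSubmodule] at this
    exact ⟨this⟩

/-- The relative dimension one theorem for a generator. -/
theorem parafactorial_of_generator [IsNoetherianRing A] [IsNoetherianRing B] [Module.Flat A B]
    (hd : (2 : ℕ∞) ≤ LocCoh.depth A A)
    (hdim : ringKrullDim (B ⧸ (maximalIdeal A).map (algebraMap A B)) ≠ 0)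
    (x : B) (hx : GenModFibre (A := A) x) (hP : ∃ P : A[X], P.Monic ∧ aeval x P ∈ maximalIdeal B) :
    ParaF.IsParafactorialLocalRing B := by
  classical
  obtain ⟨g, -, hgx, hmax, hfin, hfield⟩ := exists_minpoly_lift x hx hP
  haveI := hfin
  obtain ⟨S, _, _, _, _, _, hS, ψ, hψs, hψk⟩ := exists_local_split (A := A) (ResidueField B)
  let ε : B ⊗[A] S →ₐ[A] ResidueField B :=
    Algebra.TensorProduct.lift (IsScalarTower.toAlgHom A B (ResidueField B)) ψ fun _ _ => Commute.all _ _
  have hεB : ∀ b, ε (b ⊗ₜ[A] 1) = residue B b := fun b => by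
    rw [Algebra.TensorProduct.lift_tmul, map_one, mul_one]; rfl
  have hεS : ∀ s, ε ((1 : B) ⊗ₜ[A] s) = ψ s := fun s => by
    rw [Algebra.TensorProduct.lift_tmul, map_one, one_mul]
  obtain ⟨θ, hθ⟩ := hψs (residue B x)
  let N : Ideal (B ⊗[A] S) := RingHom.ker ε
  let t : B ⊗[A] S := x ⊗ₜ[A] 1 - (1 : B) ⊗ₜ[A] θ
  let M : Ideal (B ⊗[A] S) := (maximalIdeal A).map (algebraMap A (B ⊗[A] S)) ⊔ Ideal.span {t}
  let ι : B →ₐ[A] B ⊗[A] S := Algebra.TensorProduct.includeLeft
  let j : S →ₐ[A] B ⊗[A] S := Algebra.TensorProduct.includeRight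
  have hjm : ∀ s ∈ maximalIdeal S, j s ∈ M := fun s hs => by
    rw [← hS] at hs
    have := Ideal.mem_map_of_mem j.toRingHom hs
    rw [Ideal.map_map, show j.toRingHom.comp (algebraMap A S) = algebraMap A _ from j.comp_algebraMap] at this
    exact Submodule.mem_sup_left this
  have hev : ∀ r : A[X], ι (aeval x r) - j (aeval θ r) ∈ M := fun r => by
    rw [← aeval_algHom_apply, ← aeval_algHom_apply]
    obtain ⟨c, hc⟩ := Polynomial.sub_dvd_eval_sub (ι x) (j θ) (r.map (algebraMap A (B ⊗[A] S)))
    rw [Polynomial.eval_map_algebraMap, Polynomial.eval_map_algebraMap] at hc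
    rw [hc]
    exact Submodule.mem_sup_right (Ideal.mul_mem_right _ _ (Ideal.mem_span_singleton_self t))
  have hψθ : ∀ r : A[X], ψ (aeval θ r) = residue B (aeval x r) := fun r => by
    rw [residue_aeval, ← aeval_algHom_apply, hθ]
  have hmB : ∀ b ∈ maximalIdeal B, ι b ∈ M := by
    intro b hb
    rw [hmax] at hb
    have h1 := Ideal.mem_map_of_mem ι.toRingHom hb
    rw [Ideal.map_sup, Ideal.map_map, show ι.toRingHom.comp (algebraMap A B) = algebraMap A _ from ι.comp_algebraMap, Ideal.map_span, Set.image_singleton] at h1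
    refine (show (maximalIdeal A).map (algebraMap A (B ⊗[A] S)) ⊔ Ideal.span {ι (aeval x g)} ≤ M from
      sup_le le_sup_left ((Ideal.span_singleton_le_iff_mem M).2 ?_)) h1
    have h2 : j (aeval θ g) ∈ M := hjm _ (by
      rw [← hψk, RingHom.mem_ker, hψθ, residue_eq_zero_iff]; exact hgx)
    have := add_mem (hev g) h2
    rwa [sub_add_cancel] at this
  have hres : ∀ z : B ⊗[A] S, ∃ s : S, z - j s ∈ M := by
    intro z
    induction z using TensorProduct.induction_on with
    | zero => exact ⟨0, by rw [map_zero, sub_zero]; exact zero_mem _⟩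
    | tmul b s =>
      obtain ⟨r, hr⟩ := hfield (residue B b)
      refine ⟨aeval θ r * s, ?_⟩
      have h1 : ι (b - aeval x r) ∈ M := hmB _ (by rw [← residue_eq_zero_iff, map_sub, hr, sub_self])
      rw [show b ⊗ₜ[A] s - j (aeval θ r * s) = (ι (b - aeval x r) + (ι (aeval x r) - j (aeval θ r))) * j s by
        rw [map_sub, sub_add_sub_cancel, map_mul, sub_mul]
        congr 1
        show b ⊗ₜ[A] s = (b ⊗ₜ[A] (1 : S)) * ((1 : B) ⊗ₜ[A] s)
        rw [Algebra.TensorProduct.tmul_mul_tmul, mul_one, one_mul]]
      exact M.mul_mem_right _ (add_mem h1 (hev r))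
    | add a b ha hb =>
      obtain ⟨s, hs⟩ := ha
      obtain ⟨s', hs'⟩ := hb
      exact ⟨s + s', by rw [map_add, add_sub_add_comm]; exact add_mem hs hs'⟩
  have hMN : M ≤ N := by
    refine sup_le (Ideal.map_le_iff_le_comap.2 fun a ha => ?_) ((Ideal.span_singleton_le_iff_mem _).2 ?_)
    · show ε (algebraMap A _ a) = 0
      rw [AlgHom.commutes, IsScalarTower.algebraMap_apply A B (ResidueField B), ResidueField.algebraMap_eq,
        residue_eq_zero_iff]
      exact map_nonunit _ a ha
    · show ε (x ⊗ₜ[A] 1 - (1 : B) ⊗ₜ[A] θ) = 0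
      rw [map_sub, hεB, hεS, hθ, sub_self]
  haveI : N.IsPrime := RingHom.ker_isPrime ε
  refine parafactorial_of_split_point hd hdim S hS N ?_ (fun z => ?_) t
    (hMN (Submodule.mem_sup_right (Ideal.mem_span_singleton_self t))) fun z hz => ⟨1, ?_, ?_⟩
  · ext b
    rw [Ideal.mem_comap, RingHom.mem_ker, Algebra.TensorProduct.algebraMap_apply, Algebra.algebraMap_self,
      RingHom.id_apply, hεB, residue_eq_zero_iff]
  · obtain ⟨s, hs⟩ := hres z
    exact ⟨s, hMN hs⟩
  · show ε 1 ≠ 0
    rw [map_one]; exact one_ne_zero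
  · obtain ⟨s, hs⟩ := hres z
    have hs0 : s ∈ maximalIdeal S := by
      rw [← hψk, RingHom.mem_ker, ← hεS]
      have : ε (z - j s) = 0 := hMN hs
      rw [map_sub, show ε z = 0 from hz, zero_sub, neg_eq_zero] at this
      exact this
    have := add_mem hs (hjm s hs0)
    rw [sub_add_cancel] at this
    rw [one_mul]
    exact this

end Groth.Agent.ParaF26
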