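import Groth.Agent.ParaF26.Factorial
import Groth.Agent.ParaF26.AwayBij
import Groth.Agent.Pure83.Elem
import Mathlib.RingTheory.Filtration
import Mathlib.LinearAlgebra.Basis.Basic
import Mathlib.RingTheory.Finiteness.Quotient

/-!
Lifting trivialisations of modules that are invertible off the closed point.

A module which is invertible off the closed point and trivial modulo `J` is trivial, if `A/J` has
depth at least three and the graded pieces of `J` are free over `A/J`.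
-/

set_option autoImplicit false
set_option linter.style.haveILetI false

universe u

open IsLocalRing

namespace Groth.Agent.ParaF26

open Pure83

variable {A : Type u} [CommRing A] [IsLocalRing A]

/-- `N` is free of rank one at every point except the closed one. -/
def LocPrinc (N : Type u) [AddCommGroup N] [Module A N] : Prop :=
  ∀ p : Ideal A, p.IsPrime → p ≠ maximalIdeal A →
    ∃ (e : N) (lam : N →ₗ[A] A) (s : A), s ∉ p ∧ lam e = s ∧ ∀ n, lam n • e = s • n

variable {N : Type u} [AddCommGroup N] [Module A N]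

theorem LocPrinc.dual (hN : LocPrinc (A := A) N) : LocPrinc (A := A) (N →ₗ[A] A) := by
  intro p hp hne
  obtain ⟨e, lam, s, hs, hse, hlam⟩ := hN p hp hne
  refine ⟨lam, LinearMap.applyₗ e, s, hs, hse, fun ψ => LinearMap.ext fun n => ?_⟩
  show ψ e * lam n = s * ψ n
  have h1 := congrArg ψ (hlam n)
  rw [map_smul, map_smul, smul_eq_mul, smul_eq_mul] at h1
  rw [← h1, mul_comm]

variable [IsNoetherianRing A]

theorem exists_pow_mem (I : Ideal A)
    (h : ∀ p : Ideal A, p.IsPrime → p ≠ maximalIdeal A → ¬ I ≤ p) {x : A} (hx : x ∈ maximalIdeal A) :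
    ∃ r, x ^ r ∈ I := by
  obtain ⟨n, hn⟩ := exists_pow_le I fun q hq => h q.asIdeal q.2 hq
  exact ⟨n, hn (Ideal.pow_mem_pow hx n)⟩

section Forms

variable {R : Type u} [CommRing R] [Algebra A R]

theorem forms_symm (hN : LocPrinc (A := A) N) (φ g : N →ₗ[A] R) {y : A} (hym : y ∈ maximalIdeal A)
    (hy : IsSMulRegular R (algebraMap A R y)) (t₁ t₂ : N) : g t₁ * φ t₂ = g t₂ * φ t₁ := by
  let d : R := g t₁ * φ t₂ - g t₂ * φ t₁
  obtain ⟨r, hr⟩ := exists_pow_mem (LinearMap.ker (LinearMap.toSpanSingleton A R d)) (fun p hp hne hle => by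
    obtain ⟨e, lam, s, hs, -, hlam⟩ := hN p hp hne
    have key : ∀ (ψ : N →ₗ[A] R) (n : N), algebraMap A R s * ψ n = algebraMap A R (lam n) * ψ e := fun ψ n => by
      rw [← Algebra.smul_def, ← Algebra.smul_def, ← map_smul, ← map_smul, hlam]
    have hmem : s * s ∈ LinearMap.ker (LinearMap.toSpanSingleton A R d) := by
      rw [LinearMap.mem_ker, LinearMap.toSpanSingleton_apply, Algebra.smul_def, map_mul]
      show algebraMap A R s * algebraMap A R s * (g t₁ * φ t₂ - g t₂ * φ t₁) = 0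
      linear_combination (algebraMap A R s * φ t₂) * key g t₁ +
        (algebraMap A R (lam t₁) * g e) * key φ t₂ - (algebraMap A R s * φ t₁) * key g t₂ -
        (algebraMap A R (lam t₂) * g e) * key φ t₁
    exact (hp.mem_or_mem (hle hmem)).elim hs hs) hym
  rw [LinearMap.mem_ker, LinearMap.toSpanSingleton_apply, Algebra.smul_def, map_pow] at hr
  exact sub_eq_zero.1 ((hy.pow r).right_eq_zero_of_smul hr)

/-- In depth two all forms are multiples of a form which is surjective off the closed point. -/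
theorem exists_eq_mul_form (hN : LocPrinc (A := A) N) (φ g : N →ₗ[A] R) {y z : A}
    (hym : y ∈ maximalIdeal A) (hzm : z ∈ maximalIdeal A) (hy : IsSMulRegular R (algebraMap A R y))
    (hz : RegMod (Ideal.span {algebraMap A R y}) (algebraMap A R z))
    (hφ : ∀ p : Ideal A, p.IsPrime → p ≠ maximalIdeal A → ∃ a ∉ p, ∃ t, φ t = algebraMap A R a) :
    ∃ c : R, ∀ t, g t = c * φ t := by
  let I : Ideal A := (LinearMap.range φ).comap (Algebra.linearMap A R)
  have hI : ∀ p : Ideal A, p.IsPrime → p ≠ maximalIdeal A → ¬ I ≤ p := fun p hp hne hle => by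
    obtain ⟨a, ha, t, ht⟩ := hφ p hp hne
    exact ha (hle (show Algebra.linearMap A R a ∈ LinearMap.range φ from ⟨t, ht⟩))
  obtain ⟨a, ha⟩ := exists_pow_mem I hI hym
  obtain ⟨b, hb⟩ := exists_pow_mem I hI hzm
  obtain ⟨t₁, ht₁⟩ : ∃ t, φ t = algebraMap A R (y ^ a) := ha
  obtain ⟨t₂, ht₂⟩ : ∃ t, φ t = algebraMap A R (z ^ b) := hb
  rw [map_pow] at ht₁ ht₂
  have h := forms_symm hN φ g hym hy
  have h1 : algebraMap A R z ^ b * g t₁ ∈ Ideal.span {algebraMap A R y ^ a} :=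
    Ideal.mem_span_singleton'.2 ⟨g t₂, by rw [← ht₁, ← ht₂, ← h t₁ t₂, mul_comm]⟩
  obtain ⟨c, hc⟩ := Ideal.mem_span_singleton'.1 ((hz.pow_base hy a).pow b _ h1)
  refine ⟨c, fun t => sub_eq_zero.1 ((hy.pow a).right_eq_zero_of_smul ?_)⟩
  show algebraMap A R y ^ a * (g t - c * φ t) = 0
  have h2 := h t t₁
  rw [ht₁, ← hc] at h2
  linear_combination h2

omit [IsNoetherianRing A] in
theorem regMod_map_quotient (I : Ideal R) {y z : R} (h : RegMod (I ⊔ Ideal.span {y}) z) :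
    RegMod (Ideal.span {Ideal.Quotient.mk I y}) (Ideal.Quotient.mk I z) := by
  intro a' ha'
  obtain ⟨a, rfl⟩ := Ideal.Quotient.mk_surjective a'
  obtain ⟨b', hb'⟩ := Ideal.mem_span_singleton'.1 ha'
  obtain ⟨b, rfl⟩ := Ideal.Quotient.mk_surjective b'
  rw [← map_mul, ← map_mul, Ideal.Quotient.eq] at hb'
  have h1 := h a (by
    rw [show z * a = -(b * y - z * a) + b * y by ring]
    exact Submodule.add_mem_sup (neg_mem hb') (Ideal.mem_span_singleton'.2 ⟨b, rfl⟩))
  obtain ⟨i, hi, w, hw, rfl⟩ := Submodule.mem_sup.1 h1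
  obtain ⟨r, rfl⟩ := Ideal.mem_span_singleton'.1 hw
  exact Ideal.mem_span_singleton'.2 ⟨Ideal.Quotient.mk I r, by
    rw [map_add, map_mul, Ideal.Quotient.eq_zero_iff_mem.2 hi, zero_add]⟩

/-- Forms on the relations extend, in depth three. -/
theorem exists_extend {F : Type u} [AddCommGroup F] [Module A F] (π : F →ₗ[A] N)
    (hπ : Function.Surjective π) (hN : LocPrinc (A := A) N) (φ : N →ₗ[A] R) {x y z : A}
    (hxm : x ∈ maximalIdeal A) (hym : y ∈ maximalIdeal A) (hzm : z ∈ maximalIdeal A)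
    (hx : IsSMulRegular R (algebraMap A R x))
    (hy : RegMod (Ideal.span {algebraMap A R x}) (algebraMap A R y))
    (hz : RegMod (Ideal.span {algebraMap A R x, algebraMap A R y}) (algebraMap A R z))
    (hφ : ∀ p : Ideal A, p.IsPrime → p ≠ maximalIdeal A → ∃ a ∉ p, ∃ t, φ t = algebraMap A R a)
    (h : LinearMap.ker π →ₗ[A] R) : ∃ H : F →ₗ[A] R, ∀ k : LinearMap.ker π, H k = h k := by
  let ρ : (F →ₗ[A] R) →ₗ[A] (LinearMap.ker π →ₗ[A] R) := LinearMap.lcomp A R (LinearMap.ker π).subtype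
  let 𝔞 : Ideal A := (LinearMap.range ρ).comap (LinearMap.toSpanSingleton A (LinearMap.ker π →ₗ[A] R) h)
  obtain ⟨r, hr⟩ := exists_pow_mem 𝔞 (fun p hp hne hle => by
    obtain ⟨e, lam, s, hs, -, hlam⟩ := hN p hp hne
    obtain ⟨f, hf⟩ := hπ e
    let σ : F →ₗ[A] LinearMap.ker π :=
      (s • LinearMap.id - (lam ∘ₗ π).smulRight f).codRestrict _ fun v => by
        simp [hf, hlam]
    refine hs (hle (show LinearMap.toSpanSingleton A (LinearMap.ker π →ₗ[A] R) h s ∈ LinearMap.range ρ from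
      ⟨h ∘ₗ σ, LinearMap.ext fun k => ?_⟩))
    show h (σ k) = s • h k
    rw [← map_smul]
    congr 1
    refine Subtype.ext ?_
    show s • (k : F) - lam (π k) • f = s • (k : F)
    rw [LinearMap.mem_ker.1 k.2, map_zero, zero_smul, sub_zero]) hxm
  obtain ⟨H, hH⟩ : x ^ (r + 1) ∈ 𝔞 := by
    rw [pow_succ']
    exact Ideal.mul_mem_left _ _ hr
  replace hH : ∀ k : LinearMap.ker π, H k = algebraMap A R x ^ (r + 1) * h k := fun k => by
    rw [← map_pow, ← Algebra.smul_def]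
    exact LinearMap.congr_fun hH k
  let X : Ideal R := Ideal.span {algebraMap A R x ^ (r + 1)}
  let q : R →ₗ[A] R ⧸ X := (Ideal.Quotient.mkₐ A X).toLinearMap
  have hle : LinearMap.ker π ≤ LinearMap.ker (q ∘ₗ H) := fun k hk => by
    show Ideal.Quotient.mk X (H k) = 0
    rw [Ideal.Quotient.eq_zero_iff_mem, hH ⟨k, hk⟩]
    exact Ideal.mul_mem_right _ _ (Ideal.mem_span_singleton_self _)
  let g : N →ₗ[A] R ⧸ X :=
    (LinearMap.ker π).liftQ (q ∘ₗ H) hle ∘ₗ (π.quotKerEquivOfSurjective hπ).symm.toLinearMap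
  have hg : ∀ v, g (π v) = q (H v) := fun v => by
    have : (π.quotKerEquivOfSurjective hπ).symm (π v) = Submodule.Quotient.mk v :=
      (LinearEquiv.symm_apply_eq _).2 rfl
    show (LinearMap.ker π).liftQ (q ∘ₗ H) hle ((π.quotKerEquivOfSurjective hπ).symm (π v)) = _
    rw [this]
    rfl
  have hy' : IsSMulRegular (R ⧸ X) (algebraMap A (R ⧸ X) y) := by
    refine isSMulRegular_iff_right_eq_zero_of_smul.2 fun a' ha' => ?_
    obtain ⟨a, rfl⟩ := Ideal.Quotient.mk_surjective a'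
    rw [Ideal.Quotient.eq_zero_iff_mem]
    refine hy.pow_base hx _ a (Ideal.Quotient.eq_zero_iff_mem.1 ?_)
    rw [map_mul]
    exact ha'
  have hz' : RegMod (Ideal.span {algebraMap A (R ⧸ X) y}) (algebraMap A (R ⧸ X) z) := by
    refine regMod_map_quotient X (y := algebraMap A R y) (z := algebraMap A R z) ?_
    have := RegMod.pow_both hx hy hz r 0
    rwa [zero_add, pow_one, Ideal.span_insert] at this
  obtain ⟨c', hc'⟩ := exists_eq_mul_form hN (q ∘ₗ φ) g hym hzm hy' hz' (fun p hp hne => by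
    obtain ⟨a, ha, t, ht⟩ := hφ p hp hne
    exact ⟨a, ha, t, by
      show Ideal.Quotient.mk X (φ t) = _
      rw [ht]
      rfl⟩)
  obtain ⟨c, rfl⟩ := Ideal.Quotient.mk_surjective c'
  let μ : R →ₗ[A] R := LinearMap.mulLeft A (algebraMap A R x ^ (r + 1))
  have hμ : Function.Injective μ := hx.pow (r + 1)
  let H₂ : F →ₗ[A] R := H - LinearMap.mulLeft A c ∘ₗ φ ∘ₗ π
  have hrange : ∀ v, H₂ v ∈ LinearMap.range μ := fun v => by
    have h1 : Ideal.Quotient.mk X (H v) = Ideal.Quotient.mk X c * Ideal.Quotient.mk X (φ (π v)) :=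
      (hg v).symm.trans (hc' (π v))
    rw [← map_mul, Ideal.Quotient.eq, Ideal.mem_span_singleton] at h1
    obtain ⟨d, hd⟩ := h1
    exact ⟨d, hd.symm⟩
  refine ⟨(LinearEquiv.ofInjective μ hμ).symm.toLinearMap ∘ₗ H₂.codRestrict _ hrange, fun k => hμ ?_⟩
  show μ ((LinearEquiv.ofInjective μ hμ).symm ⟨H₂ k, hrange k⟩) = μ (h k)
  refine (congrArg Subtype.val ((LinearEquiv.ofInjective μ hμ).apply_symm_apply ⟨H₂ k, hrange k⟩)).trans ?_
  show H k - c * φ (π k) = algebraMap A R x ^ (r + 1) * h k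
  rw [LinearMap.mem_ker.1 k.2, map_zero, mul_zero, sub_zero, hH]

end Forms

section Lift

variable {J : Ideal A} (hgr : ∀ n : ℕ, Module.Free (A ⧸ J) (↥(J ^ n) ⧸ (J • (⊤ : Submodule A ↥(J ^ n)))))
variable {x y z : A} (hxm : x ∈ maximalIdeal A) (hym : y ∈ maximalIdeal A) (hzm : z ∈ maximalIdeal A)
  (hx : IsSMulRegular (A ⧸ J) (algebraMap A (A ⧸ J) x))
  (hy : RegMod (Ideal.span {algebraMap A (A ⧸ J) x}) (algebraMap A (A ⧸ J) y))
  (hz : RegMod (Ideal.span {algebraMap A (A ⧸ J) x, algebraMap A (A ⧸ J) y}) (algebraMap A (A ⧸ J) z))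

include hgr hxm hym hzm hx hy hz

theorem exists_lift_pow {F : Type u} [AddCommGroup F] [Module A F] [Module.Projective A F] [Module.Finite A F]
    (π : F →ₗ[A] N) (hπ : Function.Surjective π) (hN : LocPrinc (A := A) N) (φ₁ : N →ₗ[A] A ⧸ J)
    (hφ : ∀ p : Ideal A, p.IsPrime → p ≠ maximalIdeal A → ∃ a ∉ p, ∃ t, φ₁ t = algebraMap A (A ⧸ J) a)
    (k : ℕ) : ∃ W : F →ₗ[A] A, (∀ v ∈ LinearMap.ker π, W v ∈ J ^ (k + 1)) ∧
      ∀ v, Ideal.Quotient.mk J (W v) = φ₁ (π v) := by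
  classical
  induction k with
  | zero =>
    obtain ⟨W, hW⟩ := Module.projective_lifting_property (Ideal.Quotient.mkₐ A J).toLinearMap (φ₁ ∘ₗ π)
      Ideal.Quotient.mk_surjective
    refine ⟨W, fun v hv => ?_, fun v => LinearMap.congr_fun hW v⟩
    rw [zero_add, pow_one, ← Ideal.Quotient.eq_zero_iff_mem]
    exact (LinearMap.congr_fun hW v).trans (by rw [LinearMap.comp_apply, LinearMap.mem_ker.1 hv, map_zero])
  | succ k ih =>
    obtain ⟨W, hW, hW'⟩ := ih
    let P : Submodule A ↥(J ^ (k + 1)) := J • ⊤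
    let h : LinearMap.ker π →ₗ[A] ↥(J ^ (k + 1)) ⧸ P :=
      P.mkQ ∘ₗ (W ∘ₗ (LinearMap.ker π).subtype).codRestrict _ fun v => hW v v.2
    haveI := hgr (k + 1)
    haveI : Module.Finite A (↥(J ^ (k + 1)) ⧸ P) :=
      Module.Finite.of_surjective P.mkQ P.mkQ_surjective
    haveI : Module.Finite (A ⧸ J) (↥(J ^ (k + 1)) ⧸ P) :=
      Module.Finite.of_restrictScalars_finite A _ _
    let b := Module.Free.chooseBasis (A ⧸ J) (↥(J ^ (k + 1)) ⧸ P)
    choose H hH using fun i =>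
      exists_extend π hπ hN φ₁ hxm hym hzm hx hy hz hφ ((b.coord i).restrictScalars A ∘ₗ h)
    let H' : F →ₗ[A] ↥(J ^ (k + 1)) ⧸ P :=
      (b.equivFun.symm.toLinearMap.restrictScalars A) ∘ₗ LinearMap.pi H
    have hH' : ∀ v : LinearMap.ker π, H' v = h v := fun v => by
      refine (LinearEquiv.symm_apply_eq _).2 (funext fun i => ?_)
      rw [Module.Basis.equivFun_apply]
      exact hH i v
    obtain ⟨D, hD⟩ := Module.projective_lifting_property P.mkQ H' P.mkQ_surjective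
    refine ⟨W - (J ^ (k + 1)).subtype ∘ₗ D, fun v hv => ?_, fun v => ?_⟩
    · have h1 : (⟨W v, hW v hv⟩ : ↥(J ^ (k + 1))) - D v ∈ P := by
        rw [← Submodule.Quotient.eq]
        exact (hH' ⟨v, hv⟩).symm.trans (LinearMap.congr_fun hD v).symm
      rw [Submodule.mem_smul_top_iff, smul_eq_mul, ← pow_succ'] at h1
      exact h1
    · rw [LinearMap.sub_apply, map_sub, hW', sub_eq_self, Ideal.Quotient.eq_zero_iff_mem]
      exact Ideal.pow_le_self (Nat.succ_ne_zero k) (D v).2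

/-- A trivialisation modulo `J` lifts. -/
theorem exists_hom_lift [Module.Finite A N] (hN : LocPrinc (A := A) N) (φ₁ : N →ₗ[A] A ⧸ J)
    (hφ : ∀ p : Ideal A, p.IsPrime → p ≠ maximalIdeal A → ∃ a ∉ p, ∃ t, φ₁ t = algebraMap A (A ⧸ J) a) :
    ∃ φ : N →ₗ[A] A, ∀ t, Ideal.Quotient.mk J (φ t) = φ₁ t := by
  classical
  obtain ⟨n, π, hπ⟩ := Module.Finite.exists_fin' A N
  obtain ⟨m, r, hr⟩ := Submodule.fg_iff_exists_fin_generating_family.1
    (IsNoetherian.noetherian (LinearMap.ker π))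
  let M : ((Fin n → A) →ₗ[A] A) →ₗ[A] (Fin m → A) := LinearMap.pi fun j => LinearMap.applyₗ (r j)
  obtain ⟨c, hc⟩ := Ideal.exists_pow_inf_eq_pow_smul J (LinearMap.range M)
  obtain ⟨W, hW, hW'⟩ := exists_lift_pow hgr hxm hym hzm hx hy hz π hπ hN φ₁ hφ c
  have h1 : M W ∈ J ^ (c + 1) • (⊤ : Submodule A (Fin m → A)) ⊓ LinearMap.range M := by
    refine ⟨?_, W, rfl⟩
    show M W ∈ J ^ (c + 1) • (⊤ : Submodule A (Fin m → A))
    rw [pi_eq_sum_univ (M W)]
    exact Submodule.sum_mem _ fun j _ => Submodule.smul_mem_smul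
      (hW (r j) (hr ▸ Submodule.subset_span ⟨j, rfl⟩)) trivial
  rw [hc (c + 1) (Nat.le_succ c), Nat.add_sub_cancel_left, pow_one] at h1
  have h2 : M W ∈ J • LinearMap.range M := Submodule.smul_mono le_rfl inf_le_right h1
  rw [LinearMap.range_eq_map, ← Submodule.map_smul''] at h2
  obtain ⟨D, hD, hDW⟩ := h2
  have hDJ : ∀ v, D v ∈ J := fun v => by
    have h3 := Submodule.mem_map_of_mem (f := (LinearMap.applyₗ v : ((Fin n → A) →ₗ[A] A) →ₗ[A] A)) hD
    rw [Submodule.map_smul''] at h3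
    have h4 := Submodule.smul_mono (le_refl J) (le_top : _ ≤ (⊤ : Submodule A A)) h3
    rwa [smul_eq_mul, Ideal.mul_top] at h4
  have hker : LinearMap.ker π ≤ LinearMap.ker (W - D) := by
    rw [← hr, Submodule.span_le]
    rintro _ ⟨j, rfl⟩
    show W (r j) - D (r j) = 0
    exact sub_eq_zero.2 (congrFun hDW j).symm
  refine ⟨(LinearMap.ker π).liftQ (W - D) hker ∘ₗ (π.quotKerEquivOfSurjective hπ).symm.toLinearMap,
    fun t => ?_⟩
  obtain ⟨v, rfl⟩ := hπ t
  have : (π.quotKerEquivOfSurjective hπ).symm (π v) = Submodule.Quotient.mk v :=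
    (LinearEquiv.symm_apply_eq _).2 rfl
  show Ideal.Quotient.mk J
    ((LinearMap.ker π).liftQ (W - D) hker ((π.quotKerEquivOfSurjective hπ).symm (π v))) = _
  rw [this, Submodule.liftQ_apply, LinearMap.sub_apply, map_sub, hW',
    Ideal.Quotient.eq_zero_iff_mem.2 (hDJ v), sub_zero]

/-- A module invertible off the closed point and trivial modulo `J` is trivial off the closed point. -/
theorem exists_bijAway_of_trivial_mod [Module.Finite A N] (hJ : J ≠ ⊤) (hN : LocPrinc (A := A) N)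
    (φ₁ : N →ₗ[A] A ⧸ J)
    (hφ : ∀ p : Ideal A, p.IsPrime → p ≠ maximalIdeal A → ∃ a ∉ p, ∃ t, φ₁ t = algebraMap A (A ⧸ J) a) :
    ∃ φ : N →ₗ[A] A, ∀ p : Ideal A, p.IsPrime → p ≠ maximalIdeal A → ∃ g ∉ p, BijAway φ g := by
  classical
  obtain ⟨φ, hφ₁⟩ := exists_hom_lift hgr hxm hym hzm hx hy hz hN φ₁ hφ
  obtain ⟨n, π, hπ⟩ := Module.Finite.exists_fin' A N
  haveI : Module.Finite A (N →ₗ[A] A) :=
    Module.Finite.of_injective (LinearMap.lcomp A A π) fun a b hab => LinearMap.ext fun t => by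
      obtain ⟨v, rfl⟩ := hπ t
      exact LinearMap.congr_fun hab v
  choose c hc using fun ψ : N →ₗ[A] A =>
    exists_eq_mul_form hN φ₁ ((Ideal.Quotient.mkₐ A J).toLinearMap ∘ₗ ψ) hxm hym hx hy hφ
  have huniq : ∀ d : A ⧸ J, (∀ t, d * φ₁ t = 0) → d = 0 := fun d hd => by
    obtain ⟨a, t, ht⟩ : ∃ (a : ℕ) (t : N), φ₁ t = algebraMap A (A ⧸ J) (x ^ a) := by
      obtain ⟨a, t, ht⟩ := exists_pow_mem ((LinearMap.range φ₁).comap (Algebra.linearMap A (A ⧸ J)))
        (fun p hp hne hle => by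
          obtain ⟨a, ha, t, ht⟩ := hφ p hp hne
          exact ha (hle (show Algebra.linearMap A (A ⧸ J) a ∈ LinearMap.range φ₁ from ⟨t, ht⟩))) hxm
      exact ⟨a, t, ht⟩
    refine (hx.pow a).right_eq_zero_of_smul ?_
    rw [smul_eq_mul, mul_comm, ← map_pow, ← ht, hd]
  let φ₁' : (N →ₗ[A] A) →ₗ[A] A ⧸ J :=
    { toFun := c
      map_add' := fun ψ χ => sub_eq_zero.1 (huniq _ fun t => by
        rw [sub_mul, add_mul, ← hc, ← hc, ← hc, LinearMap.comp_add, LinearMap.add_apply, sub_self])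
      map_smul' := fun a ψ => sub_eq_zero.1 (huniq _ fun t => by
        rw [sub_mul, RingHom.id_apply, smul_mul_assoc, ← hc, ← hc, LinearMap.comp_smul,
          LinearMap.smul_apply, sub_self]) }
  have h1 : φ₁' φ = 1 := sub_eq_zero.1 (huniq _ fun t => by
    show (c φ - 1) * φ₁ t = 0
    rw [sub_mul, one_mul, ← hc φ t, sub_eq_zero]
    exact hφ₁ t)
  obtain ⟨Φ, hΦ⟩ := exists_hom_lift hgr hxm hym hzm hx hy hz hN.dual φ₁' fun p hp _ =>
    ⟨1, fun h => hp.ne_top ((Ideal.eq_top_iff_one p).2 h), φ, by rw [h1, map_one]⟩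
  have hu : IsUnit (Φ φ) := by
    by_contra hnu
    have h2 : Φ φ - 1 ∈ maximalIdeal A := le_maximalIdeal hJ (Ideal.Quotient.eq.1 (by rw [hΦ φ, h1, map_one]))
    have h3 := Ideal.sub_mem _ ((mem_maximalIdeal _).2 hnu) h2
    rw [sub_sub_cancel] at h3
    exact (maximalIdeal.isMaximal A).ne_top ((Ideal.eq_top_iff_one _).2 h3)
  refine ⟨φ, fun p hp hne => ?_⟩
  obtain ⟨e, lam, s, hs, hse, hlam⟩ := hN p hp hne
  have hfe : φ e ∉ p := fun hmem => by
    have h2 : s • φ = φ e • lam := LinearMap.ext fun t => by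
      rw [LinearMap.smul_apply, LinearMap.smul_apply, ← map_smul, ← hlam t, map_smul, smul_eq_mul,
        smul_eq_mul, mul_comm]
    have h3 : s * Φ φ = φ e * Φ lam := by
      rw [← smul_eq_mul, ← map_smul, h2, map_smul, smul_eq_mul]
    exact hs ((hp.mem_or_mem (h3 ▸ Ideal.mul_mem_right _ _ hmem)).resolve_right fun h =>
      hp.ne_top (Ideal.eq_top_of_isUnit_mem p h hu))
  refine ⟨s * φ e, fun h => (hp.mem_or_mem h).elim hs hfe, ⟨fun t ht => ⟨1, ?_⟩, fun a => ⟨1, (s * a) • e, ?_⟩⟩⟩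
  · have h2 : lam t * φ e = 0 := by
      rw [← smul_eq_mul, ← map_smul, hlam, map_smul, ht, smul_zero]
    rw [pow_one, mul_comm, mul_smul, ← hlam t, smul_smul, mul_comm, h2, zero_smul]
  · rw [map_smul, pow_one, smul_eq_mul, smul_eq_mul]
    ring

end Lift

end Groth.Agent.ParaF26
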