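import Mathlib

/-!
Locally principal ideals containing a monic polynomial over a local ring.
-/

set_option autoImplicit false
set_option linter.style.haveILetI false

open Polynomial IsLocalRing

noncomputable section

namespace Groth.Agent.ParaF26

variable {C : Type*} [CommRing C] [IsLocalRing C]

theorem monic_eq_of_span_eq {χ χ' : C[X]} (h : χ.Monic) (h' : χ'.Monic)
    (he : Ideal.span {χ} = Ideal.span {χ'}) : χ = χ' := by
  have h1 : χ ∣ χ' := Ideal.mem_span_singleton.1 (he.ge (Ideal.mem_span_singleton_self χ'))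
  have h2 : χ' ∣ χ := Ideal.mem_span_singleton.1 (he.le (Ideal.mem_span_singleton_self χ))
  obtain ⟨c, hc⟩ := h1
  have hcm : c.Monic := h.of_mul_monic_left (hc ▸ h')
  obtain ⟨d, hd⟩ := h2
  have hdm : d.Monic := h'.of_mul_monic_left (hd ▸ h)
  have hdeg := congrArg Polynomial.natDegree hd
  rw [h'.natDegree_mul hdm, hc, h.natDegree_mul hcm] at hdeg
  have hc0 : c = 1 := hcm.natDegree_eq_zero.1 (by omega)
  rw [hc, hc0, mul_one]

/-- A monic lift of the generator modulo the maximal ideal inside `J`. -/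
theorem exists_monic_lift (J : Ideal C[X]) {F : C[X]} (hFm : F.Monic) (hF : F ∈ J) :
    ∃ χ ∈ J, χ.Monic ∧ J.map (mapRingHom (residue C)) = Ideal.span {χ.map (residue C)} := by
  classical
  let ρ := mapRingHom (residue C)
  have hρ : Function.Surjective ρ := Polynomial.map_surjective _ residue_surjective
  obtain ⟨χ₀, hχ₀⟩ := IsPrincipalIdealRing.principal (J.map ρ)
  have hχ₀' : J.map ρ = Ideal.span {χ₀} := hχ₀
  have hne : χ₀ ≠ 0 := by
    rintro rfl
    rw [Ideal.span_singleton_zero] at hχ₀'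
    exact (hFm.map (residue C)).ne_zero ((Submodule.mem_bot _).1 (hχ₀'.le (Ideal.mem_map_of_mem ρ hF)))
  let χ₁ := normalize χ₀
  have hχ₁m : χ₁.Monic := monic_normalize hne
  have hspan : J.map ρ = Ideal.span {χ₁} := by
    rw [hχ₀', Ideal.span_singleton_eq_span_singleton]
    exact (normalize_associated χ₀).symm
  let d := χ₁.natDegree
  -- the quotient is spanned by the powers below `d`
  haveI : Module.Finite C (C[X] ⧸ Ideal.span {F}) := hFm.finite_quotient
  haveI : Module.Finite C (C[X] ⧸ J) := Module.Finite.of_surjective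
    ((Ideal.Quotient.factorₐ C ((Ideal.span_singleton_le_iff_mem J).2 hF)).toLinearMap)
    (Ideal.Quotient.factor_surjective ((Ideal.span_singleton_le_iff_mem J).2 hF))
  let q : C[X] →ₗ[C] C[X] ⧸ J := (Ideal.Quotient.mkₐ C J).toLinearMap
  have hq : Function.Surjective q := Ideal.Quotient.mk_surjective
  have hall : (⊤ : Submodule C (C[X] ⧸ J)) ≤ (Polynomial.degreeLT C d).map q := by
    refine Submodule.le_of_le_smul_of_le_jacobson_bot Module.Finite.fg_top
      (IsLocalRing.maximalIdeal_le_jacobson _) fun z _ => ?_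
    obtain ⟨p, rfl⟩ := hq z
    -- divide by the monic generator modulo the maximal ideal
    obtain ⟨r, hr⟩ := hρ (ρ p %ₘ χ₁)
    have hdeg : (ρ p %ₘ χ₁) ∈ Polynomial.degreeLT (ResidueField C) d := by
      rw [Polynomial.mem_degreeLT]
      exact (degree_modByMonic_lt _ hχ₁m).trans_le degree_le_natDegree
    obtain ⟨r, hrd, hr⟩ : ∃ r ∈ Polynomial.degreeLT C d, ρ r = ρ p %ₘ χ₁ := by
      obtain ⟨r, hr, hrd⟩ := Polynomial.mem_lifts_and_degree_eq (R := C) (f := residue C)
        (p := ρ p %ₘ χ₁) ⟨r, hr⟩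
      exact ⟨r, by rw [Polynomial.mem_degreeLT, hrd]; exact Polynomial.mem_degreeLT.1 hdeg, hr⟩
    obtain ⟨j, hj, hje⟩ := (Ideal.mem_map_iff_of_surjective ρ hρ).1
      (show ρ p - ρ r ∈ J.map ρ by
        rw [hspan, hr, Ideal.mem_span_singleton]
        exact ⟨ρ p /ₘ χ₁, by nth_rewrite 1 [← Polynomial.modByMonic_add_div (ρ p) χ₁]; ring⟩)
    refine Submodule.mem_sup.2 ⟨q r, ⟨r, hrd, rfl⟩, q (p - r - j), ?_, ?_⟩
    · have hk : p - r - j ∈ RingHom.ker ρ := by rw [RingHom.mem_ker, map_sub, map_sub, hje, sub_self]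
      rw [show ρ = mapRingHom (residue C) from rfl, Polynomial.ker_mapRingHom, IsLocalRing.ker_residue] at hk
      have hk' : p - r - j ∈ maximalIdeal C • (⊤ : Submodule C C[X]) := by
        rw [Ideal.smul_top_eq_map]
        exact hk
      have h2 := Submodule.mem_map_of_mem (f := q) hk'
      rw [Submodule.map_smul''] at h2
      exact Submodule.smul_mono le_rfl le_top h2
    · rw [← map_add, show r + (p - r - j) = p - j by ring]
      show Ideal.Quotient.mk J (p - j) = Ideal.Quotient.mk J p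
      rw [map_sub, Ideal.Quotient.eq_zero_iff_mem.2 hj, sub_zero]
  obtain ⟨r, hrd, hr⟩ := hall (show q (X ^ d) ∈ ⊤ from trivial)
  let χ := X ^ d - r
  have hrdeg : r.degree < (d : WithBot ℕ) := Polynomial.mem_degreeLT.1 hrd
  have hχm : χ.Monic := monic_X_pow_sub hrdeg
  have hχJ : χ ∈ J := Ideal.Quotient.eq.1 hr.symm
  refine ⟨χ, hχJ, hχm, ?_⟩
  have hdvd : χ₁ ∣ χ.map (residue C) :=
    Ideal.mem_span_singleton.1 (hspan.le (Ideal.mem_map_of_mem ρ hχJ))
  have heq : χ.map (residue C) = χ₁ := by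
    refine Polynomial.eq_of_monic_of_dvd_of_natDegree_le hχ₁m (hχm.map _) hdvd ?_
    rw [hχm.natDegree_map, natDegree_eq_of_degree_eq_some (n := d)]
    exact (degree_sub_eq_left_of_degree_lt (by rwa [degree_X_pow])).trans (degree_X_pow d)
  rw [heq]
  exact hspan

/-- A locally principal ideal of `C[X]` containing a monic polynomial is generated by a monic one. -/
theorem exists_monic_generator (J : Ideal C[X]) {F : C[X]} (hFm : F.Monic) (hF : F ∈ J)
    (hloc : ∀ x : Ideal C[X], x.IsMaximal → F ∈ x →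
      ∃ h ∈ J, ∃ s ∉ x, ∀ j ∈ J, s * j ∈ Ideal.span {h}) :
    ∃ χ : C[X], χ.Monic ∧ J = Ideal.span {χ} := by
  classical
  obtain ⟨χ, hχJ, hχm, hspan⟩ := exists_monic_lift J hFm hF
  refine ⟨χ, hχm, le_antisymm ?_ ((Ideal.span_singleton_le_iff_mem J).2 hχJ)⟩
  let ρ := mapRingHom (residue C)
  let I : Ideal C[X] := (Ideal.span {χ}).colon (J : Set C[X])
  suffices hI : I = ⊤ by
    intro j hj
    simpa using Submodule.mem_colon.1 (hI.ge (show (1 : C[X]) ∈ (⊤ : Ideal C[X]) from trivial)) j hj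
  by_contra hne
  obtain ⟨x, hx, hIx⟩ := Ideal.exists_le_maximal I hne
  have hχx : χ ∈ x := hIx (Submodule.mem_colon.2 fun j _ => Ideal.mul_mem_right _ _ (Ideal.mem_span_singleton_self χ))
  -- such a point lies over the closed point
  have hm : ∀ a ∈ maximalIdeal C, Polynomial.C a ∈ x := by
    haveI : Module.Finite C (C[X] ⧸ Ideal.span {χ}) := hχm.finite_quotient
    haveI : Algebra.IsIntegral C (C[X] ⧸ Ideal.span {χ}) := Algebra.IsIntegral.of_finite C _
    let x' := x.map (Ideal.Quotient.mk (Ideal.span {χ}))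
    have hle : RingHom.ker (Ideal.Quotient.mk (Ideal.span {χ})) ≤ x := by
      rw [Ideal.mk_ker]; exact (Ideal.span_singleton_le_iff_mem x).2 hχx
    haveI : x'.IsMaximal := (Ideal.map_eq_top_or_isMaximal_of_surjective _
      Ideal.Quotient.mk_surjective hx).resolve_left fun h => hx.ne_top (by
        have := congrArg (Ideal.comap (Ideal.Quotient.mk (Ideal.span {χ}))) h
        rwa [Ideal.comap_map_of_surjective _ Ideal.Quotient.mk_surjective, ← RingHom.ker_eq_comap_bot,
          sup_eq_left.2 hle, Ideal.comap_top] at this)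
    have hmax := Ideal.isMaximal_comap_of_isIntegral_of_isMaximal (R := C) x'
    intro a ha
    rw [← IsLocalRing.eq_maximalIdeal hmax, Ideal.mem_comap] at ha
    obtain ⟨y, hy, hye⟩ := (Ideal.mem_map_iff_of_surjective _ Ideal.Quotient.mk_surjective).1 ha
    have : Polynomial.C a - y ∈ x := hle (by
      rw [RingHom.mem_ker, map_sub, hye]
      exact sub_self _)
    simpa using x.add_mem this hy
  have hker : RingHom.ker ρ ≤ x := by
    rw [show ρ = mapRingHom (residue C) from rfl, Polynomial.ker_mapRingHom, IsLocalRing.ker_residue,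
      Ideal.map_le_iff_le_comap]
    exact hm
  have hlift : ∀ z, (∃ y ∈ x, ρ y = ρ z) → z ∈ x := fun z ⟨y, hy, he⟩ => by
    have : z - y ∈ x := hker (by rw [RingHom.mem_ker, map_sub, he, sub_self])
    simpa using x.add_mem this hy
  have hFx : F ∈ x := by
    obtain ⟨g, hg⟩ := Ideal.mem_span_singleton.1 (hspan.le (Ideal.mem_map_of_mem ρ hF))
    obtain ⟨g', rfl⟩ := Polynomial.map_surjective _ residue_surjective g
    exact hlift F ⟨χ * g', x.mul_mem_right _ hχx, by rw [map_mul]; exact hg.symm⟩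
  obtain ⟨h, hh, s, hs, hsj⟩ := hloc x hx hFx
  obtain ⟨u, hu⟩ := Ideal.mem_span_singleton.1 (hsj χ hχJ)
  obtain ⟨w, hw⟩ := Ideal.mem_span_singleton.1 (hspan.le (Ideal.mem_map_of_mem ρ hh))
  have e1 : ρ s = w * ρ u := by
    refine mul_left_cancel₀ (hχm.map (residue C)).ne_zero ?_
    have e2 := congrArg ρ hu
    rw [map_mul, map_mul, hw] at e2
    calc χ.map (residue C) * ρ s = ρ s * ρ χ := mul_comm _ _
      _ = χ.map (residue C) * w * ρ u := e2
      _ = _ := mul_assoc _ _ _
  obtain ⟨w', rfl⟩ := Polynomial.map_surjective _ residue_surjective w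
  have hux : u ∉ x := fun hux => hs (hlift s ⟨w' * u, x.mul_mem_left _ hux, by rw [map_mul]; exact e1.symm⟩)
  have hmem : u * s ∈ I := Submodule.mem_colon.2 fun j hj => by
    obtain ⟨g, hg⟩ := Ideal.mem_span_singleton.1 (hsj j hj)
    refine Ideal.mem_span_singleton.2 ⟨s * g, ?_⟩
    rw [smul_eq_mul, mul_assoc, hg, ← mul_assoc, mul_comm u h, ← hu]
    ring
  exact (hx.isPrime.mem_or_mem (hIx hmem)).elim hux hs

end Groth.Agent.ParaF26
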