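import Groth.Agent.ParaF26.MonicGen
import Groth.Agent.ParaF26.Descent

/-!
Monic generators of ideals of `C[X]` invertible off the closed fibre, `C` of depth two.
-/

set_option autoImplicit false
set_option linter.style.haveILetI false
set_option backward.isDefEq.respectTransparency.types false

universe u

open CategoryTheory AlgebraicGeometry Opposite TopologicalSpace Polynomial IsLocalRing

noncomputable section

namespace Groth.Agent.ParaF26

open Var76.LineBundle Var76.ZeroScheme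

variable {C : Type u} [CommRing C] [IsNoetherianRing C] [IsLocalRing C]

/-- Hartogs for the punctured spectrum, on families of local fractions. -/
theorem exists_global_of_fractions (hd : (2 : ℕ∞) ≤ LocCoh.depth C C)
    (f : ∀ q : PrimeSpectrum C, Localization.AtPrime q.asIdeal)
    (hloc : ∀ q : PrimeSpectrum C, q.asIdeal ≠ maximalIdeal C → ∃ s, s ∉ q.asIdeal ∧ ∃ (a t : C),
      ∀ q' : PrimeSpectrum C, s ∉ q'.asIdeal → q'.asIdeal ≠ maximalIdeal C →
        t ∉ q'.asIdeal ∧ algebraMap C _ t * f q' = algebraMap C _ a) :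
    ∃ c : C, ∀ q : PrimeSpectrum C, q.asIdeal ≠ maximalIdeal C → algebraMap C _ c = f q := by
  let R := CommRingCat.of C
  let U : (Spec R).Opens := FEt.puncturedSpec C
  have hne : ∀ q : U, (q.1 : PrimeSpectrum C).asIdeal ≠ maximalIdeal C := fun q e => q.2 (PrimeSpectrum.ext e)
  let z : Γ(tilde (ModuleCat.of R R), U) := ⟨fun q => (show LocalizedModule (q.1 : PrimeSpectrum C).asIdeal.primeCompl C from f q.1), by
    intro q
    obtain ⟨s, hs, a, t, h⟩ := hloc q.1 (hne q)
    refine ⟨U ⊓ PrimeSpectrum.basicOpen s, ⟨q.2, hs⟩, homOfLE inf_le_left, a, t, fun q' => ?_⟩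
    obtain ⟨ht, he⟩ := h q'.1 q'.2.2 (hne ⟨q'.1, q'.2.1⟩)
    refine ⟨ht, ?_⟩
    change (show LocalizedModule (q'.1 : PrimeSpectrum C).asIdeal.primeCompl C from f q'.1) = _
    have e : f q'.1 = IsLocalization.mk' _ a (⟨t, ht⟩ : (q'.1 : PrimeSpectrum C).asIdeal.primeCompl) := by
      rw [IsLocalization.eq_mk'_iff_mul_eq, mul_comm]
      exact he
    rw [e, ← Localization.mk_eq_mk']
    rfl⟩
  have hbij : Function.Bijective ((Spec R).presheaf.map (homOfLE (le_top : U ≤ ⊤)).op) := by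
    have h1 : ∀ (T : (Spec R).Opens) (hT : T ≤ ⊤), (⊤ ⊓ U = T) →
        Function.Bijective ((Spec R).presheaf.map (homOfLE hT).op) := by
      rintro T hT rfl
      exact resBij_punctured_iff.2 hd ⊤
    exact h1 _ _ (top_inf_eq _)
  obtain ⟨w, hw⟩ := hbij.2 (z : Γ(Spec R, U))
  obtain ⟨c, rfl⟩ := (ConcreteCategory.bijective_of_isIso (Scheme.ΓSpecIso R).inv).2 w
  refine ⟨c, fun q hq => ?_⟩
  have h2 := congrArg (fun y : Γ(tilde (ModuleCat.of R R), U) => y.1 ⟨q, fun e => hq (by
    have e' : q = closedPoint C := e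
    rw [e']; rfl)⟩) hw
  exact h2

variable (J : Ideal C[X])

/-- A monic generator at a prime of the base. -/
def IsGen (p : PrimeSpectrum C) (χ : (Localization.AtPrime p.asIdeal)[X]) : Prop :=
  χ.Monic ∧ J.map (mapRingHom (algebraMap C (Localization.AtPrime p.asIdeal))) = Ideal.span {χ}

theorem exists_isGen {F : C[X]} (hFm : F.Monic) (hF : F ∈ J) (p : PrimeSpectrum C)
    (hp : p.asIdeal ≠ maximalIdeal C)
    (hloc : ∀ x : Ideal C[X], x.IsPrime → F ∈ x → x.comap Polynomial.C ≠ maximalIdeal C →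
      ∃ h ∈ J, ∃ s ∉ x, ∀ j ∈ J, s * j ∈ Ideal.span {h}) :
    ∃ χ, IsGen J p χ := by
  let φ := mapRingHom (algebraMap C (Localization.AtPrime p.asIdeal))
  letI : Algebra C[X] (Localization.AtPrime p.asIdeal)[X] := φ.toAlgebra
  haveI : IsLocalization (p.asIdeal.primeCompl.map (Polynomial.C : C →+* C[X]))
      (Localization.AtPrime p.asIdeal)[X] := Polynomial.isLocalization p.asIdeal.primeCompl _
  obtain ⟨χ, hχ, he⟩ := exists_monic_generator (J.map φ) (hFm.map _) (Ideal.mem_map_of_mem φ hF) fun x hx hFx => by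
    haveI := hx
    have hx0 : (x.comap φ).IsPrime := hx.isPrime.comap φ
    have hne : (x.comap φ).comap Polynomial.C ≠ maximalIdeal C := by
      intro e
      have h1 : x.comap (Polynomial.C : Localization.AtPrime p.asIdeal →+* _) ≤
          maximalIdeal (Localization.AtPrime p.asIdeal) :=
        le_maximalIdeal (hx.isPrime.comap Polynomial.C).ne_top
      refine hp (le_antisymm (le_maximalIdeal p.2.ne_top) ?_)
      rw [← e]
      intro a ha
      have h2 : Polynomial.C (algebraMap C (Localization.AtPrime p.asIdeal) a) ∈ x := by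
        have h3 : φ (Polynomial.C a) ∈ x := ha
        rwa [show φ (Polynomial.C a) = Polynomial.C (algebraMap C _ a) from Polynomial.map_C _] at h3
      exact (IsLocalization.AtPrime.under_maximalIdeal (Localization.AtPrime p.asIdeal) p.asIdeal).le (h1 h2)
    obtain ⟨h, hh, s, hs, hsj⟩ := hloc _ hx0 hFx hne
    refine ⟨φ h, Ideal.mem_map_of_mem φ hh, φ s, hs, fun j hj => ?_⟩
    obtain ⟨⟨⟨j₀, hj₀⟩, u⟩, hju⟩ :=
      (IsLocalization.mem_map_algebraMap_iff (p.asIdeal.primeCompl.map (Polynomial.C : C →+* C[X]))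
        (Localization.AtPrime p.asIdeal)[X]).1 hj
    have hu : IsUnit (φ u) := IsLocalization.map_units (Localization.AtPrime p.asIdeal)[X] u
    rw [← Ideal.mul_unit_mem_iff_mem _ hu, mul_assoc, show j * φ u = φ j₀ from hju, ← map_mul]
    obtain ⟨g, hg⟩ := Ideal.mem_span_singleton.1 (hsj j₀ hj₀)
    exact Ideal.mem_span_singleton.2 ⟨φ g, by rw [← map_mul, hg]⟩
  exact ⟨χ, hχ, he⟩

omit [IsLocalRing C] in
theorem isGen_unique {p : PrimeSpectrum C} {χ χ' : (Localization.AtPrime p.asIdeal)[X]}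
    (h : IsGen J p χ) (h' : IsGen J p χ') : χ = χ' :=
  monic_eq_of_span_eq h.1 h'.1 (h.2.symm.trans h'.2)

theorem natDegree_le {F : C[X]} (hFm : F.Monic) (hF : F ∈ J) {p : PrimeSpectrum C}
    {χ : (Localization.AtPrime p.asIdeal)[X]} (h : IsGen J p χ) : χ.natDegree ≤ F.natDegree := by
  obtain ⟨g, hg⟩ := Ideal.mem_span_singleton.1
    (h.2.le (Ideal.mem_map_of_mem (mapRingHom (algebraMap C (Localization.AtPrime p.asIdeal))) hF))
  have hg' : F.map (algebraMap C (Localization.AtPrime p.asIdeal)) = χ * g := hg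
  rw [← hFm.natDegree_map (algebraMap C (Localization.AtPrime p.asIdeal)), hg',
    h.1.natDegree_mul (h.1.of_mul_monic_left (hg' ▸ hFm.map _))]
  exact Nat.le_add_right _ _

theorem exists_spread {p : PrimeSpectrum C} {χ : (Localization.AtPrime p.asIdeal)[X]} (h : IsGen J p χ) :
    ∃ (s t : C) (Q : C[X]), s ∉ p.asIdeal ∧ ∀ q : PrimeSpectrum C, s ∉ q.asIdeal → t ∉ q.asIdeal ∧
      ∃ χ' : (Localization.AtPrime q.asIdeal)[X], χ'.natDegree = χ.natDegree ∧ IsGen J q χ' ∧
        ∀ i, algebraMap C _ t * χ'.coeff i = algebraMap C _ (Q.coeff i) := by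
  classical
  let φ := mapRingHom (algebraMap C (Localization.AtPrime p.asIdeal))
  letI : Algebra C[X] (Localization.AtPrime p.asIdeal)[X] := φ.toAlgebra
  let S := p.asIdeal.primeCompl.map (Polynomial.C : C →+* C[X])
  haveI : IsLocalization S (Localization.AtPrime p.asIdeal)[X] := Polynomial.isLocalization p.asIdeal.primeCompl _
  obtain ⟨⟨Q, ⟨_, t, ht, rfl⟩⟩, hQ⟩ := IsLocalization.surj S χ
  have hQ' : χ * φ (Polynomial.C t) = φ Q := hQ
  have hφC : φ (Polynomial.C t) = Polynomial.C (algebraMap C _ t) := Polynomial.map_C _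
  have htu : IsUnit (φ (Polynomial.C t)) :=
    IsLocalization.map_units (Localization.AtPrime p.asIdeal)[X] (⟨Polynomial.C t, t, ht, rfl⟩ : S)
  have hspan : J.map φ = Ideal.span {φ Q} := by
    rw [← hQ', Ideal.span_singleton_mul_right_unit htu]
    exact h.2
  -- the top coefficient and the vanishing above it
  have hcoeff : ∀ i, ∃ a, a ∉ p.asIdeal ∧ (i = χ.natDegree → a * Q.coeff i = a * t) ∧
      (χ.natDegree < i → a * Q.coeff i = 0) := by
    intro i
    have e : algebraMap C (Localization.AtPrime p.asIdeal) (Q.coeff i) =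
        χ.coeff i * algebraMap C _ t := by
      rw [← Polynomial.coeff_mul_C, ← hφC, hQ']
      exact (Polynomial.coeff_map _ _).symm
    rcases eq_or_ne i χ.natDegree with rfl | hi
    · rw [h.1.coeff_natDegree, one_mul, IsLocalization.eq_iff_exists p.asIdeal.primeCompl] at e
      obtain ⟨a, ha⟩ := e
      exact ⟨a, a.2, fun _ => ha, fun hlt => absurd hlt (lt_irrefl _)⟩
    · by_cases hlt : χ.natDegree < i
      · rw [Polynomial.coeff_eq_zero_of_natDegree_lt hlt, zero_mul,
          IsLocalization.map_eq_zero_iff p.asIdeal.primeCompl] at e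
        obtain ⟨a, ha⟩ := e
        exact ⟨a, a.2, fun hi' => absurd hi' hi, fun _ => ha⟩
      · exact ⟨1, fun h1 => p.2.ne_top ((Ideal.eq_top_iff_one _).2 h1), fun hi' => absurd hi' hi,
          fun hlt' => absurd hlt' hlt⟩
  choose a ha ha1 ha2 using hcoeff
  obtain ⟨G, hG⟩ := (inferInstance : IsNoetherianRing C[X]).noetherian J
  have hgen : ∀ j ∈ G, ∃ b, b ∉ p.asIdeal ∧ Polynomial.C b * j ∈ Ideal.span {Q} := by
    intro j hj
    have h1 : φ j ∈ (Ideal.span {Q}).map φ := by
      rw [Ideal.map_span, Set.image_singleton, ← hspan]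
      exact Ideal.mem_map_of_mem φ (hG ▸ Submodule.subset_span hj)
    obtain ⟨_, ⟨b, hb, rfl⟩, hbj⟩ := (IsLocalization.algebraMap_mem_map_algebraMap_iff S
      (Localization.AtPrime p.asIdeal)[X] (Ideal.span {Q}) j).1 h1
    exact ⟨b, hb, hbj⟩
  choose! b hb hbj using hgen
  obtain ⟨b₀, hb₀, hb₀Q⟩ : ∃ b₀, b₀ ∉ p.asIdeal ∧ Polynomial.C b₀ * Q ∈ J := by
    obtain ⟨_, ⟨b, hb, rfl⟩, hbj⟩ := (IsLocalization.algebraMap_mem_map_algebraMap_iff S
      (Localization.AtPrime p.asIdeal)[X] J Q).1 (hspan.ge (Ideal.mem_span_singleton_self _))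
    exact ⟨b, hb, hbj⟩
  let T := Finset.range (max Q.natDegree χ.natDegree + 1)
  refine ⟨t * (∏ i ∈ T, a i) * (∏ j ∈ G, b j) * b₀, t, Q, ?_, fun q hq => ?_⟩
  · intro hmem
    rcases p.2.mem_or_mem hmem with h1 | h1
    · rcases p.2.mem_or_mem h1 with h2 | h2
      · rcases p.2.mem_or_mem h2 with h3 | h3
        · exact ht h3
        · obtain ⟨i, -, hi⟩ := p.2.prod_mem_iff.1 h3; exact ha i hi
      · obtain ⟨i, hiG, hi⟩ := p.2.prod_mem_iff.1 h2; exact hb i hiG hi
    · exact hb₀ h1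
  have hu : ∀ z : C, z ∣ t * (∏ i ∈ T, a i) * (∏ j ∈ G, b j) * b₀ →
      IsUnit (algebraMap C (Localization.AtPrime q.asIdeal) z) := fun z hz =>
    IsLocalization.map_units _ (⟨z, fun hzq => hq (Ideal.mem_of_dvd _ hz hzq)⟩ : q.asIdeal.primeCompl)
  have htd : t ∣ t * (∏ i ∈ T, a i) * (∏ j ∈ G, b j) * b₀ :=
    dvd_mul_of_dvd_left (dvd_mul_of_dvd_left (dvd_mul_right _ _) _) _
  have had : ∀ i ∈ T, a i ∣ t * (∏ i ∈ T, a i) * (∏ j ∈ G, b j) * b₀ := fun i hi =>
    dvd_mul_of_dvd_left (dvd_mul_of_dvd_left (dvd_mul_of_dvd_right (Finset.dvd_prod_of_mem a hi) _) _) _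
  obtain ⟨v, hv⟩ := (hu t htd).exists_right_inv
  let ψ := mapRingHom (algebraMap C (Localization.AtPrime q.asIdeal))
  let χ' := ψ Q * Polynomial.C v
  have hc : ∀ i, χ'.coeff i = algebraMap C _ (Q.coeff i) * v := fun i => by
    rw [Polynomial.coeff_mul_C]
    exact congrArg (· * v) (Polynomial.coeff_map _ _)
  have htop : χ'.coeff χ.natDegree = 1 := by
    rw [hc]
    have hi : χ.natDegree ∈ T := Finset.mem_range.2 (Nat.lt_succ_of_le (le_max_right _ _))
    have h1 := congrArg (algebraMap C (Localization.AtPrime q.asIdeal)) (ha1 _ rfl)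
    rw [map_mul, map_mul] at h1
    rw [(hu _ (had _ hi)).mul_left_cancel h1, hv]
  have habove : ∀ i, χ.natDegree < i → χ'.coeff i = 0 := fun i hi => by
    rw [hc]
    by_cases hiT : i ∈ T
    · have h1 := congrArg (algebraMap C (Localization.AtPrime q.asIdeal)) (ha2 i hi)
      rw [map_mul, map_zero] at h1
      rw [(hu _ (had _ hiT)).mul_right_eq_zero.1 h1, zero_mul]
    · rw [Polynomial.coeff_eq_zero_of_natDegree_lt, map_zero, zero_mul]
      by_contra hcon
      exact hiT (Finset.mem_range.2 (Nat.lt_succ_of_le ((not_lt.1 hcon).trans (le_max_left _ _))))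
  have hdeg : χ'.natDegree = χ.natDegree := le_antisymm
    (Polynomial.natDegree_le_iff_coeff_eq_zero.2 habove)
    (Polynomial.le_natDegree_of_ne_zero (by rw [htop]; exact one_ne_zero))
  have hmon : χ'.Monic := by
    rw [Polynomial.Monic, Polynomial.leadingCoeff, hdeg, htop]
  have hunit : IsUnit (Polynomial.C v : (Localization.AtPrime q.asIdeal)[X]) :=
    Polynomial.isUnit_C.2 (IsUnit.of_mul_eq_one _ (by rw [mul_comm]; exact hv))
  refine ⟨fun hh => hq (Ideal.mem_of_dvd _ htd hh), χ', hdeg, ⟨hmon, ?_⟩, fun i => ?_⟩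
  · rw [Ideal.span_singleton_mul_right_unit hunit]
    refine le_antisymm ?_ ?_
    · refine (congrArg (Ideal.map ψ) hG.symm).le.trans ?_
      refine (Ideal.map_span ψ (G : Set C[X])).le.trans (Ideal.span_le.2 ?_)
      rintro _ ⟨j, hj, rfl⟩
      obtain ⟨g, hg⟩ := Ideal.mem_span_singleton.1 (hbj j hj)
      have hbu : IsUnit (ψ (Polynomial.C (b j))) := by
        rw [show ψ (Polynomial.C (b j)) = Polynomial.C _ from Polynomial.map_C _]
        exact Polynomial.isUnit_C.2 (hu _ (dvd_mul_of_dvd_left (dvd_mul_of_dvd_right (Finset.dvd_prod_of_mem b hj) _) _))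
      refine (Ideal.unit_mul_mem_iff_mem _ hbu).1 (Ideal.mem_span_singleton.2 ⟨ψ g, ?_⟩)
      rw [← map_mul, ← map_mul, hg]
    · rw [Ideal.span_singleton_le_iff_mem]
      have hbu : IsUnit (ψ (Polynomial.C b₀)) := by
        rw [show ψ (Polynomial.C b₀) = Polynomial.C _ from Polynomial.map_C _]
        exact Polynomial.isUnit_C.2 (hu _ (dvd_mul_left _ _))
      refine (Ideal.unit_mul_mem_iff_mem _ hbu).1 ?_
      rw [← map_mul]
      exact Ideal.mem_map_of_mem ψ hb₀Q
  · rw [hc, mul_comm, mul_assoc, mul_comm v, hv, mul_one]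

/-- The monic generator over the whole punctured spectrum. -/
theorem exists_global_monic (hd : (2 : ℕ∞) ≤ LocCoh.depth C C) {F : C[X]} (hFm : F.Monic) (hF : F ∈ J)
    (hloc : ∀ x : Ideal C[X], x.IsPrime → F ∈ x → x.comap Polynomial.C ≠ maximalIdeal C →
      ∃ h ∈ J, ∃ s ∉ x, ∀ j ∈ J, s * j ∈ Ideal.span {h}) :
    ∃ χ : C[X], χ.Monic ∧ ∀ p : PrimeSpectrum C, p.asIdeal ≠ maximalIdeal C →
      IsGen J p (χ.map (algebraMap C (Localization.AtPrime p.asIdeal))) := by
  classical
  choose! χ hχ using fun p hp => exists_isGen J hFm hF p hp hloc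
  let D := F.natDegree
  have key : ∀ p : PrimeSpectrum C, p.asIdeal ≠ maximalIdeal C → ∃ (s t : C) (Q : C[X]), s ∉ p.asIdeal ∧
      ∀ q : PrimeSpectrum C, s ∉ q.asIdeal → q.asIdeal ≠ maximalIdeal C →
        (χ q).natDegree = (χ p).natDegree ∧ t ∉ q.asIdeal ∧
          ∀ i, algebraMap C _ t * (χ q).coeff i = algebraMap C _ (Q.coeff i) := by
    intro p hp
    obtain ⟨s, t, Q, hs, h⟩ := exists_spread J (hχ p hp)
    refine ⟨s, t, Q, hs, fun q hq hq' => ?_⟩
    obtain ⟨ht, χ', hdeg, hgen, hco⟩ := h q hq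
    rw [isGen_unique J (hχ q hq') hgen]
    exact ⟨hdeg, ht, hco⟩
  -- the coefficients
  have hcoef : ∀ i, ∃ c : C, ∀ q : PrimeSpectrum C, q.asIdeal ≠ maximalIdeal C →
      algebraMap C (Localization.AtPrime q.asIdeal) c = (χ q).coeff i := fun i =>
    exists_global_of_fractions hd (fun q => (χ q).coeff i) fun p hp => by
      obtain ⟨s, t, Q, hs, h⟩ := key p hp
      exact ⟨s, hs, Q.coeff i, t, fun q hq hq' => ⟨(h q hq hq').2.1, (h q hq hq').2.2 i⟩⟩
  choose c hc using hcoef
  obtain ⟨a₁, ha₁, hreg⟩ := exists_mem_regular hd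
  obtain ⟨p₀, hp₀⟩ : ∃ p₀ : PrimeSpectrum C, p₀.asIdeal ≠ maximalIdeal C := by
    obtain ⟨P, hP⟩ := Ideal.nonempty_minimalPrimes (I := (⊥ : Ideal C)) bot_ne_top
    refine ⟨⟨P, hP.1.1⟩, fun (e : P = maximalIdeal C) => ?_⟩
    haveI := hP.1.1
    obtain ⟨n, hn⟩ := exists_pow_le (⊥ : Ideal C) fun q hq hle => hq
      (le_antisymm (le_maximalIdeal q.2.ne_top) (e ▸ hP.2 ⟨q.2, bot_le⟩ (e ▸ le_maximalIdeal q.2.ne_top)))
    have h0 : a₁ ^ n = 0 := (Submodule.mem_bot C).1 (hn (Ideal.pow_mem_pow ha₁ n))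
    exact one_ne_zero ((hreg.pow n) (show a₁ ^ n • (1 : C) = a₁ ^ n • 0 by simp [h0]))
  have hinj : ∀ a b : C, (∀ q : PrimeSpectrum C, q.asIdeal ≠ maximalIdeal C →
      algebraMap C (Localization.AtPrime q.asIdeal) a = algebraMap C _ b) → a = b := by
    intro a b hab
    let I : Ideal C := LinearMap.ker (LinearMap.toSpanSingleton C C (a - b))
    obtain ⟨n, hn⟩ := exists_pow_le I fun q hq hle => by
      obtain ⟨s, hs⟩ := (IsLocalization.eq_iff_exists q.asIdeal.primeCompl _).1 (hab q hq)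
      exact s.2 (hle (show (s : C) * (a - b) = 0 by rw [mul_sub, hs, sub_self]))
    have h0 : a₁ ^ n * (a - b) = 0 := hn (Ideal.pow_mem_pow ha₁ n)
    exact sub_eq_zero.1 ((hreg.pow n) (show a₁ ^ n • (a - b) = a₁ ^ n • 0 by simpa using h0))
  let d := (χ p₀).natDegree
  -- the degree is constant
  have hdeg : ∀ q : PrimeSpectrum C, q.asIdeal ≠ maximalIdeal C → (χ q).natDegree = d := by
    obtain ⟨e, he⟩ := exists_global_of_fractions hd
      (fun q => if (χ q).natDegree = d then (1 : Localization.AtPrime q.asIdeal) else 0) fun p hp => by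
      obtain ⟨s, t, Q, hs, h⟩ := key p hp
      refine ⟨s, hs, if (χ p).natDegree = d then 1 else 0, 1, fun q hq hq' =>
        ⟨fun h1 => q.2.ne_top ((Ideal.eq_top_iff_one _).2 h1), ?_⟩⟩
      rw [map_one, one_mul, (h q hq hq').1, apply_ite (algebraMap C (Localization.AtPrime q.asIdeal)), map_one,
        map_zero]
    have hee : e * e = e := hinj _ _ fun q hq => by
      rw [map_mul, he q hq]
      split_ifs <;> simp
    have hcases : IsUnit e ∨ IsUnit (1 - e) := IsLocalRing.isUnit_or_isUnit_one_sub_self e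
    have he1 : e = 1 := by
      rcases hcases with hu | hu
      · exact hu.mul_left_cancel (by rw [hee, mul_one])
      · have h0 : e = 0 := hu.mul_left_cancel (by rw [sub_mul, one_mul, hee, sub_self, mul_zero])
        have := he p₀ hp₀
        rw [h0, map_zero, if_pos rfl] at this
        exact absurd this zero_ne_one
    intro q hq
    by_contra hne
    have := he q hq
    rw [he1, map_one, if_neg hne] at this
    exact one_ne_zero this
  refine ⟨X ^ d + ∑ i ∈ Finset.range d, Polynomial.C (c i) * X ^ i, ?_, fun q hq => ?_⟩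
  · exact monic_X_pow_add ((Polynomial.degree_sum_le _ _).trans_lt ((Finset.sup_lt_iff (WithBot.bot_lt_coe d)).2 fun i hi =>
      (degree_C_mul_X_pow_le i (c i)).trans_lt (WithBot.coe_lt_coe.2 (Finset.mem_range.1 hi))))
  · suffices h : (X ^ d + ∑ i ∈ Finset.range d, Polynomial.C (c i) * X ^ i).map
        (algebraMap C (Localization.AtPrime q.asIdeal)) = χ q by
      rw [h]; exact hχ q hq
    rw [(hχ q hq).1.as_sum, hdeg q hq]
    simp only [Polynomial.map_add, Polynomial.map_pow, Polynomial.map_X, Polynomial.map_sum, Polynomial.map_mul,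
      Polynomial.map_C, hc _ q hq]

end Groth.Agent.ParaF26
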