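import Groth.Agent.ParaF26.Generator
import Groth.Agent.ParaF26.PowerSeriesDepth
import Groth.Agent.Cohen12.Deform
import Groth.Agent.Cohen12.Section
import Groth.Agent.Cohen12.RegularFS
import Groth.Agent.EGA4H10.CompleteJ2

/-!
A complete formally smooth algebra with residue extension of finite radicial multiplicity becomes,
after a finite free extension, a power series ring over a flat algebra with zero-dimensional closed fibre.
-/

set_option autoImplicit false
set_option linter.style.haveILetI false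
set_option backward.isDefEq.respectTransparency.types false

universe u

open IsLocalRing TensorProduct

attribute [local instance] Algebra.TensorProduct.rightAlgebra

noncomputable section

namespace Groth.Agent.ParaF26

/-- Base change of adic formal smoothness along a local algebra `S` whose maximal ideal comes from `A`. -/
theorem fsAdic_baseChange_right {A B S : Type u} [CommRing A] [IsLocalRing A] [CommRing B] [IsLocalRing B]
    [CommRing S] [IsLocalRing S] [Algebra A B] [Algebra A S]
    (hS : (maximalIdeal A).map (algebraMap A S) = maximalIdeal S) (𝔟 : Ideal (B ⊗[A] S))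
    (h𝔟 : (maximalIdeal B).map (algebraMap B (B ⊗[A] S)) ≤ 𝔟)
    (hfs : EGA41.IsFormallySmoothAdic A (maximalIdeal A) B (maximalIdeal B)) :
    EGA41.IsFormallySmoothAdic S (maximalIdeal S) (B ⊗[A] S) 𝔟 := by
  intro D _ _ J hJ ⟨k, hk⟩ u ⟨l, hl⟩
  letI : Algebra A D := ((algebraMap S D).comp (algebraMap A S)).toAlgebra
  haveI : IsScalarTower A S D := IsScalarTower.of_algebraMap_eq fun _ => rfl
  let ι : B →ₐ[A] B ⊗[A] S := Algebra.TensorProduct.includeLeft
  have hkA : (maximalIdeal A ^ k).map (algebraMap A D) = ⊥ := by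
    rw [IsScalarTower.algebraMap_eq A S D, ← Ideal.map_map, Ideal.map_pow, hS, hk]
  obtain ⟨v, hv⟩ := hfs D J hJ ⟨k, hkA⟩ ((u.restrictScalars A).comp ι) ⟨l, fun x hx => hl _ (by
    refine Ideal.pow_right_mono h𝔟 l ?_
    rw [← Ideal.map_pow]
    exact Ideal.mem_map_of_mem _ hx)⟩
  let w : B ⊗[A] S →ₐ[A] D :=
    Algebra.TensorProduct.lift v (IsScalarTower.toAlgHom A S D) fun _ _ => Commute.all _ _
  have hw : ∀ (b : B) (s : S), w (b ⊗ₜ[A] s) = v b * algebraMap S D s := fun b s =>
    Algebra.TensorProduct.lift_tmul _ _ _ b s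
  refine ⟨{ w.toRingHom with
    commutes' := fun s => by
      show w ((1 : B) ⊗ₜ[A] s) = _
      rw [hw, map_one, one_mul] }, AlgHom.ext fun z => ?_⟩
  show Ideal.Quotient.mk J (w z) = u z
  induction z using TensorProduct.induction_on with
  | zero => simp
  | tmul b s =>
    rw [hw, map_mul, show Ideal.Quotient.mk J (v b) = u (ι b) from AlgHom.congr_fun hv b,
      show Ideal.Quotient.mk J (algebraMap S D s) = u (algebraMap S (B ⊗[A] S) s) from (u.commutes s).symm,
      ← map_mul]
    congr 1
    show (b ⊗ₜ[A] (1 : S)) * ((1 : B) ⊗ₜ[A] s) = _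
    rw [Algebra.TensorProduct.tmul_mul_tmul, mul_one, one_mul]
  | add a b ha hb => rw [map_add, map_add, map_add, ha, hb]

/-- A tensor product of fields, one purely inseparable, is local with nilpotent maximal ideal. -/
theorem isMaximal_nilradical_tensor (k k' K : Type u) [Field k] [Field k'] [Field K] [Algebra k k'] [Algebra k K]
    [IsPurelyInseparable k k'] : (nilradical (k' ⊗[k] K)).IsMaximal := by
  haveI : Nontrivial (k' ⊗[k] K) :=
    (Algebra.TensorProduct.includeRight_injective (A := k') (B := K) (RingHom.injective _)).nontrivial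
  rw [Ideal.isMaximal_iff]
  refine ⟨fun h => not_isNilpotent_one (mem_nilradical.1 h),
    fun J z hJ hz hzJ => ?_⟩
  obtain ⟨n, hn, y, hy⟩ := IsPurelyInseparable.exists_pow_mem_range_tensorProduct
    (Algebra.TensorProduct.comm k k' K z)
  have hy' : (1 : k') ⊗ₜ[k] y = z ^ n := by
    have h := congrArg (Algebra.TensorProduct.comm k k' K).symm hy
    rw [map_pow, AlgEquiv.symm_apply_apply] at h
    rw [← h, Algebra.TensorProduct.algebraMap_apply, Algebra.algebraMap_self, RingHom.id_apply,
      Algebra.TensorProduct.comm_symm_tmul]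
  rcases eq_or_ne y 0 with rfl | hy0
  · rw [TensorProduct.tmul_zero] at hy'
    exact absurd (mem_nilradical.2 ⟨n, hy'.symm⟩) hz
  · have hu : IsUnit (z ^ n) := by
      rw [← hy']
      exact hy0.isUnit.map (Algebra.TensorProduct.includeRight : K →ₐ[k] k' ⊗[k] K)
    exact (Ideal.eq_top_of_isUnit_mem _ hzJ ((isUnit_pow_iff hn.ne').1 hu)) ▸ Submodule.mem_top

/-- The residual map of a finite free radicial extension. -/
theorem exists_residual_map {A B S : Type u} [CommRing A] [IsLocalRing A] [CommRing B] [IsLocalRing B]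
    [Algebra A B] [IsLocalHom (algebraMap A B)] [CommRing S] [IsLocalRing S] [Algebra A S]
    (hS : (maximalIdeal A).map (algebraMap A S) = maximalIdeal S)
    (k' : Type u) [Field k'] [Algebra A k'] [Algebra (ResidueField A) k']
    [IsScalarTower A (ResidueField A) k']
    (ψ : S →ₐ[A] k') (hψ : Function.Surjective ψ) (hψk : RingHom.ker ψ = maximalIdeal S) :
    ∃ ε : B ⊗[A] S →+* k' ⊗[ResidueField A] ResidueField B,
      Function.Surjective ε ∧ (∀ s : S, ε ((1 : B) ⊗ₜ[A] s) = ψ s ⊗ₜ 1) ∧
      RingHom.ker ε ≤ (maximalIdeal B).map (algebraMap B (B ⊗[A] S)) ∧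
      ∀ b ∈ maximalIdeal B, ε (b ⊗ₜ[A] 1) = 0 := by
  let k := ResidueField A
  let K := ResidueField B
  let T := k' ⊗[k] K
  let i₁ : K →ₐ[k] T := Algebra.TensorProduct.includeRight
  let i₂ : k' →ₐ[k] T := Algebra.TensorProduct.includeLeft
  let f₁ : B →ₐ[A] T := (i₁.restrictScalars A).comp (IsScalarTower.toAlgHom A B K)
  let f₂ : S →ₐ[A] T := (i₂.restrictScalars A).comp ψ
  let ε : B ⊗[A] S →ₐ[A] T := Algebra.TensorProduct.lift f₁ f₂ fun _ _ => Commute.all _ _
  have hε : ∀ (b : B) (s : S), ε (b ⊗ₜ[A] s) = ψ s ⊗ₜ[k] residue B b := fun b s => by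
    rw [Algebra.TensorProduct.lift_tmul]
    show ((1 : k') ⊗ₜ[k] residue B b) * (ψ s ⊗ₜ[k] (1 : K)) = _
    rw [Algebra.TensorProduct.tmul_mul_tmul, one_mul, mul_one]
  have hsurj : Function.Surjective ε := by
    intro t
    induction t using TensorProduct.induction_on with
    | zero => exact ⟨0, map_zero _⟩
    | tmul z y =>
      obtain ⟨s, rfl⟩ := hψ z
      obtain ⟨b, rfl⟩ := residue_surjective y
      exact ⟨b ⊗ₜ[A] s, hε b s⟩
    | add a b ha hb =>
      obtain ⟨x, rfl⟩ := ha
      obtain ⟨y, rfl⟩ := hb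
      exact ⟨x + y, map_add _ _ _⟩
  let M := (maximalIdeal B).map (algebraMap B (B ⊗[A] S))
  let W := (B ⊗[A] S) ⧸ M
  let α : K →+* W := Ideal.Quotient.lift (maximalIdeal B)
    ((Ideal.Quotient.mk M).comp (algebraMap B (B ⊗[A] S)))
    fun b hb => Ideal.Quotient.eq_zero_iff_mem.2 (Ideal.mem_map_of_mem _ hb)
  let j : S →+* B ⊗[A] S := algebraMap S (B ⊗[A] S)
  have hmS : RingHom.ker ψ.toRingHom ≤ RingHom.ker ((Ideal.Quotient.mk M).comp j) := by
    refine (le_of_eq (show RingHom.ker ψ.toRingHom = maximalIdeal S from hψk)).trans ?_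
    rw [← hS, Ideal.map_le_iff_le_comap]
    intro a ha
    refine Ideal.Quotient.eq_zero_iff_mem.2 ?_
    show algebraMap S (B ⊗[A] S) (algebraMap A S a) ∈ M
    rw [← IsScalarTower.algebraMap_apply, IsScalarTower.algebraMap_apply A B (B ⊗[A] S)]
    exact Ideal.mem_map_of_mem _ (map_nonunit _ a ha)
  let β : k' →+* W := (ψ.toRingHom).liftOfSurjective hψ ⟨(Ideal.Quotient.mk M).comp j, hmS⟩
  have hβ : ∀ s, β (ψ s) = Ideal.Quotient.mk M (j s) := fun s =>
    RingHom.liftOfSurjective_comp_apply ψ.toRingHom hψ ⟨_, hmS⟩ s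
  letI : Algebra k W := (α.comp (algebraMap k K)).toAlgebra
  let α' : K →ₐ[k] W := { α with commutes' := fun _ => rfl }
  let β' : k' →ₐ[k] W :=
    { β with
      commutes' := fun c => by
        obtain ⟨a, rfl⟩ := residue_surjective c
        show β (algebraMap k k' (residue A a)) = α (algebraMap k K (residue A a))
        rw [show algebraMap k k' (residue A a) = ψ (algebraMap A S a) from
          (ψ.commutes a).trans (IsScalarTower.algebraMap_apply A k k' a) |>.symm, hβ]
        show Ideal.Quotient.mk M (j (algebraMap A S a)) = Ideal.Quotient.mk M (algebraMap B _ (algebraMap A B a))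
        rw [← IsScalarTower.algebraMap_apply, ← IsScalarTower.algebraMap_apply] }
  let θ : T →ₐ[k] W := Algebra.TensorProduct.lift β' α' fun _ _ => Commute.all _ _
  have hθ : ∀ x, θ (ε x) = Ideal.Quotient.mk M x := fun x => by
    induction x using TensorProduct.induction_on with
    | zero => simp
    | tmul b s =>
      rw [hε, Algebra.TensorProduct.lift_tmul]
      show β (ψ s) * α (residue B b) = _
      rw [hβ]
      show Ideal.Quotient.mk M ((1 : B) ⊗ₜ[A] s) * Ideal.Quotient.mk M (b ⊗ₜ[A] (1 : S)) = _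
      rw [← map_mul, Algebra.TensorProduct.tmul_mul_tmul, one_mul, mul_one]
    | add a b ha hb => simp [map_add, ha, hb]
  refine ⟨ε.toRingHom, hsurj, fun s => ?_, fun x hx => ?_, fun b hb => ?_⟩
  · exact (hε 1 s).trans (by rw [map_one])
  · rw [← Ideal.Quotient.eq_zero_iff_mem, ← hθ, show ε x = 0 from hx, map_zero]
  · show ε (b ⊗ₜ[A] 1) = 0
    rw [hε, (residue_eq_zero_iff b).2 hb, TensorProduct.tmul_zero]

/-- After a finite free extension a complete formally smooth algebra of finite radicial multiplicity is a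
power series ring over a flat algebra whose closed fibre is a field. -/
theorem exists_powerSeries_model {A B : Type u} [CommRing A] [IsLocalRing A] [IsNoetherianRing A] [CommRing B]
    [IsLocalRing B] [IsNoetherianRing B] [IsAdicComplete (maximalIdeal B) B] [Algebra A B]
    [IsLocalHom (algebraMap A B)]
    (hfs : EGA41.IsFormallySmoothAdic A (maximalIdeal A) B (maximalIdeal B))
    (k' : Type u) [Field k'] [Algebra (ResidueField A) k'] [Module.Finite (ResidueField A) k']
    [IsPurelyInseparable (ResidueField A) k']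
    (hk' : Algebra.IsGeometricallyReduced k'
      ((k' ⊗[ResidueField A] ResidueField B) ⧸ nilradical (k' ⊗[ResidueField A] ResidueField B))) :
    ∃ (C : Type u) (_ : CommRing C) (_ : IsLocalRing C) (_ : IsNoetherianRing C)
      (_ : IsAdicComplete (maximalIdeal C) C) (g : A →+* C) (n : ℕ) (φ : B →+* MvPowerSeries (Fin n) C),
      g.Flat ∧ IsLocalHom φ ∧ φ.Flat ∧ (maximalIdeal A).map g = maximalIdeal C ∧
        ∀ a, φ (algebraMap A B a) = MvPowerSeries.C (g a) := by
  classical
  letI : Algebra A k' := ((algebraMap (ResidueField A) k').comp (residue A)).toAlgebra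
  haveI : IsScalarTower A (ResidueField A) k' := IsScalarTower.of_algebraMap_eq fun _ => rfl
  obtain ⟨S, _, _, _, _, _, hS, ψ, hψ, hψk⟩ := exists_local_split (A := A) k'
  haveI : IsNoetherianRing S := Algebra.FiniteType.isNoetherianRing A S
  let B' := B ⊗[A] S
  haveI : IsNoetherianRing B' := Algebra.FiniteType.isNoetherianRing B B'
  obtain ⟨ε₀, hε₀, hε₀S, hker, hε₀B⟩ := exists_residual_map (B := B) hS k' ψ hψ hψk
  let T := k' ⊗[ResidueField A] ResidueField B
  haveI hTmax : (nilradical T).IsMaximal := isMaximal_nilradical_tensor _ _ _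
  letI : Field (T ⧸ nilradical T) := Ideal.Quotient.field _
  let ε : B' →+* T ⧸ nilradical T := (Ideal.Quotient.mk _).comp ε₀
  have hεs : Function.Surjective ε := Ideal.Quotient.mk_surjective.comp hε₀
  let N := RingHom.ker ε
  haveI hN : N.IsMaximal := RingHom.ker_isMaximal_of_surjective ε hεs
  let M := (maximalIdeal B).map (algebraMap B B')
  have huniq : ∀ P : Ideal B', P.IsMaximal → P = N := fun P hP => by
    haveI := hP
    have hMP : M ≤ P := Ideal.map_le_iff_le_comap.2
      (eq_maximalIdeal (Ideal.isMaximal_comap_of_isIntegral_of_isMaximal (R := B) P)).ge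
    refine (hN.eq_of_le hP.ne_top fun x hx => ?_).symm
    obtain ⟨m, hm⟩ := mem_nilradical.1 (Ideal.Quotient.eq_zero_iff_mem.1 (RingHom.mem_ker.1 hx))
    exact hP.isPrime.mem_of_pow_mem m (hMP (hker (by rw [RingHom.mem_ker, map_pow, hm])))
  haveI : IsLocalRing B' := IsLocalRing.of_unique_max_ideal ⟨N, hN, huniq⟩
  have hNmax : maximalIdeal B' = N := huniq _ (maximalIdeal.isMaximal B')
  have hMmax : M ≤ maximalIdeal B' := hNmax.ge.trans' fun x hx => by
    refine (Ideal.map_le_iff_le_comap (I := maximalIdeal B) (K := N)).2 (fun b hb => ?_) hx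
    show Ideal.Quotient.mk _ (ε₀ (b ⊗ₜ[A] 1)) = 0
    rw [hε₀B b hb, map_zero]
  haveI : IsLocalHom (algebraMap B B') := ((local_hom_TFAE (algebraMap B B')).out 2 0).mp hMmax
  haveI : IsLocalHom (algebraMap A B') := by
    rw [IsScalarTower.algebraMap_eq A B B']
    infer_instance
  let mS := (maximalIdeal S).map (algebraMap S B')
  have hmS : mS = (maximalIdeal A).map (algebraMap A B') := by
    show (maximalIdeal S).map (algebraMap S B') = _
    rw [← hS, Ideal.map_map, ← IsScalarTower.algebraMap_eq]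
  have hmSle : mS ≤ maximalIdeal B' := hmS ▸ Ideal.map_le_iff_le_comap.2 fun a ha => map_nonunit _ a ha
  haveI : IsLocalHom (algebraMap S B') := ((local_hom_TFAE (algebraMap S B')).out 2 0).mp hmSle
  haveI : IsAdicComplete (maximalIdeal B') B' := EGA4H10.isAdicComplete_maximalIdeal_of_finite B B'
  have hfs' : EGA41.IsFormallySmoothAdic S (maximalIdeal S) B' (maximalIdeal B') :=
    fsAdic_baseChange_right hS _ hMmax hfs
  -- the closed fibre
  let F := B' ⧸ mS
  haveI : Nontrivial F := Ideal.Quotient.nontrivial_iff.2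
    (ne_top_of_le_ne_top (maximalIdeal.isMaximal B').ne_top hmSle)
  haveI : IsLocalRing F := .of_surjective' (Ideal.Quotient.mk mS) Ideal.Quotient.mk_surjective
  haveI : IsAdicComplete (maximalIdeal F) F := Cohen12.isAdicComplete_quotient _
  haveI : IsLocalHom (Ideal.Quotient.mk mS) := IsLocalHom.of_surjective _ Ideal.Quotient.mk_surjective
  have hmF : (maximalIdeal B').map (Ideal.Quotient.mk mS) = maximalIdeal F :=
    IsLocalRing.map_maximalIdeal_of_surjective (R := B') (S := F) (Ideal.Quotient.mk mS) Ideal.Quotient.mk_surjective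
  have hFS := Cohen12.formallySmooth_fibre (A := S) (A₀ := S) (B := B') (B₀ := B') (fun x => ⟨x, rfl⟩)
    (RingHom.id B') Function.surjective_id
    (by rw [(RingHom.injective_iff_ker_eq_bot (RingHom.id B')).mp Function.injective_id]; exact bot_le)
    (fun a => rfl) hfs'
  letI : Field (S ⧸ maximalIdeal S) := Ideal.Quotient.field _
  haveI : IsRegularLocalRing F :=
    (Cohen12.regular_of_formallySmooth_field (k := S ⧸ maximalIdeal S) (A := F) (hmF ▸ hFS)).1
  -- the residue field of the fibre
  have hεm : mS ≤ RingHom.ker ε := Ideal.map_le_iff_le_comap.2 fun s hs => by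
    show Ideal.Quotient.mk _ (ε₀ ((1 : B) ⊗ₜ[A] s)) = 0
    rw [hε₀S, show ψ s = 0 from RingHom.mem_ker.1 (hψk.ge hs), TensorProduct.zero_tmul, map_zero]
  let εF : F →+* T ⧸ nilradical T := Ideal.Quotient.lift mS ε hεm
  have hεF : Function.Surjective εF := Ideal.Quotient.lift_surjective_of_surjective _ hεm hεs
  have hkerF : RingHom.ker εF = maximalIdeal F :=
    IsLocalRing.eq_maximalIdeal (RingHom.ker_isMaximal_of_surjective εF hεF)
  let k₁ := S ⧸ maximalIdeal S
  let r : k₁ →+* k' := Ideal.Quotient.lift (maximalIdeal S) ψ.toRingHom fun s hs => RingHom.mem_ker.1 (hψk.ge hs)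
  have hr : Function.Surjective r := Ideal.Quotient.lift_surjective_of_surjective _ _ hψ
  letI : Algebra k₁ k' := r.toAlgebra
  haveI : Algebra.FormallySmooth k₁ k' :=
    Algebra.FormallySmooth.of_equiv (AlgEquiv.ofBijective (Algebra.ofId k₁ k') ⟨r.injective, hr⟩)
  haveI : Algebra.FormallySmooth k' (T ⧸ nilradical T) := Sep12.formallySmooth_iff_isGeometricallyReduced.mpr hk'
  haveI : Algebra.FormallySmooth k₁ (T ⧸ nilradical T) := Algebra.FormallySmooth.comp k₁ k' _
  let K' := ResidueField F
  let eK : K' ≃+* T ⧸ nilradical T :=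
    (Ideal.quotEquivOfEq hkerF.symm).trans (RingHom.quotientKerEquivOfSurjective hεF)
  let eK' : (T ⧸ nilradical T) ≃ₐ[k₁] K' :=
    (AlgEquiv.ofRingEquiv (f := eK) fun c => by
      obtain ⟨s, rfl⟩ := Ideal.Quotient.mk_surjective c
      show ε (algebraMap S B' s) = _
      show Ideal.Quotient.mk _ (ε₀ ((1 : B) ⊗ₜ[A] s)) = _
      rw [hε₀S]
      rfl).symm
  haveI : Algebra.FormallySmooth k₁ K' := Algebra.FormallySmooth.of_equiv eK'
  obtain ⟨σ, hσ⟩ := Cohen12.exists_lift_complete (maximalIdeal F) (AlgHom.id k₁ K')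
  obtain ⟨n, E, hE, hEC⟩ := CAlg5.exists_powerSeries_bijective σ.toRingHom fun x => ⟨x, hσ x⟩
  -- the lift of the residue field
  haveI : IsAdicComplete (maximalIdeal K') K' := by
    rw [maximalIdeal_eq_bot]
    infer_instance
  obtain ⟨C, _, _, hCN, f, π, hf, hc, hflat, hπ, hπker, hπf⟩ :=
    Cohen12.exists_flat_lift (A := S) K' (algebraMap k₁ K')
  haveI := hf
  letI : Algebra S C := f.toAlgebra
  haveI : Module.Flat S C := hflat
  haveI hπmax : (RingHom.ker π).IsMaximal := RingHom.ker_isMaximal_of_surjective π hπ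
  have hmC : maximalIdeal C = (maximalIdeal S).map f := by rw [← hπker]; exact (eq_maximalIdeal hπmax).symm
  let R := MvPowerSeries (Fin n) C
  haveI : IsNoetherianRing R := Cohen12.isNoetherianRing_powerSeries C n
  haveI : IsAdicComplete (maximalIdeal R) R := Cohen12.isAdicComplete_powerSeries n
  haveI : Module.Flat C R := flat_mvPowerSeries C n
  haveI : Module.Flat S R := Module.Flat.trans S C R
  haveI : IsScalarTower S C R := inferInstance
  have hSR : ∀ s, algebraMap S R s = MvPowerSeries.C (f s) := fun s => IsScalarTower.algebraMap_apply S C R s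
  have hmSR : (maximalIdeal S).map (algebraMap S R) =
      (maximalIdeal C).map (MvPowerSeries.C : C →+* R) := by
    rw [hmC, Ideal.map_map, IsScalarTower.algebraMap_eq S C R]
    rfl
  haveI : IsLocalHom (algebraMap S R) := ((local_hom_TFAE (algebraMap S R)).out 2 0).mp (by
    rw [hmSR, Cohen12.maximalIdeal_powerSeries]
    exact le_sup_left)
  -- the projection to the fibre
  let πR : R →+* F := E.comp (MvPowerSeries.map π)
  have hπR : Function.Surjective πR := fun y => by
    obtain ⟨z, rfl⟩ := hE.2 y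
    choose c hc using fun d => hπ (MvPowerSeries.coeff d z)
    refine ⟨(c : R), congrArg E (MvPowerSeries.ext fun d => ?_)⟩
    rw [MvPowerSeries.coeff_map]
    exact hc d
  have hkerR : RingHom.ker πR = (maximalIdeal S).map (algebraMap S R) := by
    rw [hmSR]
    refine le_antisymm (fun z hz => C_mem_map_iff _ z fun d => ?_) (Ideal.map_le_iff_le_comap.2 fun c hc => ?_)
    · rw [← eq_maximalIdeal hπmax, RingHom.mem_ker, ← MvPowerSeries.coeff_map,
        hE.1 ((RingHom.mem_ker.1 hz).trans (map_zero E).symm), map_zero]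
    · show E (MvPowerSeries.map π (MvPowerSeries.C c)) = 0
      rw [← eq_maximalIdeal hπmax] at hc
      rw [MvPowerSeries.map_C, RingHom.mem_ker.1 hc, map_zero, map_zero]
  have hcomm : ∀ s, πR (algebraMap S R s) = Ideal.Quotient.mk mS (algebraMap S B' s) := fun s => by
    rw [hSR]
    show E (MvPowerSeries.map π (MvPowerSeries.C (f s))) = _
    rw [MvPowerSeries.map_C, hEC, hπf]
    exact σ.commutes (residue S s)
  let eR := RingHom.quotientKerEquivOfSurjective hπR
  haveI : Nontrivial (R ⧸ RingHom.ker πR) := eR.toEquiv.nontrivial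
  haveI : IsLocalRing (R ⧸ RingHom.ker πR) := .of_surjective' (Ideal.Quotient.mk _) Ideal.Quotient.mk_surjective
  have hmQ : (maximalIdeal R).map (Ideal.Quotient.mk (RingHom.ker πR)) = maximalIdeal (R ⧸ RingHom.ker πR) :=
    IsLocalRing.map_maximalIdeal_of_surjective (R := R) (S := R ⧸ RingHom.ker πR)
      (Ideal.Quotient.mk _) Ideal.Quotient.mk_surjective
  haveI : IsHausdorff ((maximalIdeal R).map (Ideal.Quotient.mk (RingHom.ker πR))) (R ⧸ RingHom.ker πR) := by
    rw [hmQ]; exact IsHausdorff.of_isLocalRing _ _ (maximalIdeal.isMaximal _).ne_top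
  let u : B' →ₐ[S] R ⧸ RingHom.ker πR :=
    { eR.symm.toRingHom.comp (Ideal.Quotient.mk mS) with
      commutes' := fun s => by
        show eR.symm (Ideal.Quotient.mk mS (algebraMap S B' s)) = _
        rw [← hcomm, RingEquiv.symm_apply_eq]
        rfl }
  obtain ⟨v, -, hv⟩ := FSAdic12.lift_to_complete (maximalIdeal S) (maximalIdeal B') (maximalIdeal R) hfs'
    ⟨1, by rw [pow_one]; exact ((local_hom_TFAE (algebraMap S R)).out 0 2).mp ‹_›⟩ (RingHom.ker πR)
    ⟨1, by rw [pow_one]; exact le_maximalIdeal (RingHom.ker_ne_top πR)⟩ u ⟨1, by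
      rw [pow_one, hmQ, Ideal.map_le_iff_le_comap]
      intro b hb
      refine (mem_maximalIdeal _).mpr fun hu => ?_
      have h1 := hu.map eR
      rw [show eR (u.toRingHom b) = Ideal.Quotient.mk mS b from eR.apply_symm_apply _] at h1
      exact (mem_maximalIdeal _).mp (map_nonunit (Ideal.Quotient.mk mS) b hb) h1⟩
  have hvb : ∀ b, πR (v b) = Ideal.Quotient.mk mS b := fun b => by
    have h1 : eR (Ideal.Quotient.mk _ (v b)) = eR (u b) := congrArg eR (AlgHom.congr_fun hv b)
    exact h1.trans (eR.apply_symm_apply _)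
  haveI : IsLocalHom v.toRingHom := ⟨fun b hb => by
    by_contra hu
    have h1 := hb.map πR
    rw [show πR (v.toRingHom b) = Ideal.Quotient.mk mS b from hvb b] at h1
    exact (mem_maximalIdeal _).1 (map_nonunit (Ideal.Quotient.mk mS) b ((mem_maximalIdeal _).2 hu)) h1⟩
  have hbij : Function.Bijective v := Cohen12.bijective_of_flat_fibre v (fun y => by
    obtain ⟨x, hx⟩ := Ideal.Quotient.mk_surjective (πR y)
    refine ⟨x, ?_⟩
    rw [← hkerR, RingHom.mem_ker, map_sub, hvb, hx, sub_self]) fun x hx => by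
    rw [← hkerR, RingHom.mem_ker, hvb] at hx
    exact Ideal.Quotient.eq_zero_iff_mem.1 hx
  refine ⟨C, inferInstance, inferInstance, hCN, hc, f.comp (algebraMap A S), n,
    v.toRingHom.comp (algebraMap B B'), ?_, RingHom.isLocalHom_comp _ _, ?_, ?_, fun a => ?_⟩
  · exact RingHom.Flat.comp (RingHom.flat_algebraMap_iff.2 inferInstance) hflat
  · exact RingHom.Flat.comp (RingHom.flat_algebraMap_iff.2 inferInstance) (RingHom.Flat.of_bijective hbij)
  · rw [← Ideal.map_map, hS, hmC]
  · show v (algebraMap B B' (algebraMap A B a)) = _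
    rw [← IsScalarTower.algebraMap_apply, IsScalarTower.algebraMap_apply A S B', AlgHom.commutes, hSR]
    rfl

end Groth.Agent.ParaF26
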